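import Cfsg.Agent.OddCyclic.L32.ConfD

/-!
# S0342, (C2), [Bc] section 1: `Conf` from `Lev` for `N_G(L)`
-/

set_option autoImplicit false
set_option linter.unusedSectionVars false

namespace Cfsg.Agent.OddCyclic.L32

open Subgroup Cfsg Cfsg.Agent.ZN Cfsg.Agent.MinSimple Cfsg.Agent.OddCyclic.UniStruct
open Cfsg.Agent.ZN.Block (o2_isPGroup conj_mem_of_normalizer conj_mem_of_normalizer' le_normalizer_of_forall)
open Cfsg.Agent.OddCyclic.T1Defs (OddCyc)
open Cfsg.Agent.OddCyclic.RedTy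

universe u

variable {G : Type u} [Group G] [Finite G] {S : Sylow 2 G} {T L₀ L : Subgroup G}

theorem mem_AA_of {T : Subgroup G} (h1 : jj (S : Subgroup G) ≤ T) (h2 : T ≤ S) {A : Subgroup G}
    (hA : A ∈ ChoiceBase.AA T) : A ∈ ChoiceBase.AA (S : Subgroup G) := by
  have hm := ChoiceBase.mm_eq_of_jj_le h1 h2
  rw [ChoiceBase.mem_AA_iff] at hA ⊢
  exact ⟨hA.1, hA.2.1.trans h2, by rw [← hm]; exact hA.2.2⟩

theorem normalizer_le_normalizer_o2 (L : Subgroup G) : normalizer (L : Set G) ≤ normalizer (o2 L : Set G) := by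
  intro m hm
  rw [ChoiceBase.mem_normalizer_iff_cj, ← ChoiceSit.o2_cj, ChoiceBase.cj_eq_of_mem_normalizer hm]

theorem Lev.exists_conf (h : Lev S (normalizer (L : Set G)) T (RedX.mod (normalizer (L : Set G)) T) L₀ L)
    (hc : OddCyc G) (hTS : T = (S : Subgroup G) ⊓ normalizer (L : Set G)) (hL : o2 L ≠ ⊥)
    (huniq : ∀ X : Subgroup G, o2 X ≠ ⊥ → L ≤ X → jj (S : Subgroup G) ≤ X → X ≤ normalizer (L : Set G))
    (hmv : ∃ z ∈ zc T, ∃ l ∈ L, l * z ≠ z * l) : ∃ (O₁ O A : Subgroup G) (ξ x : G), Conf S T L O₁ O A ξ x := by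
  obtain ⟨ξ, hξL, hξ3, hξ1, hξJ⟩ := h.exists_x
  have hf3 : Fact (Nat.Prime 3) := ⟨Nat.prime_three⟩
  have hξo : orderOf ξ = 3 := orderOf_eq_prime hξ3 hξ1
  have hTs : T ≤ S := by rw [hTS]; exact inf_le_left
  have hcases := fun (z : G) (hz : z ∈ zc T) => h.pz_cases hc hξL hξ3 hξ1 hξJ hz
  obtain ⟨z, hz, l, hl, hlz⟩ := hmv
  obtain ⟨⟨N₀, n₀⟩, hp₀, -, -, -, -, hp₀1⟩ := (hcases z hz).resolve_left fun h1 => hlz (h1.1 l hl)
  obtain ⟨p₀, hpp₀⟩ : ∃ p₀, p₀ = pz ξ z := ⟨_, rfl⟩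
  rw [← hpp₀] at n₀ hp₀ hp₀1
  obtain ⟨A, hA, hAY⟩ : ∃ A ∈ ChoiceBase.AA T, ¬ A ≤ centralizer ((RedX.mod (normalizer (L : Set G)) T : Subgroup G) : Set G) := by
    by_contra hcon
    push Not at hcon
    have h1 : jj T ≤ centralizer ((RedX.mod (normalizer (L : Set G)) T : Subgroup G) : Set G) := by
      rw [ChoiceBase.jj_eq]
      exact sSup_le hcon
    have h2 := h.bc.four
    rw [inf_eq_left.2 h1, Subgroup.relIndex_self] at h2
    norm_num at h2
  obtain ⟨u, hu⟩ := h.exists_pu n₀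
  obtain ⟨x, hx, hxg⟩ := hu.exists_gen h n₀ hA hAY
  have hTX := h.yc.TX
  have hξX := h.cmp.cp.le hξL
  have hxX := h.cmp.cp.le hx.uL
  have hxZ : ∀ z ∈ zc T, x * z = z * x := fun z hz => hx.cent_zc h n₀ hz
  have key₁ : ∀ {N : Subgroup G} {p : G},
      Nt S (normalizer (L : Set G)) T (RedX.mod (normalizer (L : Set G)) T) L N p ξ → oo₁ S T L N = o2 (T ⊔ zpowers ξ) :=
    fun {N p} n => eq_o2 hTX h.yc.two h.yc.syl hξX (h.oo₁_le n) (h.oo₁_rel n) (h.T_le_oo₁ n)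
      (n.oo₁_norm h (le_sup_left (b := T) hξL) hξJ) hξo fun t ht ht' => h.inv₁ n ht ht'
  have key : ∀ {N : Subgroup G} {p : G},
      Nt S (normalizer (L : Set G)) T (RedX.mod (normalizer (L : Set G)) T) L N p ξ → x * p = p * x →
        oo L T N p = o2 (T ⊔ zpowers x) :=
    fun {N p} n hxp => eq_o2 hTX h.yc.two h.yc.syl hxX (h.oo_le n) (h.oo_rel n) (h.T_le_oo n)
      ((⟨hx.uL, hx.u3, hx.u1, hxp⟩ : Pu L p x).u_norm h n) hx.ord
      fun t ht ht' => (⟨hx.uL, hx.u3, hx.u1, hxp⟩ : Pu L p x).inv_mem_oo h n ht ht'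
  have e₁ := key₁ n₀
  have e := key n₀ hx.up
  refine ⟨o2 (T ⊔ zpowers ξ), o2 (T ⊔ zpowers x), A, ξ, x,
    { sev := h.cmp.sev
      bau_le := h.bau
      T_eq := hTS
      syl := h.yc.syl
      loc := ?_
      uniq := huniq
      lev := ⟨L₀, h⟩
      el3 := h.cmp.el3
      ξL := hξL
      ξ3 := hξo
      ξJ := hξJ
      O₁_le := by rw [← e₁]; exact h.oo₁_le n₀
      O₁_rel := by rw [← e₁]; exact h.oo₁_rel n₀
      O₁_T := by rw [← e₁]; exact h.T_le_oo₁ n₀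
      O₁_ξ := by rw [← e₁]; exact n₀.oo₁_norm h (le_sup_left (b := T) hξL) hξJ
      inv₁ := by rw [← e₁]; exact fun t ht ht' => h.inv₁ n₀ ht ht'
      J_le := by rw [← e₁]; exact h.J_le_oo₁
      xL := hx.uL
      x3 := hx.ord
      xZ := hxZ
      O_le := by rw [← e]; exact h.oo_le n₀
      O_rel := by rw [← e]; exact h.oo_rel n₀
      O_T := by rw [← e]; exact h.T_le_oo n₀
      O_x := by rw [← e]; exact hx.u_norm h n₀
      inv := by rw [← e]; exact fun t ht ht' => hx.inv_mem_oo h n₀ ht ht'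
      A_mem := mem_AA_of h.J_le_T hTs hA
      A_not := by rw [← e]; exact h.A_not n₀ hA hAY
      gen_x := hxg
      E_not := by rw [← e, ← e₁]; exact hx.E_not h n₀ hA hAY
      gen := hx.gen h n₀
      pz_mem := ?_
      rz_mem := ?_
      rz_cent := ?_
      eq_mul := ?_
      pz_rz := ?_
      moved := ⟨z, hz, by rw [← hpp₀]; exact hp₀1⟩
      nat := ?_ }⟩
  · -- 2-local
    refine ⟨o2 L, o2_isPGroup L, hL, le_antisymm (normalizer_le_normalizer_o2 L) ?_⟩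
    refine huniq _ ?_ (le_normalizer.trans (normalizer_le_normalizer_o2 L))
      (h.cmp.sev.norm.trans (normalizer_le_normalizer_o2 L))
    intro h0
    have h1 : o2 L ≤ o2 (normalizer (o2 L : Set G)) := Block.le_o2 (o2_isPGroup L) le_normalizer le_rfl
    rw [h0, le_bot_iff] at h1
    exact hL h1
  · intro z hz
    rcases hcases z hz with ⟨-, h1, -⟩ | ⟨-, h1, -⟩
    · rw [h1]; exact one_mem _
    · exact h1
  · intro z hz
    rcases hcases z hz with ⟨-, -, h1⟩ | ⟨-, -, h1, -⟩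
    · rw [h1]; exact hz
    · exact h1
  · intro z hz
    rcases hcases z hz with ⟨h1, -, h2⟩ | ⟨-, -, -, h1, -⟩
    · rw [h2]; exact h1
    · exact h1
  · intro z hz
    rcases hcases z hz with ⟨-, h1, h2⟩ | ⟨-, -, -, -, h1, -⟩
    · rw [h1, h2, one_mul]
    · exact h1
  · intro z hz
    rcases hcases z hz with ⟨-, h1, -⟩ | ⟨-, -, -, -, -, h1, -⟩
    · rw [h1, rz]; group
    · exact h1
  · intro p hp hp1 hpr
    rcases hcases p hp with ⟨-, -, h1⟩ | ⟨⟨N, n⟩, -, -, -, h1, -, -⟩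
    · exact absurd (by rw [← h1]; exact hpr) hp1
    · have hpp : pz ξ p = p := by
        rw [hpr, mul_one] at h1
        exact h1.symm
      rw [hpp] at n
      have hxp := hxZ p hp
      have hxu : Pu L p x := ⟨hx.uL, hx.u3, hx.u1, hxp⟩
      refine ⟨N, { toNt := n, memO₁ := ?_, memO := ?_, xfix := ?_, tr := ?_ }⟩
      · intro g hg
        rw [← key₁ n]
        exact mem_oo₁ n hg
      · intro g hg
        rw [← key n hxp]
        exact mem_oo n hg
      · intro m hm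
        refine ⟨fun h2 => hxu.fix h n hm h2, ?_⟩
        rintro (rfl | rfl)
        · rw [mul_one, one_mul]
        · exact hxp
      · intro c hcN hcJ
        obtain ⟨a, ha, hav⟩ := h.exists_a n hA hAY (mem_pl.2 ⟨hcN, hcJ⟩)
        refine ⟨a, ha, fun m hm hmJ => hav m hm fun h2 => hmJ (mem_pl.1 h2).2⟩

end Cfsg.Agent.OddCyclic.L32
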