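import Cfsg.Agent.OddCyclic.L32.LevN

/-!
# S0342, (C2), [Bc] section 1: the configuration

`Conf S T L O₁ O A ξ x` (`M* = N_G(L)`, `M = L T`):
* `L` perfect, `L/O₂(L) = L₃(2)`, `T = S ∩ N_G(L)` a Sylow 2-subgroup of `N_G(L)`, `B ≤ T`;
* `P₁ = T⟨ξ⟩`, `ξ ∈ N_L(J)` of order 3, `O₁ = O₂(P₁) ≥ J`, `P₁/O₁ = S₃`;
* `P = T⟨x⟩`, `x ∈ C_L(Ω₁Z(T))` of order 3, `O = O₂(P)`, `P/O = S₃`;
* `A ∈ 𝒜(S)`, `A ≰ O`, `x ∈ ⟨A, A^x⟩`, `A^x ∩ O ≰ O₁`;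
* for `z ∈ Ω₁Z(T)`: `z = p_z r_z`, `p_z = z^ξ z^{ξ²} ∈ Ω₁Z(T)`, `r_z = z z^ξ z^{ξ²} ∈ C(L)`;
* for `1 ≠ p ∈ Ω₁Z(T)` with `p p^ξ p^{ξ²} = 1`: `N = {1} ∪ p^L ⊴ M*` of order 8 (`Np`).
-/

set_option autoImplicit false
set_option linter.unusedSectionVars false

namespace Cfsg.Agent.OddCyclic.L32

open Subgroup Cfsg Cfsg.Agent.ZN Cfsg.Agent.MinSimple Cfsg.Agent.OddCyclic.UniStruct
open Cfsg.Agent.OddCyclic.RedTy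

universe u

variable {G : Type u} [Group G]

/-- `r_z = z · z^ξ · z^{ξ²}` -/
def rz (ξ z : G) : G := z * (ξ * z * ξ⁻¹) * (ξ * ξ * z * (ξ * ξ)⁻¹)

/-- `p_z = z^ξ · z^{ξ²}` -/
def pz (ξ z : G) : G := (ξ * z * ξ⁻¹) * (ξ * ξ * z * (ξ * ξ)⁻¹)

variable [Finite G]

/-- the natural module `N = {1} ∪ p^L` of `p`, with the action of the parabolics -/
structure Np (S : Sylow 2 G) (T L O₁ O A N : Subgroup G) (ξ x p : G) : Prop extends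
    Nt S (normalizer (L : Set G)) T (RedX.mod (normalizer (L : Set G)) T) L N p ξ where
  /-- `O₁ = C_{LT}(H_p)`, `H_p = {1, p, p^ξ, p p^ξ} = C_N(J)` -/
  memO₁ : ∀ g ∈ L ⊔ T, (g ∈ O₁ ↔ g * p = p * g ∧ g * (ξ * p * ξ⁻¹) = (ξ * p * ξ⁻¹) * g)
  /-- `O = C_{LT}(N/⟨p⟩)` -/
  memO : ∀ g ∈ L ⊔ T, (g ∈ O ↔ ∀ n ∈ N, g * n * g⁻¹ = n ∨ g * n * g⁻¹ = p * n)
  /-- `C_N(x) = ⟨p⟩` -/
  xfix : ∀ n ∈ N, (x * n = n * x ↔ n = 1 ∨ n = p)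
  /-- `A` induces all transvections with axis `H_p` -/
  tr : ∀ h ∈ N, (∀ j ∈ jj (S : Subgroup G), j * h = h * j) →
    ∃ a ∈ A, ∀ n ∈ N, ¬ (∀ j ∈ jj (S : Subgroup G), j * n = n * j) → a * n * a⁻¹ = h * n

/-- **the configuration of [Bc]** -/
structure Conf (S : Sylow 2 G) (T L O₁ O A : Subgroup G) (ξ x : G) : Prop where
  /-- `⁅L, L⁆ = L`, `L/O₂(L)` simple of order 168, `J ≤ N(L)`, `⁅L, J⁆ ≰ O₂(L)` -/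
  sev : Sev S L
  bau_le : bau (S : Subgroup G) ≤ T
  T_eq : T = (S : Subgroup G) ⊓ normalizer (L : Set G)
  syl : ¬ 2 ∣ T.relIndex (normalizer (L : Set G))
  loc : IsTwoLocal (normalizer (L : Set G))
  uniq : ∀ X : Subgroup G, o2 X ≠ ⊥ → L ≤ X → jj (S : Subgroup G) ≤ X → X ≤ normalizer (L : Set G)
  lev : ∃ L₀ : Subgroup G, Lev S (normalizer (L : Set G)) T (RedX.mod (normalizer (L : Set G)) T) L₀ L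
  el3 : ∀ g ∈ normalizer (L : Set G), El3 g → g ∈ L ∧ g ^ 3 = 1
  /- `P₁ = T⟨ξ⟩` -/
  ξL : ξ ∈ L
  ξ3 : orderOf ξ = 3
  ξJ : ξ ∈ normalizer (jj (S : Subgroup G) : Set G)
  O₁_le : O₁ ≤ T
  O₁_rel : O₁.relIndex T = 2
  O₁_T : T ≤ normalizer (O₁ : Set G)
  O₁_ξ : ξ ∈ normalizer (O₁ : Set G)
  inv₁ : ∀ t ∈ T, t ∉ O₁ → t * ξ * t⁻¹ * ξ ∈ O₁
  J_le : jj (S : Subgroup G) ≤ O₁
  /- `P = T⟨x⟩` -/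
  xL : x ∈ L
  x3 : orderOf x = 3
  xZ : ∀ z ∈ zc T, x * z = z * x
  O_le : O ≤ T
  O_rel : O.relIndex T = 2
  O_T : T ≤ normalizer (O : Set G)
  O_x : x ∈ normalizer (O : Set G)
  inv : ∀ t ∈ T, t ∉ O → t * x * t⁻¹ * x ∈ O
  A_mem : A ∈ ChoiceBase.AA (S : Subgroup G)
  A_not : ¬ A ≤ O
  gen_x : x ∈ A ⊔ A.map (MulAut.conj x).toMonoidHom
  E_not : ¬ A.map (MulAut.conj x).toMonoidHom ⊓ O ≤ O₁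
  gen : L ≤ T ⊔ zpowers ξ ⊔ zpowers x
  /- `Ω₁Z(T)` -/
  pz_mem : ∀ z ∈ zc T, pz ξ z ∈ zc T
  rz_mem : ∀ z ∈ zc T, rz ξ z ∈ zc T
  rz_cent : ∀ z ∈ zc T, ∀ l ∈ L, l * rz ξ z = rz ξ z * l
  eq_mul : ∀ z ∈ zc T, z = pz ξ z * rz ξ z
  pz_rz : ∀ z ∈ zc T, rz ξ (pz ξ z) = 1
  moved : ∃ z ∈ zc T, pz ξ z ≠ 1
  nat : ∀ p ∈ zc T, p ≠ 1 → rz ξ p = 1 → ∃ N : Subgroup G, Np S T L O₁ O A N ξ x p

end Cfsg.Agent.OddCyclic.L32
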