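import Cfsg.Agent.OddCyclic.AOneSit
import Cfsg.Agent.OddCyclic.T1Tools
import Cfsg.Agent.MinSimple.FFBlock

/-!
# S0342, leaf [Bc]: the subgroup `F = V ∩ V^x`

`A` is an elementary abelian 2-subgroup of maximal order, `V` is elementary abelian and centralised by `A`, `O` is a
subgroup normalising `V`, normalised by `x` (of order 3) with `|A : A ∩ O| = 2`, `A` inverts `x` modulo `O`,
`x ∈ ⟨A, A^x⟩`.  (`O = O₂(P)`, `P = T₁⟨x⟩` the parabolic with `A ≰ O₂(P)`.)

* `mem_F`, `F_eq`: `F = V ∩ V^x = C_V(x) = C_V(A^x)`;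
* `card_le`, `index_le`: `|V : F| ≤ |A^x : C_{A^x}(V)| ≤ 2 |E : C_E(V)|`, `E = A^x ∩ O`;
* `comm_mem`: if `[V, V^x] = 1` and `|V : F| = 2 |E : C_E(V)|` then `[V, E] ≤ F`;
* `off`: `|V : C_V(V^x)| = |V^x : C_{V^x}(V)|`;
* `three`: elements of order 3 normalising `D ≤ F` centralise `D`.
-/

set_option autoImplicit false
set_option linter.unusedSectionVars false

namespace Cfsg.Agent.OddCyclic.L32.FD

open Subgroup
open Cfsg.Agent.OddCyclic.T1Defs (OddCyc)

variable {G : Type*} [Group G]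

/-- the conjugate `g H g⁻¹` -/
abbrev cj (g : G) (H : Subgroup G) : Subgroup G := H.map (MulAut.conj g).toMonoidHom

theorem mem_cj {g a : G} {H : Subgroup G} : a ∈ cj g H ↔ g⁻¹ * a * g ∈ H := by
  constructor
  · rintro ⟨h, hh, rfl⟩
    have : g⁻¹ * (MulAut.conj g).toMonoidHom h * g = h := by
      change g⁻¹ * (g * h * g⁻¹) * g = h
      group
    rwa [this]
  · intro h
    refine ⟨_, h, ?_⟩
    change g * (g⁻¹ * a * g) * g⁻¹ = a
    group

theorem conj_mem_cj {g a : G} {H : Subgroup G} (h : a ∈ H) : g * a * g⁻¹ ∈ cj g H := ⟨a, h, rfl⟩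

theorem cj_cj (g h : G) (H : Subgroup G) : cj g (cj h H) = cj (g * h) H := by
  ext a
  rw [mem_cj, mem_cj, mem_cj]
  have : h⁻¹ * (g⁻¹ * a * g) * h = (g * h)⁻¹ * a * (g * h) := by group
  rw [this]

theorem cj_one (H : Subgroup G) : cj 1 H = H := by
  ext a
  rw [mem_cj, inv_one, one_mul, mul_one]

theorem cj_of_mem {g : G} {H : Subgroup G} (h : g ∈ normalizer (H : Set G)) : cj g H = H := by
  ext a
  rw [mem_cj]
  have := mem_normalizer_iff.1 (inv_mem h) a
  rw [inv_inv] at this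
  exact this.symm

theorem card_cj (g : G) (H : Subgroup G) : Nat.card (cj g H) = Nat.card H :=
  Nat.card_congr (H.equivMapOfInjective _ (MulAut.conj g).injective).symm.toEquiv

theorem cj_inf (g : G) (H K : Subgroup G) : cj g (H ⊓ K) = cj g H ⊓ cj g K := by
  ext a
  simp only [mem_cj, mem_inf]

theorem cj_le {g : G} {H K : Subgroup G} (h : H ≤ K) : cj g H ≤ cj g K := map_mono h

theorem cj_centralizer (g : G) (H : Subgroup G) :
    cj g (centralizer (H : Set G)) = centralizer (cj g H : Set G) := by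
  ext a
  rw [mem_cj, mem_centralizer_iff, mem_centralizer_iff]
  constructor
  · rintro h _ ⟨b, hb, rfl⟩
    have h1 := h b hb
    change g * b * g⁻¹ * a = a * (g * b * g⁻¹)
    calc g * b * g⁻¹ * a = g * (b * (g⁻¹ * a * g)) * g⁻¹ := by group
      _ = g * (g⁻¹ * a * g * b) * g⁻¹ := by rw [h1]
      _ = a * (g * b * g⁻¹) := by group
  · intro h b hb
    have h1 := h _ (conj_mem_cj (g := g) hb)
    calc b * (g⁻¹ * a * g) = g⁻¹ * (g * b * g⁻¹ * a) * g := by group
      _ = g⁻¹ * (a * (g * b * g⁻¹)) * g := by rw [h1]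
      _ = g⁻¹ * a * g * b := by group

theorem relIndex_cj (g : G) (H K : Subgroup G) : (cj g H).relIndex (cj g K) = H.relIndex K :=
  relIndex_map_map_of_injective H K (MulAut.conj g).injective

/-- involutions generate abelian groups -/
theorem comm_of_sq {H : Subgroup G} (h : ∀ a ∈ H, a * a = 1) {a b : G} (ha : a ∈ H) (hb : b ∈ H) : a * b = b * a := by
  have h1 := h _ (mul_mem ha hb)
  have h2 := h a ha
  have h3 := h b hb
  calc a * b = a * (a * b * (a * b)) * b := by rw [h1, mul_one]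
    _ = (a * a) * (b * a) * (b * b) := by group
    _ = b * a := by rw [h2, h3]; group

theorem inv_of_sq {a : G} (h : a * a = 1) : a⁻¹ = a := inv_eq_of_mul_eq_one_left h

/-- the data -/
structure Dt (V A O : Subgroup G) (x : G) : Prop where
  vsq : ∀ v ∈ V, v * v = 1
  asq : ∀ a ∈ A, a * a = 1
  comm : ∀ v ∈ V, ∀ a ∈ A, v * a = a * v
  max : ∀ B : Subgroup G, (∀ b ∈ B, b * b = 1) → Nat.card B ≤ Nat.card A
  ON : O ≤ normalizer (V : Set G)
  xO : x ∈ normalizer (O : Set G)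
  x3 : x ^ 3 = 1
  gen : x ∈ A ⊔ cj x A
  nle : ¬ A ≤ O
  two : (A ⊓ O).relIndex A ≤ 2
  swap : ∀ a ∈ A, a ∉ O → ∃ o ∈ O, a * x * a⁻¹ = x⁻¹ * o

namespace Dt

variable {V A O : Subgroup G} {x : G}

theorem asq' (h : Dt V A O x) (g : G) : ∀ a ∈ cj g A, a * a = 1 := by
  rintro _ ⟨a, ha, rfl⟩
  rw [← map_mul, h.asq a ha, map_one]

theorem vsq' (h : Dt V A O x) (g : G) : ∀ a ∈ cj g V, a * a = 1 := by
  rintro _ ⟨a, ha, rfl⟩
  rw [← map_mul, h.vsq a ha, map_one]

theorem A_le (h : Dt V A O x) : A ≤ centralizer (V : Set G) := fun a ha =>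
  mem_centralizer_iff.2 fun v hv => h.comm v hv a ha

theorem V_le (h : Dt V A O x) : V ≤ centralizer (A : Set G) := fun v hv =>
  mem_centralizer_iff.2 fun a ha => (h.comm v hv a ha).symm

/-- `F = C_V(x)` -/
theorem mem_F (h : Dt V A O x) {v : G} : v ∈ V ⊓ cj x V ↔ v ∈ V ∧ x * v = v * x := by
  constructor
  · intro hv
    have h1 : A ⊔ cj x A ≤ centralizer ({v} : Set G) := by
      refine sup_le (fun a ha => ?_) fun a ha => ?_
      · rw [mem_centralizer_singleton_iff]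
        exact h.comm v hv.1 a ha |>.symm
      · rw [mem_centralizer_singleton_iff]
        have h2 : cj x V ≤ centralizer (cj x A : Set G) := by
          rw [← cj_centralizer]
          exact cj_le h.V_le
        exact mem_centralizer_iff.1 (h2 hv.2) a ha
    exact ⟨hv.1, mem_centralizer_singleton_iff.1 (h1 h.gen)⟩
  · rintro ⟨hv, hx⟩
    refine ⟨hv, mem_cj.2 ?_⟩
    have : x⁻¹ * v * x = v := by rw [mul_assoc, ← hx]; group
    rwa [this]

theorem F_le_centralizer (h : Dt V A O x) : V ⊓ cj x V ≤ centralizer ({x} : Set G) := fun _ hv =>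
  mem_centralizer_singleton_iff.2 (h.mem_F.1 hv).2.symm

/-- `F = C_V(A^x)` -/
theorem F_eq (h : Dt V A O x) : V ⊓ cj x V = V ⊓ centralizer (cj x A : Set G) := by
  ext v
  constructor
  · intro hv
    refine ⟨hv.1, ?_⟩
    have h2 : cj x V ≤ centralizer (cj x A : Set G) := by
      rw [← cj_centralizer]
      exact cj_le h.V_le
    exact h2 hv.2
  · rintro ⟨hv, hv2⟩
    rw [h.mem_F]
    refine ⟨hv, ?_⟩
    have h1 : A ⊔ cj x A ≤ centralizer ({v} : Set G) := by
      refine sup_le (fun a ha => ?_) fun a ha => ?_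
      · rw [mem_centralizer_singleton_iff]
        exact h.comm v hv a ha |>.symm
      · rw [mem_centralizer_singleton_iff]
        exact mem_centralizer_iff.1 hv2 a ha
    exact mem_centralizer_singleton_iff.1 (h1 h.gen)

/-- `cj x⁻¹` and `cj x` fix `F` -/
theorem cj_F (h : Dt V A O x) {g : G} (hg : g ∈ zpowers x) : cj g (V ⊓ cj x V) = V ⊓ cj x V := by
  refine cj_of_mem (centralizer_le_normalizer _ ?_)
  rw [mem_centralizer_iff]
  intro v hv
  obtain ⟨n, rfl⟩ := hg
  exact ((show Commute x v from (h.mem_F.1 hv).2).zpow_left n).symm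

/-- `x⁻¹ x⁻¹ = x` -/
theorem inv_mul_inv (h : Dt V A O x) : x⁻¹ * x⁻¹ = x := by
  have h1 : x * x * x = 1 := by rw [← h.x3, pow_succ, pow_two]
  calc x⁻¹ * x⁻¹ = x⁻¹ * x⁻¹ * (x * x * x) := by rw [h1, mul_one]
    _ = x := by group

theorem mul_self (h : Dt V A O x) : x * x = x⁻¹ := by
  have h1 : x * x * x = 1 := by rw [← h.x3, pow_succ, pow_two]
  exact eq_inv_of_mul_eq_one_left h1

theorem V1_inf_V2 (h : Dt V A O x) : cj x V ⊓ cj x⁻¹ V = V ⊓ cj x V := by
  have h1 := h.cj_F (mem_zpowers x)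
  rw [cj_inf, cj_cj, h.mul_self] at h1
  exact h1

theorem V_inf_V2 (h : Dt V A O x) : V ⊓ cj x⁻¹ V = V ⊓ cj x V := by
  have h1 := h.cj_F (g := x⁻¹) (inv_mem (mem_zpowers x))
  rw [cj_inf, cj_cj, inv_mul_cancel, cj_one, inf_comm] at h1
  exact h1

variable [Finite G]

/-- `|W| |C_B(W)| ≤ |B| |C_W(B)|` -/
theorem card_max {W B : Subgroup G} (hW : ∀ w ∈ W, w * w = 1) (hB : ∀ b ∈ B, b * b = 1)
    (hmax : ∀ X : Subgroup G, (∀ b ∈ X, b * b = 1) → Nat.card X ≤ Nat.card B) :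
    Nat.card W * Nat.card (B ⊓ centralizer (W : Set G) : Subgroup G) ≤
      Nat.card B * Nat.card (W ⊓ centralizer (B : Set G) : Subgroup G) := by
  set C : Subgroup G := B ⊓ centralizer (W : Set G) with hC
  have hCV : C ≤ normalizer (W : Set G) := inf_le_right.trans (centralizer_le_normalizer _)
  have h1 := T1Tools.card_sup_mul hCV
  have h2 : Nat.card (W ⊔ C : Subgroup G) ≤ Nat.card B := by
    refine hmax _ fun b hb => ?_
    obtain ⟨c, hc, v, hv, rfl⟩ := MinSimple.FFBlock.mem_sup_of_le_normalizer hCV (by rwa [sup_comm] at hb)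
    have h3 := mem_centralizer_iff.1 hc.2 v hv
    calc c * v * (c * v) = (c * c) * (v * v) := by rw [mul_assoc, ← mul_assoc v, h3]; group
      _ = 1 := by rw [hW v hv, hB c hc.1, mul_one]
  have h3 : W ⊓ C ≤ W ⊓ centralizer (B : Set G) := by
    refine le_inf inf_le_left fun v hv => ?_
    rw [mem_centralizer_iff]
    intro a ha
    exact comm_of_sq hB ha hv.2.1
  have h4 : Nat.card (W ⊓ C : Subgroup G) ≤ Nat.card (W ⊓ centralizer (B : Set G) : Subgroup G) := card_le_of_le h3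
  rw [← h1]
  exact Nat.mul_le_mul h2 h4

/-- `|W : C_W(B)| ≤ |B : C_B(W)|` -/
theorem index_max {W B : Subgroup G} (hW : ∀ w ∈ W, w * w = 1) (hB : ∀ b ∈ B, b * b = 1)
    (hmax : ∀ X : Subgroup G, (∀ b ∈ X, b * b = 1) → Nat.card X ≤ Nat.card B) :
    (W ⊓ centralizer (B : Set G)).relIndex W ≤ (B ⊓ centralizer (W : Set G)).relIndex B := by
  have h1 := card_max hW hB hmax
  have h2 := T1Tools.card_mul_relIndex (inf_le_left : W ⊓ centralizer (B : Set G) ≤ W)
  have h3 := T1Tools.card_mul_relIndex (inf_le_left : B ⊓ centralizer (W : Set G) ≤ B)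
  rw [← h2, ← h3] at h1
  have h4 : 0 < Nat.card (W ⊓ centralizer (B : Set G) : Subgroup G) := Nat.card_pos
  have h5 : 0 < Nat.card (B ⊓ centralizer (W : Set G) : Subgroup G) := Nat.card_pos
  have h6 := Nat.mul_pos h4 h5
  nlinarith

theorem max' (h : Dt V A O x) (g : G) (X : Subgroup G) (hX : ∀ b ∈ X, b * b = 1) : Nat.card X ≤ Nat.card (cj g A) := by
  rw [card_cj]
  exact h.max X hX

/-- `|V : F| ≤ |A^x : C_{A^x}(V)|` -/
theorem index_le (h : Dt V A O x) : (V ⊓ cj x V).relIndex V ≤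
    (cj x A ⊓ centralizer (V : Set G)).relIndex (cj x A) := by
  rw [h.F_eq]
  exact index_max h.vsq (h.asq' x) (h.max' x)

/-- `E = A^x ∩ O` -/
theorem E_eq (h : Dt V A O x) : cj x A ⊓ O = cj x (A ⊓ O) := by
  rw [cj_inf, cj_of_mem h.xO]

theorem E_index (h : Dt V A O x) : (cj x A ⊓ O).relIndex (cj x A) ≤ 2 := by
  rw [h.E_eq, relIndex_cj]
  exact h.two

/-- if `C_E(V)` centralises `W` then `|A^x : C_{A^x}(W)| ≤ 2 |E : C_E(V)|` -/
theorem index_le_two (h : Dt V A O x) {W : Subgroup G} (hW : cj x A ⊓ O ⊓ centralizer (V : Set G) ≤ centralizer (W : Set G)) :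
    (cj x A ⊓ centralizer (W : Set G)).relIndex (cj x A) ≤
      2 * (cj x A ⊓ O ⊓ centralizer (V : Set G)).relIndex (cj x A ⊓ O) := by
  have h1 : cj x A ⊓ O ⊓ centralizer (V : Set G) ≤ cj x A ⊓ centralizer (W : Set G) :=
    le_inf (inf_le_left.trans inf_le_left) hW
  have h2 := relIndex_mul_relIndex (cj x A ⊓ O ⊓ centralizer (V : Set G)) (cj x A ⊓ O) (cj x A) inf_le_left inf_le_left
  calc (cj x A ⊓ centralizer (W : Set G)).relIndex (cj x A) ≤
      (cj x A ⊓ O ⊓ centralizer (V : Set G)).relIndex (cj x A) :=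
        relIndex_le_of_le_left h1 (by rw [relIndex]; exact index_ne_zero_of_finite)
    _ = (cj x A ⊓ O ⊓ centralizer (V : Set G)).relIndex (cj x A ⊓ O) * (cj x A ⊓ O).relIndex (cj x A) := h2.symm
    _ ≤ (cj x A ⊓ O ⊓ centralizer (V : Set G)).relIndex (cj x A ⊓ O) * 2 := Nat.mul_le_mul_left _ h.E_index
    _ = _ := mul_comm _ _

/-- `|V : F| ≤ 2 |E : C_E(V)|` -/
theorem index_le' (h : Dt V A O x) : (V ⊓ cj x V).relIndex V ≤
    2 * (cj x A ⊓ O ⊓ centralizer (V : Set G)).relIndex (cj x A ⊓ O) :=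
  h.index_le.trans (h.index_le_two inf_le_right)

theorem E_le (h : Dt V A O x) : cj x A ⊓ O ≤ centralizer ((V ⊓ cj x V : Subgroup G) : Set G) := by
  intro b hb
  rw [mem_centralizer_iff]
  intro v hv
  have h1 : v ∈ V ⊓ cj x V := hv
  rw [h.F_eq] at h1
  exact (mem_centralizer_iff.1 h1.2 b hb.1).symm

/-- `O` normalises all `V^{x^i}` -/
theorem O_le (h : Dt V A O x) {g : G} (hg : g ∈ zpowers x) : O ≤ normalizer (cj g V : Set G) := by
  intro o ho
  have hgO : g ∈ normalizer (O : Set G) := (zpowers_le.2 h.xO) hg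
  have h1 : g⁻¹ * o * g ∈ O := by
    have := (mem_normalizer_iff.1 (inv_mem hgO) o).1 ho
    rwa [inv_inv] at this
  have h2 := h.ON h1
  rw [mem_normalizer_iff] at h2 ⊢
  intro v
  rw [mem_cj, mem_cj]
  have h3 := h2 (g⁻¹ * v * g)
  have h4 : g⁻¹ * o * g * (g⁻¹ * v * g) * (g⁻¹ * o * g)⁻¹ = g⁻¹ * (o * v * o⁻¹) * g := by group
  rw [h4] at h3
  exact h3

theorem O_le_F (h : Dt V A O x) : O ≤ normalizer ((V ⊓ cj x V : Subgroup G) : Set G) := by
  intro o ho
  have h1 := h.ON ho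
  have h2 := h.O_le (mem_zpowers x) ho
  rw [mem_normalizer_iff] at h1 h2 ⊢
  intro v
  exact and_congr (h1 v) (h2 v)

theorem cent_le_F (_ : Dt V A O x) : centralizer (V : Set G) ≤ normalizer ((V ⊓ cj x V : Subgroup G) : Set G) :=
  (centralizer_le (fun _ hv => hv.1)).trans (centralizer_le_normalizer _)

theorem A_le_F (h : Dt V A O x) : A ≤ normalizer ((V ⊓ cj x V : Subgroup G) : Set G) := h.A_le.trans h.cent_le_F

/-- an element `a' ∈ A^x` with `V^{a'} = V^{x⁻¹}` -/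
theorem exists_swap (h : Dt V A O x) : ∃ a ∈ cj x A, cj a V = cj x⁻¹ V ∧ cj a (cj x⁻¹ V) = V := by
  obtain ⟨a, ha, haO⟩ := SetLike.not_le_iff_exists.1 h.nle
  obtain ⟨o, ho, he⟩ := h.swap a ha haO
  have h1 : cj (x * a * x⁻¹) (cj x⁻¹ V) = V := by
    rw [cj_cj]
    have h2 : x * a * x⁻¹ * x⁻¹ = o * a := by
      rw [mul_assoc, h.inv_mul_inv]
      calc x * a * x = x * (a * x * a⁻¹) * a := by group
        _ = o * a := by rw [he]; group
    rw [h2, ← cj_cj, cj_of_mem (centralizer_le_normalizer _ (h.A_le ha)), cj_of_mem (h.ON ho)]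
  refine ⟨x * a * x⁻¹, conj_mem_cj ha, ?_, h1⟩
  have h3 : (x * a * x⁻¹) * (x * a * x⁻¹) = 1 := h.asq' x _ (conj_mem_cj ha)
  have h4 := congrArg (cj (x * a * x⁻¹)) h1
  rw [cj_cj, h3, cj_one] at h4
  exact h4.symm

/-- `[V, V^x] = 1` and `|V : F| = 2 |E : C_E(V)|` imply `[V, E] ≤ F` -/
theorem comm_mem (h : Dt V A O x) (hc : ∀ v ∈ V, ∀ w ∈ cj x V, v * w = w * v)
    (he : 2 * (cj x A ⊓ O ⊓ centralizer (V : Set G)).relIndex (cj x A ⊓ O) ≤ (V ⊓ cj x V).relIndex V)
    {v b : G} (hv : v ∈ V) (hb : b ∈ cj x A ⊓ O) : v * b * v⁻¹ * b⁻¹ ∈ V ⊓ cj x V := by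
  set V1 := cj x V with hV1
  set V2 := cj x⁻¹ V with hV2
  -- pairwise commuting
  have c01 : V ≤ centralizer (V1 : Set G) := fun v hv => mem_centralizer_iff.2 fun w hw => (hc v hv w hw).symm
  have c12 : V1 ≤ centralizer (V2 : Set G) := by
    have := cj_le (g := x) c01
    rw [cj_centralizer, hV1, cj_cj, h.mul_self] at this
    exact this
  have c20 : V2 ≤ centralizer (V : Set G) := by
    have := cj_le (g := x⁻¹) c01
    rw [cj_centralizer, hV1, cj_cj, inv_mul_cancel, cj_one] at this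
    exact this
  have c00 : V ≤ centralizer (V : Set G) := fun v hv => mem_centralizer_iff.2 fun w hw => comm_of_sq h.vsq hw hv
  have c11 : V1 ≤ centralizer (V1 : Set G) := fun v hv => mem_centralizer_iff.2 fun w hw => comm_of_sq (h.vsq' x) hw hv
  have c22 : V2 ≤ centralizer (V2 : Set G) := fun v hv => mem_centralizer_iff.2 fun w hw =>
    comm_of_sq (h.vsq' x⁻¹) hw hv
  set W : Subgroup G := V ⊔ V1 ⊔ V2 with hW
  have cV : V ≤ centralizer (W : Set G) := by
    rw [← le_centralizer_iff]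
    exact sup_le (sup_le c00 (le_centralizer_iff.1 c01)) c20
  have cV1 : V1 ≤ centralizer (W : Set G) := by
    rw [← le_centralizer_iff]
    exact sup_le (sup_le c01 c11) (le_centralizer_iff.1 c12)
  have cV2 : V2 ≤ centralizer (W : Set G) := by
    rw [← le_centralizer_iff]
    exact sup_le (sup_le (le_centralizer_iff.1 c20) c12) c22
  have cW : W ≤ centralizer (W : Set G) := sup_le (sup_le cV cV1) cV2
  have hcomm : ∀ a ∈ W, ∀ b ∈ W, a * b = b * a := fun a ha b hb => mem_centralizer_iff.1 (cW hb) a ha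
  have sqsup : ∀ X Y : Subgroup G, X ≤ W → Y ≤ W → (∀ a ∈ X, a * a = 1) → (∀ a ∈ Y, a * a = 1) →
      ∀ a ∈ X ⊔ Y, a * a = 1 := by
    intro X Y hX hY hX2 hY2 a ha
    have hn : X ≤ normalizer (Y : Set G) := ((hX.trans cW).trans (centralizer_le hY)).trans
      (centralizer_le_normalizer _)
    obtain ⟨c, hc, d, hd, rfl⟩ := MinSimple.FFBlock.mem_sup_of_le_normalizer hn ha
    have h3 := hcomm d (hY hd) c (hX hc)
    calc c * d * (c * d) = (c * c) * (d * d) := by rw [mul_assoc, ← mul_assoc d, h3]; group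
      _ = 1 := by rw [hX2 c hc, hY2 d hd, mul_one]
  have hWsq : ∀ w ∈ W, w * w = 1 := sqsup _ _ le_sup_left le_sup_right
    (sqsup _ _ (le_sup_left.trans le_sup_left) (le_sup_right.trans le_sup_left) h.vsq (h.vsq' x)) (h.vsq' x⁻¹)
  obtain ⟨a, haA, ha1, ha2⟩ := h.exists_swap
  -- `C_E(V)` centralises `W`
  have hE : cj x A ⊓ O ⊓ centralizer (V : Set G) ≤ centralizer (W : Set G) := by
    intro b hb
    have hb1 : b ∈ centralizer (V1 : Set G) := by
      have h2 : cj x A ≤ centralizer (cj x V : Set G) := by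
        rw [← cj_centralizer]
        exact cj_le h.A_le
      exact h2 hb.1.1
    have hb2 : b ∈ centralizer (V2 : Set G) := by
      change b ∈ centralizer ((cj x⁻¹ V : Subgroup G) : Set G)
      rw [← ha1, ← cj_centralizer, mem_cj]
      have h3 : a⁻¹ * b * a = b := by
        rw [mul_assoc, comm_of_sq (h.asq' x) hb.1.1 haA]; group
      rw [h3]
      exact hb.2
    have h4 : W ≤ centralizer ({b} : Set G) := by
      refine sup_le (sup_le ?_ ?_) ?_
      all_goals
        intro w hw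
        rw [mem_centralizer_singleton_iff]
      · exact mem_centralizer_iff.1 hb.2 w hw
      · exact mem_centralizer_iff.1 hb1 w hw
      · exact mem_centralizer_iff.1 hb2 w hw
    rw [mem_centralizer_iff]
    intro w hw
    exact mem_centralizer_singleton_iff.1 (h4 hw)
  -- `W = V D`
  set D : Subgroup G := W ⊓ centralizer (cj x A : Set G) with hD
  have hi : D.relIndex W ≤ (V ⊓ cj x V).relIndex V :=
    (index_max hWsq (h.asq' x) (h.max' x)).trans ((h.index_le_two hE).trans he)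
  have hDV : V ⊓ D = V ⊓ cj x V := by
    rw [h.F_eq, hD, ← inf_assoc, inf_eq_left.2 (show V ≤ W from le_sup_left.trans le_sup_left)]
  have hVD : V ⊔ D = W := by
    have hn : D ≤ normalizer (V : Set G) := ((inf_le_left.trans cW).trans (centralizer_le
      (show V ≤ W from le_sup_left.trans le_sup_left))).trans (centralizer_le_normalizer _)
    have h1 := T1Tools.card_sup_mul hn
    rw [hDV] at h1
    have h2 := T1Tools.card_mul_relIndex (inf_le_left : V ⊓ cj x V ≤ V)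
    have h3 := T1Tools.card_mul_relIndex (inf_le_left : D ≤ W)
    have h4 : 0 < Nat.card (V ⊓ cj x V : Subgroup G) := Nat.card_pos
    have h5 : Nat.card W ≤ Nat.card (V ⊔ D : Subgroup G) := by
      rw [← h2] at h1
      have h6 : Nat.card (V ⊔ D : Subgroup G) = (V ⊓ cj x V).relIndex V * Nat.card D := by
        apply Nat.eq_of_mul_eq_mul_right h4
        rw [h1]; ring
      rw [h6, ← h3, mul_comm]
      exact Nat.mul_le_mul_right _ hi
    exact eq_of_le_of_card_ge (sup_le (le_sup_left.trans le_sup_left) inf_le_left) h5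
  have hV2D : V ≤ V2 ⊔ D := by
    have h1 : V2 ≤ V ⊔ D := by rw [hVD]; exact le_sup_right
    have h2 := cj_le (g := a) h1
    rw [ha2, cj, Subgroup.map_sup] at h2
    have h3 : cj a D = D := cj_of_mem (centralizer_le_normalizer _ (mem_centralizer_iff.2 fun d hd =>
      (mem_centralizer_iff.1 hd.2 a haA).symm))
    change V ≤ cj a V ⊔ cj a D at h2
    rwa [ha1, h3] at h2
  have hn : V2 ≤ normalizer (D : Set G) := ((cV2.trans (centralizer_le
      (show D ≤ W from inf_le_left))).trans (centralizer_le_normalizer _))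
  obtain ⟨v2, hv2, d, hd, rfl⟩ := MinSimple.FFBlock.mem_sup_of_le_normalizer hn (hV2D hv)
  have hdb : b * d = d * b := mem_centralizer_iff.1 hd.2 b hb.1
  have h6 : v2 * d * b * (v2 * d)⁻¹ * b⁻¹ = v2 * b * v2⁻¹ * b⁻¹ := by
    calc v2 * d * b * (v2 * d)⁻¹ * b⁻¹ = v2 * (d * b) * d⁻¹ * v2⁻¹ * b⁻¹ := by group
      _ = v2 * b * v2⁻¹ * b⁻¹ := by rw [← hdb]; group
  rw [← h.V_inf_V2]
  refine ⟨?_, ?_⟩
  · have h7 := (mem_normalizer_iff.1 (h.ON hb.2) _).1 (inv_mem hv)
    have h8 := mul_mem hv h7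
    have h9 : v2 * d * (b * (v2 * d)⁻¹ * b⁻¹) = v2 * d * b * (v2 * d)⁻¹ * b⁻¹ := by group
    rw [← h9]
    exact h8
  · rw [h6]
    have h7 := (mem_normalizer_iff.1 (h.O_le (g := x⁻¹) (inv_mem (mem_zpowers x)) hb.2) _).1 (inv_mem hv2)
    have h8 := mul_mem hv2 h7
    have h9 : v2 * (b * v2⁻¹ * b⁻¹) = v2 * b * v2⁻¹ * b⁻¹ := by group
    rw [← h9]
    exact h8

/-- `|V : C_V(V^x)| = |V^x : C_{V^x}(V)|` -/
theorem off (h : Dt V A O x) : (V ⊓ centralizer (cj x V : Set G)).relIndex V =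
    (cj x V ⊓ centralizer (V : Set G)).relIndex (cj x V) := by
  obtain ⟨a, ha, haO⟩ := SetLike.not_le_iff_exists.1 h.nle
  obtain ⟨o, ho, he⟩ := h.swap a ha haO
  have h1 : cj (x⁻¹ * a * x) V = cj x V := by
    have h2 : x⁻¹ * a * x = x * (o * a) := by
      calc x⁻¹ * a * x = x⁻¹ * (a * x * a⁻¹) * a := by group
        _ = (x⁻¹ * x⁻¹) * (o * a) := by rw [he]; group
        _ = x * (o * a) := by rw [h.inv_mul_inv]
    rw [h2, ← cj_cj, ← cj_cj, cj_of_mem (centralizer_le_normalizer _ (h.A_le ha)), cj_of_mem (h.ON ho)]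
  have h3 : cj (x⁻¹ * a * x) (cj x V) = V := by
    rw [← h1, cj_cj]
    have h4 : x⁻¹ * a * x * (x⁻¹ * a * x) = 1 := by
      calc x⁻¹ * a * x * (x⁻¹ * a * x) = x⁻¹ * (a * a) * x := by group
        _ = 1 := by rw [h.asq a ha]; group
    rw [h4, cj_one]
  rw [← relIndex_cj (x⁻¹ * a * x) (V ⊓ centralizer (cj x V : Set G)) V, cj_inf, cj_centralizer, h3, h1]

/-- `[V, V^x] ≤ F` -/
theorem comm_mem' (h : Dt V A O x) (hVO : V ≤ O) {v w : G} (hv : v ∈ V) (hw : w ∈ cj x V) :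
    v * w * v⁻¹ * w⁻¹ ∈ V ⊓ cj x V := by
  have hwO : w ∈ O := by
    have h1 := cj_le (g := x) hVO
    rw [cj_of_mem h.xO] at h1
    exact h1 hw
  refine ⟨?_, ?_⟩
  · have h7 := (mem_normalizer_iff.1 (h.ON hwO) _).1 (inv_mem hv)
    have h8 := mul_mem hv h7
    have h9 : v * (w * v⁻¹ * w⁻¹) = v * w * v⁻¹ * w⁻¹ := by group
    rw [← h9]
    exact h8
  · have h7 := (mem_normalizer_iff.1 (h.O_le (mem_zpowers x) (hVO hv)) _).1 hw
    exact (cj x V).mul_mem h7 ((cj x V).inv_mem hw)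

/-- elements of order 3 normalising `D ≤ F` centralise `D` -/
theorem three (h : Dt V A O x) (hG : OddCyc G) (hx : x ≠ 1) {D : Subgroup G} (hD : D ≤ V ⊓ cj x V) {y : G}
    (hy : orderOf y = 3) (hyD : y ∈ normalizer (D : Set G)) {d : G} (hd : d ∈ D) : y * d = d * y := by
  have hf : Fact (Nat.Prime 3) := ⟨Nat.prime_three⟩
  have h3 : orderOf x = 3 := orderOf_eq_prime h.x3 hx
  refine AOneSit.p1 hG Nat.prime_three (by norm_num) hy h3 (fun a ha => (h.mem_F.1 (hD ha)).2)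
    (fun a ha => (mem_normalizer_iff.1 hyD a).1 ha) d hd

end Dt

end Cfsg.Agent.OddCyclic.L32.FD
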