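import Cfsg.Agent.OddCyclic.L32.TopA

/-!
# S0342, (C2), [Bc] section 1: existence of the configuration

`Cs S`: the context (no blocks). `Cs.exists_conf`: a subgroup `X` of type `bc` gives `Conf S' T L ..` with `L ≤ X ≤ N(L)`.
`Cs.exists_conf_top`: if `X ≥ S` then `S' = T = S`.
-/

set_option autoImplicit false
set_option linter.unusedSectionVars false

namespace Cfsg.Agent.OddCyclic.L32

open Subgroup Cfsg Cfsg.Agent.ZN Cfsg.Agent.MinSimple Cfsg.Agent.OddCyclic.UniStruct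
open Cfsg.Agent.ZN.Block (o2_isPGroup conj_mem_of_normalizer conj_mem_of_normalizer' le_normalizer_of_forall)
open Cfsg.Agent.OddCyclic.T1Defs (OddCyc)
open Cfsg.Agent.OddCyclic.RedTy
open scoped commutatorElement

universe u

variable {G : Type u} [Group G] [Finite G] {S : Sylow 2 G} {X T Y L₀ L N : Subgroup G} {p ξ : G}

/-- the context: no blocks -/
structure Cs (S : Sylow 2 G) : Prop where
  hyp : UniStruct.Hyp G
  sec : CompStart.SecZero G
  top : ∀ X : Subgroup G, o2 X ≠ ⊥ → X ≠ ⊤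
  noblk : ∀ L : Subgroup G, ¬ RedX.IsB (bau (S : Subgroup G)) L
  cases : ∀ X T Y : Subgroup G, X ≠ ⊤ → bau (S : Subgroup G) ≤ T → YC X T Y →
    jj T ≤ centralizer (Y : Set G) ∨ ∃ L : Subgroup G, BcY X T Y L

theorem Cs.of_bau (c : Cs S) {S' : Sylow 2 G} (hb : bau (S' : Subgroup G) = bau (S : Subgroup G)) : Cs S' where
  hyp := c.hyp
  sec := c.sec
  top := c.top
  noblk := by rw [hb]; exact c.noblk
  cases := by rw [hb]; exact c.cases

theorem jj_eq_of_bau {S S' : Sylow 2 G} (hb : bau (S' : Subgroup G) = bau (S : Subgroup G)) :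
    jj (S' : Subgroup G) = jj (S : Subgroup G) := by
  rw [← ChoiceBase.jj_bau (S' : Subgroup G), hb, ChoiceBase.jj_bau]

/-- `L` moves `Ω₁Z(T)` -/
theorem Cs.moved (c : Cs S) (h : Lev S X T (RedX.mod X T) L₀ L) : ∃ z ∈ zc T, ∃ l ∈ L, l * z ≠ z * l := by
  by_contra hcon
  push Not at hcon
  have hbT : bau T = bau (S : Subgroup G) := SamePt.bau_eq S h.yc.two h.bau
  have hnb : ∀ L : Subgroup G, ¬ RedX.IsB (bau T) L := by rw [hbT]; exact c.noblk
  have h1 : zc T ⊔ ⨆ L : RedX.blocks X T, vl (bau T) (L : Subgroup G) = zc T :=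
    sup_eq_left.2 (iSup_le fun L => absurd L.2.2 (hnb L))
  have h2 : RedX.mod X T = LemX.nc X (zc T) := by
    show LemX.nc X _ = LemX.nc X (zc T)
    rw [h1]
  have h3 : RedX.mod X T ≤ centralizer (L : Set G) := by
    rw [h2]
    refine LemX.nc_le (fun z hz => mem_centralizer_iff.2 fun l hl => hcon z hz l hl) ?_
    refine le_normalizer_of_forall fun g hg c hc => ?_
    rw [mem_centralizer_iff]
    intro l hl
    have h9 := mem_centralizer_iff.1 hc _ (conj_mem_of_normalizer' h.cmp.cp.norm hg hl)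
    calc l * (g * c * g⁻¹) = g * ((g⁻¹ * l * g) * c) * g⁻¹ := by group
      _ = g * (c * (g⁻¹ * l * g)) * g⁻¹ := by rw [h9]
      _ = g * c * g⁻¹ * l := by group
  have h4 : L ≤ o2 L := by
    rw [← h.cmp.inf]
    exact le_inf le_rfl (le_centralizer_iff.1 h3)
  exact h.cmp.cp.simp.not_isPGroup' ((o2_isPGroup L).to_le h4)

/-- if `J` centralises `Y` then `L` centralises `Y` -/
theorem Sev.cent_of {S : Sylow 2 G} (h : Sev S L) (hLY : L ≤ normalizer (Y : Set G))
    (hJ : jj (S : Subgroup G) ≤ centralizer (Y : Set G)) : L ≤ centralizer (Y : Set G) := by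
  have hLC : L ≤ normalizer (centralizer (Y : Set G) : Set G) := by
    refine le_normalizer_of_forall fun g hg c hc => ?_
    rw [mem_centralizer_iff]
    intro y hy
    have h9 := mem_centralizer_iff.1 hc _ (conj_mem_of_normalizer' hLY hg hy)
    calc y * (g * c * g⁻¹) = g * ((g⁻¹ * y * g) * c) * g⁻¹ := by group
      _ = g * (c * (g⁻¹ * y * g)) * g⁻¹ := by rw [h9]
      _ = g * c * g⁻¹ * y := by group
  have h1 : L ⊓ centralizer (Y : Set G) = L := by
    refine eq_of_normal h.perf h.simp inf_le_left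
      ((le_inf le_normalizer hLC).trans inf_normalizer_le_normalizer_inf) ?_
    intro h2
    apply h.moved
    refine (?_ : ⁅L, jj (S : Subgroup G)⁆ ≤ L ⊓ centralizer (Y : Set G)).trans (Block.le_o2 h2 inf_le_left
      ((le_inf le_normalizer hLC).trans inf_normalizer_le_normalizer_inf))
    rw [commutator_le]
    intro l hl j hj
    rw [commutatorElement_def]
    refine ⟨?_, ?_⟩
    · rw [mul_assoc, mul_assoc]
      refine mul_mem hl ?_
      rw [← mul_assoc]
      exact conj_mem_of_normalizer h.norm hj (inv_mem hl)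
    · exact (centralizer (Y : Set G)).mul_mem (conj_mem_of_normalizer hLC hl (hJ hj))
        ((centralizer (Y : Set G)).inv_mem (hJ hj))
  rw [← h1]; exact inf_le_right

theorem Sev.of_jj {S S' : Sylow 2 G} (h : Sev S L) (e : jj (S' : Subgroup G) = jj (S : Subgroup G)) : Sev S' L where
  perf := h.perf
  simp := h.simp
  card := h.card
  norm := by rw [e]; exact h.norm
  moved := by rw [e]; exact h.moved

/-- **the configuration exists** -/
theorem Cs.exists_conf (c : Cs S) (hX : o2 X ≠ ⊥) (hB : bau (S : Subgroup G) ≤ T) (hY : YC X T (RedX.mod X T))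
    (hb : BcY X T (RedX.mod X T) L₀) :
    ∃ (S' : Sylow 2 G) (T' L O₁ O A : Subgroup G) (ξ x : G), bau (S' : Subgroup G) = bau (S : Subgroup G) ∧
      T ≤ T' ∧ T' ≤ S' ∧ L ≤ X ∧ X ≤ normalizer (L : Set G) ∧ Conf S' T' L O₁ O A ξ x := by
  have hf2 : Fact (Nat.Prime 2) := ⟨Nat.prime_two⟩
  obtain ⟨L, hcmp⟩ := exists_cmp c.hyp hX hY hb hB
  have h : Lev S X T (RedX.mod X T) L₀ L := ⟨hY, hb, hB, hcmp⟩
  obtain ⟨z, hz, hzL⟩ := c.moved h
  obtain ⟨ξ, hξL, hξ3, hξ1, hξJ⟩ := h.exists_x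
  obtain ⟨N, p, w, n, -⟩ := h.exists_nt c.hyp.cyc hξL hξ3 hξ1 hξJ hz hzL
  have hXM := h.cmp.cp.norm
  have hLb : o2 L ≠ ⊥ := by
    intro h1
    apply n.p1
    have h2 := n.le_o2 h n.pN
    rwa [h1, mem_bot] at h2
  have hoM : o2 L ≤ o2 (normalizer (L : Set G)) :=
    Block.le_o2 (o2_isPGroup L) ((Block.o2_le L).trans le_normalizer) (normalizer_le_normalizer_o2 L)
  have hMb : o2 (normalizer (L : Set G)) ≠ ⊥ := by
    intro h1
    rw [h1, le_bot_iff] at hoM
    exact hLb hoM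
  have huniq : ∀ X₁ : Subgroup G, o2 X₁ ≠ ⊥ → L ≤ X₁ → jj (S : Subgroup G) ≤ X₁ → X₁ ≤ normalizer (L : Set G) :=
    fun X₁ h1 h2 h3 => (h.cmp.sev.cp c.hyp c.sec h1 (c.top _ h1) h2 h3).norm
  have hMeq : normalizer (L : Set G) = normalizer (o2 L : Set G) := by
    refine le_antisymm (normalizer_le_normalizer_o2 L) ?_
    refine huniq _ ?_ (le_normalizer.trans (normalizer_le_normalizer_o2 L))
      (h.cmp.sev.norm.trans (normalizer_le_normalizer_o2 L))
    intro h0
    have h1 : o2 L ≤ o2 (normalizer (o2 L : Set G)) := Block.le_o2 (o2_isPGroup L) le_normalizer le_rfl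
    rw [h0, le_bot_iff] at h1
    exact hLb h1
  -- `T'`, `S'`
  obtain ⟨T', hT', hTT'⟩ := ChoiceSit.exists_syl h.yc.two (h.yc.TX.trans hXM)
  obtain ⟨S', hS'⟩ := hT'.2.1.exists_le_sylow
  have hbS' : bau (S' : Subgroup G) = bau (S : Subgroup G) :=
    SamePt.bau_eq S S'.isPGroup' (hB.trans (hTT'.trans hS'))
  have hjS' := jj_eq_of_bau hbS'
  have c' := c.of_bau hbS'
  have hsev' := h.cmp.sev.of_jj hjS'
  have hloc : RedX.Loc (normalizer (L : Set G)) T' := by
    refine ⟨?_, hT'.2.1, hT'.1, ChoiceSit.syl_not_dvd hT'⟩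
    rw [hMeq]
    exact Basic.char2_normalizer c.hyp.char2 (o2_isPGroup L) hLb
  have hyc := yc_mod hloc
  have hBT' : bau (S' : Subgroup G) ≤ T' := by rw [hbS']; exact hB.trans hTT'
  have hoT' : o2 L ≤ T' := hoM.trans (VModule.o2_le_of_sylow hT'.2.1 (ChoiceSit.syl_not_dvd hT'))
  have hmv := n.exists_moved h hT'.2.1 hT'.1 hoT'
  have hzc : zc T' ≤ RedX.mod (normalizer (L : Set G)) T' := RedX.zc_le_mod
  rcases c'.cases _ T' _ (c.top _ hMb) hBT' hyc with h1 | ⟨L₁, h1⟩
  · exfalso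
    have hjT' : jj T' = jj (S' : Subgroup G) := SamePt.jj_eq S' hT'.2.1 hBT'
    rw [hjT'] at h1
    have h2 := hsev'.cent_of (le_normalizer.trans hyc.nor) h1
    obtain ⟨z, hz, l, hl, hlz⟩ := hmv
    exact hlz (mem_centralizer_iff.1 (h2 hl) z (hzc hz)).symm
  · obtain ⟨L', hL'⟩ := exists_cmp c.hyp hMb hyc h1 hBT'
    have hξM : ξ ∈ normalizer (L : Set G) := le_normalizer hξL
    have hξo : orderOf ξ = 3 := by
      have hf3 : Fact (Nat.Prime 3) := ⟨Nat.prime_three⟩
      exact orderOf_eq_prime hξ3 hξ1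
    have hξL' := hL'.three ξ hξM hξo
    have hn2 : ∀ P : Subgroup G, ξ ∈ P → ¬ IsPGroup 2 P := by
      intro P hxP hP
      obtain ⟨k, hk⟩ := hP ⟨ξ, hxP⟩
      have h8 : ξ ^ 2 ^ k = 1 := congrArg Subtype.val hk
      have h4 : 3 ∣ 2 ^ k := hξo ▸ orderOf_dvd_of_pow_eq_one h8
      have := (Nat.prime_dvd_prime_iff_eq Nat.prime_three Nat.prime_two).1 (Nat.prime_three.dvd_of_dvd_pow h4)
      norm_num at this
    have e1 : L ⊓ L' = L := eq_of_normal h.cmp.cp.perf h.cmp.cp.simp inf_le_left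
      ((le_inf le_normalizer (le_normalizer.trans hL'.cp.norm)).trans inf_normalizer_le_normalizer_inf)
      (hn2 _ ⟨hξL, hξL'⟩)
    have e2 : L ⊓ L' = L' := eq_of_normal hL'.cp.perf hL'.cp.simp inf_le_right
      ((le_inf hL'.cp.le le_normalizer).trans inf_normalizer_le_normalizer_inf)
      (hn2 _ ⟨hξL, hξL'⟩)
    have e3 : L' = L := e2.symm.trans e1
    rw [e3] at hL'
    have hlev : Lev S' (normalizer (L : Set G)) T' (RedX.mod (normalizer (L : Set G)) T') L₁ L :=
      ⟨hyc, h1, hBT', hL'⟩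
    have hTeq : T' = (S' : Subgroup G) ⊓ normalizer (L : Set G) := by
      have h2 : IsPGroup 2 ((S' : Subgroup G) ⊓ normalizer (L : Set G) : Subgroup G) := S'.isPGroup'.to_le inf_le_left
      refine le_antisymm (le_inf hS' hT'.1) ?_
      have h3 : T'.relIndex ((S' : Subgroup G) ⊓ normalizer (L : Set G)) ∣ T'.relIndex (normalizer (L : Set G)) := by
        rw [← relIndex_mul_relIndex T' ((S' : Subgroup G) ⊓ normalizer (L : Set G)) _ (le_inf hS' hT'.1) inf_le_right]
        exact dvd_mul_right _ _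
      obtain ⟨k, hk⟩ := IsPGroup.iff_card.1 h2
      have h4 : T'.relIndex ((S' : Subgroup G) ⊓ normalizer (L : Set G)) ∣ 2 ^ k := by
        rw [← hk]; exact Subgroup.relIndex_dvd_card _ _
      obtain ⟨j, hj, hj2⟩ := (Nat.dvd_prime_pow Nat.prime_two).1 h4
      rcases Nat.eq_zero_or_pos j with h0 | h0
      · rw [h0, pow_zero, Subgroup.relIndex_eq_one] at hj2
        exact hj2
      · exfalso
        apply ChoiceSit.syl_not_dvd hT'
        refine Dvd.dvd.trans ?_ h3
        rw [hj2]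
        exact dvd_pow_self 2 (by omega)
    obtain ⟨O₁, O, A, ξ', x, hconf⟩ := hlev.exists_conf c.hyp.cyc hTeq hLb (by rw [hjS']; exact huniq) hmv
    exact ⟨S', T', L, O₁, O, A, ξ', x, hbS', hTT', hS', h.cmp.cp.le, hXM, hconf⟩

/-- **the configuration exists with `T = S`** -/
theorem Cs.exists_conf_top (c : Cs S) (hX : IsTwoLocal X) (hS : (S : Subgroup G) ≤ X)
    (hn : ¬ jj (S : Subgroup G) ≤ centralizer ((RedX.mod X S : Subgroup G) : Set G)) :
    ∃ (L O₁ O A : Subgroup G) (ξ x : G), Conf S S L O₁ O A ξ x ∧ L ≤ X ∧ X ≤ normalizer (L : Set G) := by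
  obtain ⟨U, hU, hU1, rfl⟩ := hX
  have hoX : o2 (normalizer (U : Set G)) ≠ ⊥ := by
    intro h0
    have h1 : U ≤ o2 (normalizer (U : Set G)) := Block.le_o2 hU le_normalizer le_rfl
    rw [h0, le_bot_iff] at h1
    exact hU1 h1
  have hloc : RedX.Loc (normalizer (U : Set G)) S :=
    ⟨Basic.char2_normalizer c.hyp.char2 hU hU1, S.isPGroup', hS, fun h => S.not_dvd_index
      (h.trans (Subgroup.relIndex_dvd_index_of_le hS))⟩
  have hyc := yc_mod hloc
  have hBS : bau (S : Subgroup G) ≤ S := ChoiceBase.bau_le _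
  obtain ⟨L₀, hb⟩ := (c.cases _ _ _ (c.top _ hoX) hBS hyc).resolve_left hn
  obtain ⟨S', T', L, O₁, O, A, ξ, x, hbS', h1, h2, h3, h4, h5⟩ := c.exists_conf hoX hBS hyc hb
  have e1 : (S' : Subgroup G) = S := S.is_maximal' S'.isPGroup' (h1.trans h2)
  have e2 : T' = S := le_antisymm (by rw [← e1]; exact h2) h1
  have e3 : S' = S := Sylow.ext e1
  rw [e2, e3] at h5
  exact ⟨L, O₁, O, A, ξ, x, h5, h3, h4⟩

end Cfsg.Agent.OddCyclic.L32
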