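import Cfsg.Agent.OddCyclic.L32.LevX

/-!
# S0342, (C2), [Bc]: `X ≥ T` of type `bc` with `C_Y(L) = 1`

`QR.orb`: if `C_V(K) = 1` and `v ∈ V` is fixed by (the image of) `T` then `v^H = v^K`.
-/

set_option autoImplicit false
set_option linter.unusedSectionVars false

namespace Cfsg.Agent.OddCyclic.L32

open Subgroup Cfsg Cfsg.Agent.ZN Cfsg.Agent.MinSimple Cfsg.Agent.OddCyclic.UniStruct
open Cfsg.Agent.ZN.Block (o2_isPGroup conj_mem_of_normalizer conj_mem_of_normalizer' le_normalizer_of_forall)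
open Cfsg.Agent.OddCyclic.T1Defs (OddCyc)
open Cfsg.Agent.OddCyclic.RedTy Cfsg.Agent.OddCyclic.RedRep Cfsg.Agent.OddCyclic.RedSevenX
open Cfsg.Agent.OddCyclic.FFBasic Cfsg.Agent.OddCyclic.FFRed Cfsg.Agent.OddCyclic.FFSl2
open Cfsg.Agent.OddCyclic.FFThree Cfsg.Agent.OddCyclic.RedSevenA Cfsg.Agent.OddCyclic.T1Module

universe u

/-- a subgroup of index `≤ 3` which contains a Sylow 2-subgroup and all 3-elements is everything -/
theorem eq_top_of_index {Γ : Type*} [Group Γ] [Finite Γ] {D P : Subgroup Γ} (hi : D.index ≤ 3) (hP : ¬ 2 ∣ P.index)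
    (hPD : P ≤ D) (h3 : ∀ g : Γ, (∃ n : ℕ, g ^ 3 ^ n = 1) → g ∈ D) : D = ⊤ := by
  have hf3 : Fact (Nat.Prime 3) := ⟨Nat.prime_three⟩
  have h1 : ¬ 2 ∣ D.index := fun h => hP (h.trans (Subgroup.index_dvd_of_le hPD))
  have h2 : ¬ 3 ∣ D.index := by
    obtain ⟨Q⟩ : Nonempty (Sylow 3 Γ) := inferInstance
    have hQD : (Q : Subgroup Γ) ≤ D := by
      intro g hg
      obtain ⟨n, hn⟩ := Q.isPGroup' ⟨g, hg⟩
      exact h3 g ⟨n, congrArg Subtype.val hn⟩
    exact fun h => Q.not_dvd_index (h.trans (Subgroup.index_dvd_of_le hQD))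
  have h0 : D.index ≠ 0 := Subgroup.index_ne_zero_of_finite
  rw [← Subgroup.index_eq_one]
  have h4 : D.index = 1 ∨ D.index = 2 ∨ D.index = 3 := by omega
  rcases h4 with h | h | h
  · exact h
  · exact absurd (h ▸ dvd_rfl) h1
  · exact absurd (h ▸ dvd_rfl) h2

/-- the stabiliser of a point has index at most the number of the points of an invariant set -/
theorem index_stb_le {Γ V : Type*} [Group Γ] [Finite Γ] [CommGroup V] [Finite V] (ρ : Γ →* MulAut V) {v : V}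
    (F : Set V) (hF : ∀ g : Γ, ρ g v ∈ F) : (stb ρ v).index ≤ F.ncard := by
  obtain ⟨f, hf⟩ : ∃ f : Γ ⧸ stb ρ v → F, ∀ g : Γ, (f g : V) = ρ g v := by
    refine ⟨fun q => Quotient.liftOn' q (fun g => ⟨ρ g v, hF g⟩) ?_, fun g => rfl⟩
    intro a b hab
    rw [QuotientGroup.leftRel_apply] at hab
    have h1 : ρ (a⁻¹ * b) v = v := hab
    apply Subtype.ext
    show ρ a v = ρ b v
    rw [map_mul, MulAut.mul_apply] at h1
    have h2 : ρ a (ρ a⁻¹ (ρ b v)) = ρ b v := by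
      rw [← MulAut.mul_apply, ← map_mul, mul_inv_cancel, map_one, MulAut.one_apply]
    rw [h1] at h2
    exact h2
  have hinj : Function.Injective f := by
    intro a b
    induction a using QuotientGroup.induction_on with
    | H a =>
      induction b using QuotientGroup.induction_on with
      | H b =>
        intro hab
        have h1 : ρ a v = ρ b v := by rw [← hf, ← hf, hab]
        rw [QuotientGroup.eq]
        show ρ (a⁻¹ * b) v = v
        rw [map_mul, MulAut.mul_apply, ← h1, ← MulAut.mul_apply, ← map_mul, inv_mul_cancel, map_one, MulAut.one_apply]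
  have h1 := Nat.card_le_card_of_injective f hinj
  rwa [Nat.card_coe_set_eq] at h1

variable {G : Type u} [Group G] [Finite G] {S : Sylow 2 G} {X T Y L₀ L : Subgroup G}
variable {H V : Type u} [Group H] [CommGroup V] [Finite H] [Finite V] {r : X →* H} {ρ : H →* MulAut V} {ι : V →* G}
  {K : Subgroup H} {TQ : Sylow 2 K} {A B : Subgroup K}

/-- `|V : C_V(A)| = |Y : C_Y(J)|` -/
theorem QR.index_CS (h : Lev S X T Y L₀ L) (q : QR S X T Y L r ρ ι K TQ A B) :
    (CS (ρ.comp K.subtype) A).index = (Y ⊓ centralizer (jj T : Set G)).relIndex Y := by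
  have hJT := h.jj_eq
  have hTX := h.yc.TX
  have hJX : jj T ≤ X := (ZN.jj_le T).trans hTX
  have e : (CS (ρ.comp K.subtype) A).map ι = Y ⊓ centralizer (jj T : Set G) := by
    ext g
    constructor
    · rintro ⟨v, hv, rfl⟩
      refine ⟨q.rep.mem v, mem_centralizer_iff.2 fun j hj => ?_⟩
      have hj1 : r ⟨j, hJX hj⟩ ∈ img r (jj (S : Subgroup G)) := mem_img.2 ⟨⟨j, hJX hj⟩, by rw [← hJT]; exact hj, rfl⟩
      have h1 := hv ⟨_, q.J_le hj1⟩ ((q.A_mem _).2 hj1)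
      exact q.rep.fix.1 h1
    · rintro ⟨hg, hgc⟩
      obtain ⟨v, rfl⟩ := q.rep.exists_v hg
      refine ⟨v, fun k hk => ?_, rfl⟩
      obtain ⟨x, hx, hxk⟩ := mem_img.1 ((q.A_mem k).1 hk)
      show ρ (k : H) v = v
      rw [← hxk]
      exact q.rep.fix.2 (mem_centralizer_iff.1 hgc x (by rw [hJT]; exact hx))
  have e2 : Y = (⊤ : Subgroup V).map ι := by rw [← MonoidHom.range_eq_map, q.rep.range]
  rw [← e]
  nth_rw 1 [e2]
  rw [Subgroup.relIndex_map_map_of_injective _ _ q.rep.iinj, Subgroup.relIndex_top_right]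

theorem QR.index_le (h : Lev S X T Y L₀ L) (q : QR S X T Y L r ρ ι K TQ A B) :
    (CS (ρ.comp K.subtype) A).index ≤ 4 := by
  rw [q.index_CS h]
  rcases h.bc.index with h1 | h1 <;> rw [h1] <;> norm_num

/-- `|C_V(TQ)| ≤ 4` if `C_V(K) = 1` -/
theorem QR.card_le (h : Lev S X T Y L₀ L) (q : QR S X T Y L r ρ ι K TQ A B)
    (hK : CS (ρ.comp K.subtype) ⊤ = ⊥) {y : K} (hb : Bs (ρ.comp K.subtype) TQ A B y) :
    Nat.card (CS (ρ.comp K.subtype) (TQ : Subgroup K)) ≤ 4 := by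
  obtain ⟨s, hs, t, ht, hst, hmem⟩ := q.par.four.exists_four
  obtain ⟨x, hxN, hx3, hx1, -⟩ := fuse_mem q.l32 hst hmem
  have hxo : orderOf x = 3 := orderOf_three hx3 hx1 hst.ne
  set ρK := ρ.comp K.subtype with hρK
  -- `f ↦ (x y) f` is injective modulo `C_V(A)`
  have hpt : ∀ f ∈ CS ρK (TQ : Subgroup K), f ≠ 1 → Pt ρK TQ A B y f := by
    intro f hf hf1
    have h1 : pv ρK y f ≠ 1 := fun h2 => hf1 (by
      have h3 := (hb.pv_eq_one hf).1 h2
      rw [hK] at h3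
      exact mem_bot.1 h3)
    have h2 : rv ρK y f = 1 := by
      have h3 := hb.rv_mem hf
      rw [hK] at h3
      exact mem_bot.1 h3
    have h3 : f = pv ρK y f := by
      have h4 := hb.mul_eq f
      rw [h2, mul_one] at h4
      exact h4.symm
    have h4 := hb.pt (hb.pv_mem hf) h1 (hb.pv_sum f)
    rwa [← h3] at h4
  have hnot : ∀ f ∈ CS ρK (TQ : Subgroup K), f ≠ 1 → ρK (x * y) f ∉ CS ρK A := by
    intro f hf hf1 hcon
    have hp := hpt f hf hf1
    have h1 := hp.not_mem hxN hxo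
    rw [← MulAut.mul_apply, ← map_mul] at h1
    apply h1
    rw [← hp.inf_CS]
    exact ⟨hp.nat_apply hp.p_mem _, hcon⟩
  obtain ⟨f, hf⟩ : ∃ f : CS ρK (TQ : Subgroup K) → V ⧸ CS ρK A, ∀ v, f v = ((ρK (x * y) v : V) : V ⧸ CS ρK A) :=
    ⟨_, fun v => rfl⟩
  have hinj : Function.Injective f := by
    intro a b hab
    rw [hf, hf, QuotientGroup.eq] at hab
    by_contra hne
    have h1 : ((a⁻¹ * b : CS ρK (TQ : Subgroup K)) : V) ≠ 1 := fun h2 => hne (by
      have h3 : a⁻¹ * b = 1 := Subtype.ext h2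
      exact inv_mul_eq_one.1 h3)
    refine hnot _ (a⁻¹ * b).2 h1 ?_
    have h2 : ρK (x * y) ((a⁻¹ * b : CS ρK (TQ : Subgroup K)) : V) = (ρK (x * y) a)⁻¹ * ρK (x * y) b := by
      show ρK (x * y) ((a : V)⁻¹ * b) = _
      rw [map_mul, map_inv]
    rw [h2]
    exact hab
  have h1 := Nat.card_le_card_of_injective f hinj
  exact h1.trans (q.index_le h)

/-- **`v^H = v^K`** -/
theorem QR.orb (h : Lev S X T Y L₀ L) (q : QR S X T Y L r ρ ι K TQ A B)
    (hK : CS (ρ.comp K.subtype) ⊤ = ⊥) {y : K} (hb : Bs (ρ.comp K.subtype) TQ A B y) {v : V}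
    (hv : ∀ t ∈ img r T, ρ t v = v) (g : H) : ∃ k : K, ρ g v = ρ (k : H) v := by
  have hf2 : Fact (Nat.Prime 2) := ⟨Nat.prime_two⟩
  have hKn := q.norm
  by_cases hv1 : v = 1
  · exact ⟨1, by rw [hv1, map_one, map_one]⟩
  obtain ⟨Γ, hΓ⟩ : ∃ Γ : Subgroup H, Γ = normalizer ((TQ : Subgroup K).map K.subtype : Set H) := ⟨_, rfl⟩
  set ρK := ρ.comp K.subtype with hρK
  have hvT : v ∈ CS ρK (TQ : Subgroup K) := fun k hk => hv _ ((q.TQ_mem k).1 hk)
  -- the points of `Γ v`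
  have hΓv : ∀ n ∈ Γ, ∀ w ∈ CS ρK (TQ : Subgroup K), ρ n w ∈ CS ρK (TQ : Subgroup K) := by
    intro n hn w hw k hk
    show ρ (k : H) (ρ n w) = ρ n w
    rw [hΓ] at hn
    have h1 := (mem_normalizer_iff.1 (inv_mem hn) (k : H)).1 ⟨k, hk, rfl⟩
    obtain ⟨k', hk', he⟩ := h1
    have h2 : (k : H) = n * k' * n⁻¹ := by
      have : (K.subtype k' : H) = n⁻¹ * k * n⁻¹⁻¹ := he
      rw [show (k' : H) = n⁻¹ * k * n⁻¹⁻¹ from this]; group
    have h3 : ρ (k' : H) w = w := hw k' hk'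
    calc ρ (k : H) (ρ n w) = ρ (n * k' * n⁻¹) (ρ n w) := by rw [← h2]
      _ = ρ n (ρ k' (ρ n⁻¹ (ρ n w))) := by simp only [map_mul, MulAut.mul_apply]
      _ = ρ n (ρ k' w) := by
        have h4 : ρ n⁻¹ (ρ n w) = w := by
          rw [← MulAut.mul_apply, ← map_mul, inv_mul_cancel, map_one, MulAut.one_apply]
        rw [h4]
      _ = ρ n w := by rw [h3]
  -- the 3-elements of `Γ` fix `v`
  have hpt : Pt ρK TQ A B y v := by
    have h1 : pv ρK y v ≠ 1 := fun h2 => hv1 (by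
      have h3 := (hb.pv_eq_one hvT).1 h2
      rw [hK] at h3
      exact mem_bot.1 h3)
    have h2 : rv ρK y v = 1 := by
      have h3 := hb.rv_mem hvT
      rw [hK] at h3
      exact mem_bot.1 h3
    have h3 : v = pv ρK y v := by
      have h4 := hb.mul_eq v
      rw [h2, mul_one] at h4
      exact h4.symm
    have h4 := hb.pt (hb.pv_mem hvT) h1 (hb.pv_sum v)
    rwa [← h3] at h4
  have h3v : ∀ n ∈ Γ, (∃ m : ℕ, n ^ 3 ^ m = 1) → ρ n v = v := by
    rintro n hn ⟨m, hm⟩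
    have hnK : n ∈ K := by
      obtain ⟨x₀, hx₀⟩ := q.rep.surj n
      obtain ⟨a, b, hb', hnb⟩ := Nat.exists_eq_pow_mul_and_not_dvd (orderOf_pos x₀).ne' 3 (by norm_num)
      have hel : El3 ((x₀ ^ b : X) : G) := by
        refine ⟨a, ?_⟩
        have h1 : (x₀ ^ b) ^ 3 ^ a = 1 := by rw [← pow_mul, mul_comm, ← hnb, pow_orderOf_eq_one]
        exact congrArg Subtype.val h1
      have h1 : n ^ b ∈ K := by
        rw [← hx₀, ← map_pow, q.K_eq]
        exact mem_img.2 ⟨x₀ ^ b, (h.cmp.el3 _ (x₀ ^ b).2 hel).1, rfl⟩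
      have hcop : Nat.Coprime b (3 ^ m) :=
        Nat.Coprime.pow_right m (Nat.coprime_comm.1 ((Nat.Prime.coprime_iff_not_dvd Nat.prime_three).2 hb'))
      have h2 : (Nat.gcd b (3 ^ m) : ℤ) = b * Nat.gcdA b (3 ^ m) + (3 ^ m : ℕ) * Nat.gcdB b (3 ^ m) := Nat.gcd_eq_gcd_ab _ _
      rw [hcop.gcd_eq_one] at h2
      have h3 : n = (n ^ b) ^ Nat.gcdA b (3 ^ m) := by
        calc n = n ^ (1 : ℤ) := (zpow_one n).symm
          _ = n ^ ((b : ℤ) * Nat.gcdA b (3 ^ m) + (3 ^ m : ℕ) * Nat.gcdB b (3 ^ m)) := by rw [← h2]; norm_num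
          _ = (n ^ b) ^ Nat.gcdA b (3 ^ m) := by
            rw [zpow_add, zpow_mul, zpow_mul, zpow_natCast, zpow_natCast, hm, one_zpow, mul_one]
      rw [h3]
      exact zpow_mem h1 _
    have h1 : ρ n v ∈ hpt.nat := by
      have := hpt.nat_apply hpt.p_mem ⟨n, hnK⟩
      exact this
    exact hpt.eq_p h1 (hΓv n hn v hvT) fun h2 => hv1 (by
      have h4 := congrArg (ρ n).symm h2
      rw [MulEquiv.symm_apply_apply, map_one] at h4
      exact h4)
  -- `Γ` fixes `v`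
  have hTX := h.yc.TX
  have hmap : ∀ g : H, g ∈ (TQ : Subgroup K).map K.subtype ↔ g ∈ img r T ∧ g ∈ K := by
    intro g
    constructor
    · rintro ⟨k, hk, rfl⟩
      exact ⟨(q.TQ_mem k).1 hk, k.2⟩
    · rintro ⟨h1, h2⟩
      exact ⟨⟨g, h2⟩, (q.TQ_mem _).2 h1, rfl⟩
  have hTΓ : img r T ≤ Γ := by
    intro t ht
    rw [hΓ, mem_normalizer_iff]
    intro g
    rw [hmap, hmap]
    constructor
    · rintro ⟨h1, h2⟩
      exact ⟨mul_mem (mul_mem ht h1) (inv_mem ht), hKn.conj_mem g h2 t⟩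
    · rintro ⟨h1, h2⟩
      have h3 := mul_mem (mul_mem (inv_mem ht) h1) ht
      have h4 := hKn.conj_mem _ h2 t⁻¹
      have e1 : t⁻¹ * (t * g * t⁻¹) * t = g := by group
      have e2 : t⁻¹ * (t * g * t⁻¹) * t⁻¹⁻¹ = g := by group
      rw [e1] at h3
      rw [e2] at h4
      exact ⟨h3, h4⟩
  have hi : ¬ 2 ∣ (img r T).index := fun h3 => h.yc.syl (h3.trans (Subgroup.index_map_dvd _ q.rep.surj))
  have hfixΓ : ∀ n ∈ Γ, ρ n v = v := by
    have h1 : stb (ρ.comp Γ.subtype) v = ⊤ := by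
      refine eq_top_of_index (P := (img r T).subgroupOf Γ) ?_ ?_ ?_ ?_
      · have h2 := index_stb_le (ρ.comp Γ.subtype) (v := v) {w | w ∈ CS ρK (TQ : Subgroup K) ∧ w ≠ 1} fun g =>
          ⟨hΓv g g.2 v hvT, fun h2 => hv1 (by
            have h4 := congrArg (ρ (g : H)).symm h2
            have h5 : (ρ (g : H)).symm (ρ (g : H) v) = v := MulEquiv.symm_apply_apply _ _
            have h6 : (ρ.comp Γ.subtype) g v = ρ (g : H) v := rfl
            rw [h6, h5, map_one] at h4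
            exact h4)⟩
        refine h2.trans ?_
        have h3 : {w | w ∈ CS ρK (TQ : Subgroup K) ∧ w ≠ 1} = (CS ρK (TQ : Subgroup K) : Set V) \ {1} := by
          ext w; exact Iff.rfl
        rw [h3, Set.ncard_sdiff_singleton_of_mem (one_mem (CS ρK (TQ : Subgroup K))), ← Nat.card_coe_set_eq]
        have h4 : Nat.card (CS ρK (TQ : Subgroup K)) ≤ 4 := q.card_le h hK hb
        have h5 : Nat.card ((CS ρK (TQ : Subgroup K) : Set V)) = Nat.card (CS ρK (TQ : Subgroup K)) := rfl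
        rw [h5]
        omega
      · intro h2
        refine hi (h2.trans ?_)
        exact Subgroup.relIndex_dvd_index_of_le hTΓ
      · intro g hg
        exact hv g hg
      · rintro g ⟨m, hm⟩
        exact h3v g g.2 ⟨m, congrArg Subtype.val hm⟩
    intro n hn
    have h2 : (⟨n, hn⟩ : Γ) ∈ stb (ρ.comp Γ.subtype) v := by rw [h1]; exact mem_top _
    exact h2
  have hfr := Sylow.normalizer_sup_eq_top TQ
  rw [← hΓ, sup_comm] at hfr
  have hg : g ∈ K ⊔ Γ := by rw [hfr]; exact mem_top g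
  rw [← SetLike.mem_coe, Subgroup.coe_mul_of_right_le_normalizer_left K Γ (by rw [normalizer_eq_top]; exact le_top)] at hg
  obtain ⟨k, hk, n, hn, rfl⟩ := hg
  refine ⟨⟨k, hk⟩, ?_⟩
  show ρ (k * n) v = ρ k v
  rw [map_mul, MulAut.mul_apply, hfixΓ n hn]

end Cfsg.Agent.OddCyclic.L32
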