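import Cfsg.Agent.OddCyclic.FFPsl
import Cfsg.Agent.OddCyclic.FFJ1
import Cfsg.Agent.OddCyclic.FFOuter
import Cfsg.Agent.OddCyclic.AOneSit

/-!
# S0342, leaf [Bc], type (b'), LEMMA K (2A of blueprints/S0342-Bc-bprime-helper41.md): the configuration

`Lk ρ K x e`: `H` acts faithfully on the elementary abelian 2-group `V`, `x ∈ K` has order 3 and is inverted by the
involution `e` with `|V : C_V(e)| ≤ 4`;
* (a) elements of order 3 normalising `D ≤ C_V(e)` centralise `D`;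
* (b) for `1 ≠ f ∈ C_V(x)` the group `C_H(f)` normalises `⟨x⟩`.

* `no_three`: no element of order 3 commutes with `e`;
* `no_four`: `e` does not act on `K` as an involution `k` of a four-group normalised by an element of order 3 moving `k`.
-/

set_option autoImplicit false
set_option linter.unusedSectionVars false

namespace Cfsg.Agent.OddCyclic.L32.LemKBase

open Subgroup
open Cfsg.Agent.OddCyclic.T1Defs Cfsg.Agent.OddCyclic.T1Module Cfsg.Agent.OddCyclic.FFBasic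

variable {H : Type*} [Group H] {V : Type*} [CommGroup V] {ρ : H →* MulAut V}

/-- the configuration of LEMMA K -/
structure Lk (ρ : H →* MulAut V) (K : Subgroup H) (x e : H) : Prop where
  inj : Function.Injective ρ
  sq : ∀ v : V, v * v = 1
  cyc : OddCyc H
  xK : x ∈ K
  x3 : orderOf x = 3
  e2 : e * e = 1
  ex : e * x * e⁻¹ = x⁻¹
  idx : (fx ρ e).index ≤ 4
  a : ∀ y : H, orderOf y = 3 → ∀ D : Subgroup V, D ≤ fx ρ e → (∀ v ∈ D, ρ y v ∈ D) → ∀ v ∈ D, ρ y v = v
  b : ∀ f ∈ fx ρ x, f ≠ 1 → ∀ h, ρ h f = f → h ∈ normalizer (zpowers x : Set H)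

theorem act_mul (ρ : H →* MulAut V) (g h : H) (v : V) : ρ (g * h) v = ρ g (ρ h v) := by
  rw [map_mul, MulAut.mul_apply]

theorem act_comm {g h : H} (hc : g * h = h * g) (v : V) : ρ g (ρ h v) = ρ h (ρ g v) := by
  rw [← act_mul, hc, act_mul]

/-- an involution has a fixed point in every nontrivial invariant subgroup -/
theorem exists_fix (hV : ∀ v : V, v * v = 1) {t : H} (ht : t * t = 1) {D : Subgroup V} (hD : ∀ v ∈ D, ρ t v ∈ D)
    (h1 : ∃ v ∈ D, v ≠ 1) : ∃ v ∈ D ⊓ fx ρ t, v ≠ 1 := by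
  obtain ⟨v, hv, hv1⟩ := h1
  by_cases h2 : ρ t v * v = 1
  · refine ⟨v, ⟨hv, ?_⟩, hv1⟩
    change ρ t v = v
    rw [mul_eq_one_iff_eq_inv] at h2
    rw [h2]
    exact inv_eq_of_mul_eq_one_left (hV v)
  · refine ⟨ρ t v * v, ⟨mul_mem (hD v hv) hv, ?_⟩, h2⟩
    change ρ t (ρ t v * v) = ρ t v * v
    rw [map_mul, ← act_mul, ht, map_one, mul_comm]
    rfl

namespace Lk

variable {K : Subgroup H} {x e : H}

/-- no element of order 3 commutes with `e` -/
theorem no_three (h : Lk ρ K x e) {y : H} (hy : orderOf y = 3) (hc : y * e = e * y) : False := by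
  have h1 : ∀ v ∈ fx ρ e, ρ y v = v := by
    refine h.a y hy _ le_rfl fun v hv => ?_
    rw [mem_fx] at hv ⊢
    rw [← act_comm hc, hv]
  have hodd : Odd (orderOf y) := by rw [hy]; decide
  have h2 : ∀ v : V, ρ y v = v := by
    intro v
    have h3 : ρ e v * v⁻¹ ∈ fx ρ e := by
      rw [mem_fx, map_mul, map_inv, ← act_mul, h.e2, map_one]
      change v * (ρ e v)⁻¹ = ρ e v * v⁻¹
      rw [inv_eq_of_mul_eq_one_left (h.sq v), inv_eq_of_mul_eq_one_left (h.sq (ρ e v)), mul_comm]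
    have h4 := h1 _ h3
    rw [map_mul, map_inv, act_comm hc] at h4
    have h5 : ρ y v * v⁻¹ ∈ fx ρ e := by
      rw [mem_fx, map_mul, map_inv]
      have h6 : ρ e (ρ y v) = ρ e v * v⁻¹ * ρ y v := by rw [← h4]; group
      rw [h6]
      rw [mul_right_comm (ρ e v * v⁻¹), mul_right_comm (ρ e v), mul_inv_cancel, one_mul, mul_comm]
    have h7 := h1 _ h5
    have h8 : ρ y v * v⁻¹ = 1 := eq_one_of_fix h.sq hodd (w := ρ y v * v⁻¹) ⟨v, rfl⟩ h7
    exact mul_inv_eq_one.1 h8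
  have h3 : ρ y = 1 := by
    ext v
    exact h2 v
  have h4 : y = 1 := h.inj (by rw [h3, map_one])
  rw [h4, orderOf_one] at hy
  omega

theorem exists_ne (h : Lk ρ K x e) : ∃ v : V, v ≠ 1 := by
  by_contra hcon
  push Not at hcon
  have h3 : ρ x = 1 := by
    ext v
    rw [hcon v, hcon (ρ x 1)]
    rfl
  have h4 : x = 1 := h.inj (by rw [h3, map_one])
  have h5 := h.x3
  rw [h4, orderOf_one] at h5
  omega

/-- `e` does not act on `K` as an involution of an `A₄`-subgroup -/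
theorem no_four [Finite H] (h : Lk ρ K x e) {k w : H} (hkK : k ∈ K) (hwK : w ∈ K) (hk : k * k = 1) (hw : orderOf w = 3)
    (hin : ∀ g ∈ K, e * g * e⁻¹ = k * g * k⁻¹) (h1 : k * (w * k * w⁻¹) = w * k * w⁻¹ * k)
    (h2 : w * (w * k * w⁻¹) * w⁻¹ = k * (w * k * w⁻¹)) (hne : w * k * w⁻¹ ≠ k) : False := by
  have hki : k⁻¹ = k := inv_eq_of_mul_eq_one_left hk
  have hei : e⁻¹ = e := inv_eq_of_mul_eq_one_left h.e2
  have hw3 : w * w * w = 1 := by
    have := pow_orderOf_eq_one w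
    rw [hw, pow_succ, pow_two] at this
    exact this
  set u := w * k * w⁻¹ with hu
  have huK : u ∈ K := mul_mem (mul_mem hwK hkK) (inv_mem hwK)
  have huu : u * u = 1 := by
    rw [hu]
    calc w * k * w⁻¹ * (w * k * w⁻¹) = w * (k * k) * w⁻¹ := by group
      _ = 1 := by rw [hk]; group
  set c := e * k with hc
  have hcK : ∀ g ∈ K, c * g = g * c := by
    intro g hg
    have h3 := hin (k * g * k⁻¹) (mul_mem (mul_mem hkK hg) (inv_mem hkK))
    have h4 : k * (k * g * k⁻¹) * k⁻¹ = g := by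
      calc k * (k * g * k⁻¹) * k⁻¹ = (k * k) * g * (k * k)⁻¹ := by group
        _ = g := by rw [hk]; group
    rw [h4] at h3
    calc c * g = (e * (k * g * k⁻¹) * e⁻¹) * c := by rw [hc]; group
      _ = g * c := by rw [h3]
  have hck : c * k = e := by rw [hc, mul_assoc, hk, mul_one]
  have hcc : c * c = 1 := by
    calc c * c = (e * k * e⁻¹) * (e * e) * k := by rw [hc]; group
      _ = 1 := by rw [hin k hkK, h.e2, mul_one, mul_assoc, mul_assoc, inv_mul_cancel, mul_one, hk]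
  -- fixed points of `⟨k, u, c⟩`
  have f1 : ∃ v ∈ (⊤ : Subgroup V) ⊓ fx ρ k, v ≠ 1 := exists_fix h.sq hk (fun v _ => trivial)
    (by obtain ⟨v, hv⟩ := h.exists_ne; exact ⟨v, trivial, hv⟩)
  have f2 : ∃ v ∈ (⊤ : Subgroup V) ⊓ fx ρ k ⊓ fx ρ u, v ≠ 1 := exists_fix h.sq huu (fun v hv => ⟨trivial, by
    have h3 : ρ k v = v := hv.2
    change ρ k (ρ u v) = ρ u v
    rw [act_comm h1, h3]⟩) f1
  have f3 : ∃ v ∈ (⊤ : Subgroup V) ⊓ fx ρ k ⊓ fx ρ u ⊓ fx ρ c, v ≠ 1 := exists_fix h.sq hcc (fun v hv => ⟨⟨trivial, by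
    have h3 : ρ k v = v := hv.1.2
    change ρ k (ρ c v) = ρ c v
    rw [act_comm (hcK k hkK).symm, h3]⟩, by
    have h3 : ρ u v = v := hv.2
    change ρ u (ρ c v) = ρ c v
    rw [act_comm (hcK u huK).symm, h3]⟩) f2
  obtain ⟨f, hf, hfne⟩ := f3
  set D := (⊤ : Subgroup V) ⊓ fx ρ k ⊓ fx ρ u ⊓ fx ρ c with hD
  have hDe : D ≤ fx ρ e := by
    intro v hv
    have h3 : ρ k v = v := hv.1.1.2
    have h4 : ρ c v = v := hv.2
    change ρ e v = v
    rw [← hck, act_mul, h3, h4]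
  have hDw : ∀ v ∈ D, ρ w v ∈ D := by
    intro v hv
    have e1 : ρ k v = v := hv.1.1.2
    have e2 : ρ u v = v := hv.1.2
    have e3 : ρ c v = v := hv.2
    refine ⟨⟨⟨trivial, ?_⟩, ?_⟩, ?_⟩
    · change ρ k (ρ w v) = ρ w v
      have h3 : k * w = w * (k * u) := by
        symm
        calc w * (k * u) = w * (w * u * w⁻¹) := by rw [h2]
          _ = (w * w * w) * k * (w * w * w)⁻¹ * w := by rw [hu]; group
          _ = k * w := by rw [hw3]; group
      rw [← act_mul, h3, act_mul, act_mul, e2, e1]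
    · change ρ u (ρ w v) = ρ w v
      have h3 : u * w = w * k := by rw [hu]; group
      rw [← act_mul, h3, act_mul, e1]
    · change ρ c (ρ w v) = ρ w v
      rw [act_comm (hcK w hwK), e3]
  have hfw := h.a w hw D hDe hDw f hf
  obtain ⟨g, -, hg⟩ := AOneSit.exists_conj_zpowers h.cyc Nat.prime_three (by norm_num) (N := ⊤) (x := x) (y := w)
    trivial trivial h.x3 hw
  have hzz : zpowers x = zpowers (g * w * g⁻¹) := by
    refine eq_of_le_of_card_ge (zpowers_le.2 hg) ?_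
    rw [Nat.card_zpowers, Nat.card_zpowers, h.x3]
    have h3 : orderOf (g * w * g⁻¹) = orderOf w := by
      have := orderOf_injective (MulAut.conj g).toMonoidHom (MulAut.conj g).injective w
      exact this
    rw [h3, hw]
  have hfg : ρ (g * w * g⁻¹) (ρ g f) = ρ g f := by
    rw [← act_mul]
    have h3 : g * w * g⁻¹ * g = g * w := by group
    rw [h3, act_mul, hfw]
  have hfx : ρ g f ∈ fx ρ x := by
    obtain ⟨n, hn⟩ := hg
    have h3 : ρ g f ∈ fx ρ ((g * w * g⁻¹) ^ n) := by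
      obtain ⟨m, rfl | rfl⟩ := n.eq_nat_or_neg
      · rw [zpow_natCast]; exact fx_pow ρ hfg m
      · rw [zpow_neg, zpow_natCast]; exact fx_inv ρ (fx_pow ρ hfg m)
    have h4 : (g * w * g⁻¹) ^ n = x := hn
    rwa [h4] at h3
  have hne' : ρ g f ≠ 1 := by
    intro h3
    exact hfne ((map_eq_one_iff _ (ρ g).injective).1 h3)
  have hkn := h.b (ρ g f) hfx hne' (g * k * g⁻¹) (by
    rw [← act_mul]
    have h3 : g * k * g⁻¹ * g = g * k := by group
    have h4 : ρ k f = f := hf.1.1.2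
    rw [h3, act_mul, h4])
  rw [hzz] at hkn
  have h3 := (mem_normalizer_iff.1 hkn (g * w⁻¹ * g⁻¹)).1 (by
    have := inv_mem (mem_zpowers (g * w * g⁻¹))
    have h4 : (g * w * g⁻¹)⁻¹ = g * w⁻¹ * g⁻¹ := by group
    rwa [h4] at this)
  have h4 : g * (u * k) * g⁻¹ ∈ zpowers (g * w * g⁻¹) := by
    have h5 := mul_mem (mem_zpowers (g * w * g⁻¹)) h3
    have h6 : g * w * g⁻¹ * (g * k * g⁻¹ * (g * w⁻¹ * g⁻¹) * (g * k * g⁻¹)⁻¹) = g * (u * k) * g⁻¹ := by
      calc _ = g * (w * k * w⁻¹ * k⁻¹) * g⁻¹ := by group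
        _ = _ := by rw [hki, ← hu]
    rwa [h6] at h5
  have h5 : orderOf (g * (u * k) * g⁻¹) ∣ 3 := by
    have h6 := orderOf_dvd_of_mem_zpowers h4
    have h7 : orderOf (g * w * g⁻¹) = orderOf w := orderOf_injective (MulAut.conj g).toMonoidHom (MulAut.conj g).injective w
    rwa [h7, hw] at h6
  have h6 : orderOf (g * (u * k) * g⁻¹) ∣ 2 := by
    apply orderOf_dvd_of_pow_eq_one
    rw [pow_two]
    calc g * (u * k) * g⁻¹ * (g * (u * k) * g⁻¹) = g * (u * (k * u) * k) * g⁻¹ := by group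
      _ = g * ((u * u) * (k * k)) * g⁻¹ := by rw [h1]; group
      _ = 1 := by rw [huu, hk]; group
  have h7 : orderOf (g * (u * k) * g⁻¹) = 1 := by
    have h8 := Nat.dvd_gcd h5 h6
    exact Nat.dvd_one.1 h8
  rw [orderOf_eq_one_iff] at h7
  have h8 : u * k = 1 := by
    calc u * k = g⁻¹ * (g * (u * k) * g⁻¹) * g := by group
      _ = 1 := by rw [h7]; group
  apply hne
  rw [mul_eq_one_iff_eq_inv, hki] at h8
  exact h8

/-- `e` inverts no element of prime order `≥ 7` -/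
theorem small [Finite V] (h : Lk ρ K x e) {y : H} {p : ℕ} (hp : p.Prime) (hy : orderOf y = p) (hey : e * y * e⁻¹ = y⁻¹) :
    p = 2 ∨ p = 3 ∨ p = 5 := by
  by_cases hp2 : p = 2
  · exact Or.inl hp2
  right
  refine (FFPsl.small h.sq h.e2 hp hp2 hy ?_ hey h.idx).1
  by_contra hcon
  push Not at hcon
  have h3 : ρ y = 1 := by
    ext v
    exact hcon v
  have h4 : y = 1 := h.inj (by rw [h3, map_one])
  rw [h4, orderOf_one] at hy
  exact hp.one_lt.ne hy

end Lk

end Cfsg.Agent.OddCyclic.L32.LemKBase
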