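import Cfsg.Agent.OddCyclic.L32.Conf

/-!
# S0342, (C2), [Bc] section 1: the parabolic `P₁`

`X` of type `bc` with component `L`, `M = L T`, `N ⊴ X` natural with point `p`. `pl S N = C_N(J)` the plane,
`oo₁ = C_M(C_N(J)) = O₂(T⟨ξ⟩)`.
-/

set_option autoImplicit false
set_option linter.unusedSectionVars false

namespace Cfsg.Agent.OddCyclic.L32

open Subgroup Cfsg Cfsg.Agent.ZN Cfsg.Agent.MinSimple Cfsg.Agent.OddCyclic.UniStruct
open Cfsg.Agent.ZN.Block (o2_isPGroup conj_mem_of_normalizer conj_mem_of_normalizer' le_normalizer_of_forall)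
open Cfsg.Agent.OddCyclic.RedTy

universe u

variable {G : Type u} [Group G]

/-- the plane `C_N(J)` -/
def pl [Finite G] (S : Sylow 2 G) (N : Subgroup G) : Subgroup G := N ⊓ centralizer (jj (S : Subgroup G) : Set G)

theorem mem_pl [Finite G] {S : Sylow 2 G} {N : Subgroup G} {n : G} :
    n ∈ pl S N ↔ n ∈ N ∧ ∀ j ∈ jj (S : Subgroup G), j * n = n * j := by
  rw [pl, mem_inf, mem_centralizer_iff]
  rfl

theorem sq_inv {a : G} (h : a * a = 1) : a⁻¹ = a := inv_eq_of_mul_eq_one_left h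

variable [Finite G] {S : Sylow 2 G} {X T Y L₀ L N : Subgroup G} {p ξ : G}

namespace Nt

variable (n : Nt S X T Y L N p ξ)

include n

theorem qN : ξ * p * ξ⁻¹ ∈ N := (n.mem _).2 (Or.inr ⟨ξ, n.xL, rfl⟩)

theorem qp : ξ * p * ξ⁻¹ ≠ p := fun h => n.xp (mul_inv_eq_iff_eq_mul.1 h)

theorem q1 : ξ * p * ξ⁻¹ ≠ 1 := fun h => n.p1 (by
  have : p = ξ⁻¹ * (ξ * p * ξ⁻¹) * ξ := by group
  rw [this, h]; group)

theorem pp : p * p = 1 := n.sq p n.pN

theorem qq : (ξ * p * ξ⁻¹) * (ξ * p * ξ⁻¹) = 1 := n.sq _ n.qN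

theorem xxx : ξ * ξ * ξ = 1 := by
  have := n.x3
  rwa [pow_succ, pow_two] at this

/-- `ξ² p ξ⁻² = p q` -/
theorem x2 : ξ * ξ * p * (ξ * ξ)⁻¹ = p * (ξ * p * ξ⁻¹) := by
  have h1 := n.sum
  have h2 : ξ * ξ * p * (ξ * ξ)⁻¹ ∈ N := (n.mem _).2 (Or.inr ⟨ξ * ξ, mul_mem n.xL n.xL, rfl⟩)
  have h3 := n.sq _ h2
  calc ξ * ξ * p * (ξ * ξ)⁻¹ = (p * (ξ * p * ξ⁻¹) * (ξ * ξ * p * (ξ * ξ)⁻¹)) * (ξ * ξ * p * (ξ * ξ)⁻¹) := by
        rw [h1, one_mul]
    _ = p * (ξ * p * ξ⁻¹) := by rw [mul_assoc, h3, mul_one]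

theorem pl_iff {a : G} : a ∈ pl S N ↔ a = 1 ∨ a = p ∨ a = ξ * p * ξ⁻¹ ∨ a = p * (ξ * p * ξ⁻¹) := by
  rw [mem_pl]
  constructor
  · rintro ⟨h1, h2⟩
    exact (n.plane a h1).1 h2
  · intro h1
    have h2 : a ∈ N := by
      rcases h1 with rfl | rfl | rfl | rfl
      · exact one_mem _
      · exact n.pN
      · exact n.qN
      · exact mul_mem n.pN n.qN
    exact ⟨h2, (n.plane a h2).2 h1⟩

theorem p_pl : p ∈ pl S N := n.pl_iff.2 (Or.inr (Or.inl rfl))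

theorem q_pl : ξ * p * ξ⁻¹ ∈ pl S N := n.pl_iff.2 (Or.inr (Or.inr (Or.inl rfl)))

theorem card_pl : Nat.card (pl S N) = 4 := by
  classical
  obtain ⟨q, hq⟩ : ∃ q, q = ξ * p * ξ⁻¹ := ⟨_, rfl⟩
  have h1 : ((pl S N : Subgroup G) : Set G) = (({1, p, q, p * q} : Finset G) : Set G) := by
    ext a
    rw [SetLike.mem_coe, n.pl_iff, hq]
    simp
  have hqp : q ≠ p := by rw [hq]; exact n.qp
  have hq1 : q ≠ 1 := by rw [hq]; exact n.q1
  have hqq : q * q = 1 := by rw [hq]; exact n.qq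
  have h2 : ({1, p, q, p * q} : Finset G).card = 4 := by
    rw [Finset.card_insert_of_notMem, Finset.card_insert_of_notMem, Finset.card_insert_of_notMem,
      Finset.card_singleton]
    · rw [Finset.mem_singleton]
      intro h; exact n.p1 (mul_eq_right.1 h.symm)
    · simp only [Finset.mem_insert, Finset.mem_singleton, not_or]
      exact ⟨hqp.symm, fun h => hq1 (mul_eq_left.1 h.symm)⟩
    · simp only [Finset.mem_insert, Finset.mem_singleton, not_or]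
      refine ⟨n.p1.symm, hq1.symm, fun h => hqp ?_⟩
      have h3 : p * q = q * q := by rw [← h, hqq]
      exact (mul_right_cancel h3).symm
  have h3 : ((pl S N : Subgroup G) : Set G).ncard = 4 := by rw [h1, Set.ncard_coe_finset, h2]
  rw [← h3]; rfl

theorem pl_le : pl S N ≤ N := inf_le_left

theorem relIndex_pl : (pl S N).relIndex N = 2 := by
  have h1 := ZN.Block.card_mul_relIndex' n.pl_le
  rw [n.card_pl, n.card] at h1
  omega

theorem mul_pl {a b : G} (ha : a ∈ N) (hb : b ∈ N) (ha' : a ∉ pl S N) (hb' : b ∉ pl S N) : a * b ∈ pl S N := by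
  have h1 := n.relIndex_pl
  rw [Subgroup.relIndex] at h1
  exact (Subgroup.mul_mem_iff_of_index_two h1 (a := (⟨a, ha⟩ : N)) (b := ⟨b, hb⟩)).2
    ⟨fun h => absurd h ha', fun h => absurd h hb'⟩

theorem exists_not_pl : ∃ m ∈ N, m ∉ pl S N := by
  by_contra hcon
  push Not at hcon
  have h1 := Subgroup.card_le_of_le (show N ≤ pl S N from hcon)
  rw [n.card_pl, n.card] at h1
  omega

theorem LN (hLX : L ≤ X) {l m : G} (hl : l ∈ L) (hm : m ∈ N) : l * m * l⁻¹ ∈ N :=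
  (mem_normalizer_iff.1 (n.norm (hLX hl)) m).1 hm

/-- an element of `M` which centralises the plane: its square centralises `N` -/
theorem sq_cent {g : G} (hg : g ∈ X) (h1 : ∀ m ∈ pl S N, g * m = m * g) : g * g ∈ centralizer (N : Set G) := by
  rw [mem_centralizer_iff]
  intro m hm
  have hm' : m ∈ N := hm
  by_cases hp : m ∈ pl S N
  · have h2 := h1 m hp
    rw [← mul_assoc, ← h2, mul_assoc, ← h2, ← mul_assoc]
  · have h2 : g * m * g⁻¹ ∈ N := (mem_normalizer_iff.1 (n.norm hg) m).1 hm'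
    have h3 : g * m * g⁻¹ ∉ pl S N := by
      intro h4
      apply hp
      have h5 := h1 _ h4
      have h6 : g * m * g⁻¹ = m := by
        have h7 : g * (g * m * g⁻¹) * g⁻¹ = g * m * g⁻¹ := by rw [h5, mul_inv_cancel_right]
        have h8 : g * m * g⁻¹ = g⁻¹ * (g * (g * m * g⁻¹) * g⁻¹) * g := by group
        rw [h8, h7]; group
      rwa [h6] at h4
    have h4 := n.mul_pl h2 hm' h3 hp
    obtain ⟨c, hc⟩ : ∃ c, c = g * m * g⁻¹ * m := ⟨_, rfl⟩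
    rw [← hc] at h4
    have hmm := n.sq m hm'
    have hcc := n.sq c (n.pl_le h4)
    have h5 : g * m * g⁻¹ = c * m := by rw [hc, mul_assoc (g * m * g⁻¹), hmm, mul_one]
    have h6 : g * g * m * (g * g)⁻¹ = m := by
      have e : g * g * m * (g * g)⁻¹ = g * (g * m * g⁻¹) * g⁻¹ := by group
      rw [e, h5]
      have e2 : g * (c * m) * g⁻¹ = (g * c * g⁻¹) * (g * m * g⁻¹) := by group
      rw [e2, h5, h1 c h4, mul_inv_cancel_right, ← mul_assoc, hcc, one_mul]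
    exact (mul_inv_eq_iff_eq_mul.1 h6).symm

end Nt

theorem Lev.T_le_N (h : Lev S X T Y L₀ L) : T ≤ normalizer (L : Set G) := h.yc.TX.trans h.cmp.cp.norm

theorem Lev.M_le (h : Lev S X T Y L₀ L) : L ⊔ T ≤ X := sup_le h.cmp.cp.le h.yc.TX

theorem Lev.J_le_T (h : Lev S X T Y L₀ L) : jj (S : Subgroup G) ≤ T := by rw [← h.jj_eq]; exact jj_le T

theorem Lev.T_le_NJ (h : Lev S X T Y L₀ L) : T ≤ normalizer (jj (S : Subgroup G) : Set G) :=
  EmptyTI.le_normalizer_jj S h.yc.two h.J_le_T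

/-- `L T / L` is a 2-group -/
theorem Lev.exists_pow_mem (h : Lev S X T Y L₀ L) {g : G} (hg : g ∈ L ⊔ T) : ∃ k : ℕ, g ^ 2 ^ k ∈ L := by
  rw [sup_comm] at hg
  obtain ⟨t, ht, l, hl, rfl⟩ := exists_mul_of_mem_sup h.T_le_N hg
  obtain ⟨k, hk⟩ := h.yc.two ⟨t, ht⟩
  have hk' : t ^ 2 ^ k = 1 := congrArg Subtype.val hk
  have h1 : (L.subgroupOf (normalizer (L : Set G))).Normal := inferInstance
  let φ := QuotientGroup.mk' (L.subgroupOf (normalizer (L : Set G)))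
  have hN := h.T_le_N ht
  have h2 : φ ⟨l, le_normalizer hl⟩ = 1 := by
    rw [← MonoidHom.mem_ker, QuotientGroup.ker_mk']
    exact hl
  refine ⟨k, ?_⟩
  have h3 : φ ((⟨t, hN⟩ * ⟨l, le_normalizer hl⟩) ^ 2 ^ k) = 1 := by
    rw [map_pow, map_mul, h2, mul_one, ← map_pow]
    have : (⟨t, hN⟩ : normalizer (L : Set G)) ^ 2 ^ k = 1 := Subtype.ext hk'
    rw [this, map_one]
  rw [← MonoidHom.mem_ker, QuotientGroup.ker_mk'] at h3
  exact h3

theorem Lev.isPGroup_of (h : Lev S X T Y L₀ L) (n : Nt S X T Y L N p ξ) {D : Subgroup G} (hD : D ≤ L ⊔ T)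
    (h2 : ∀ g ∈ D, ∃ k : ℕ, g ^ 2 ^ k ∈ centralizer (N : Set G)) : IsPGroup 2 D := by
  rintro ⟨g, hg⟩
  obtain ⟨k, hk⟩ := h2 g hg
  obtain ⟨j, hj⟩ := h.exists_pow_mem (hD hg)
  have h3 : g ^ 2 ^ (k + j) ∈ o2 L := by
    rw [← n.faith]
    refine ⟨?_, ?_⟩
    · rw [pow_add, mul_comm, pow_mul]; exact pow_mem hj _
    · rw [pow_add, pow_mul]; exact pow_mem hk _
  obtain ⟨i, hi⟩ := o2_isPGroup L ⟨_, h3⟩
  refine ⟨k + j + i, Subtype.ext ?_⟩
  have h4 : (g ^ 2 ^ (k + j)) ^ 2 ^ i = 1 := congrArg Subtype.val hi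
  show g ^ 2 ^ (k + j + i) = 1
  rw [pow_add, pow_mul]
  exact h4

theorem Lev.le_T_of (h : Lev S X T Y L₀ L) {D : Subgroup G} (hD : D ≤ X) (hp : IsPGroup 2 D)
    (hT : T ≤ normalizer (D : Set G)) : D ≤ T := by
  have h1 : IsPGroup 2 (T ⊔ D : Subgroup G) := h.yc.two.to_sup_of_normal_right' hp hT
  have h2 : T.relIndex (T ⊔ D) ∣ T.relIndex X := by
    rw [← relIndex_mul_relIndex T (T ⊔ D) X le_sup_left (sup_le h.yc.TX hD)]
    exact dvd_mul_right _ _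
  obtain ⟨k, hk⟩ := IsPGroup.iff_card.1 h1
  have h3 : T.relIndex (T ⊔ D) ∣ 2 ^ k := by
    rw [← hk]; exact Subgroup.relIndex_dvd_card _ _
  obtain ⟨j, hj, hj2⟩ := (Nat.dvd_prime_pow Nat.prime_two).1 h3
  rcases Nat.eq_zero_or_pos j with h0 | h0
  · rw [h0, pow_zero, Subgroup.relIndex_eq_one] at hj2
    exact le_sup_right.trans hj2
  · exfalso
    apply h.yc.syl
    refine Dvd.dvd.trans ?_ h2
    rw [hj2]
    exact dvd_pow_self 2 (by omega)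

/-- `O₂(P₁)` -/
def oo₁ (S : Sylow 2 G) (T L N : Subgroup G) : Subgroup G := (L ⊔ T) ⊓ centralizer (pl S N : Set G)

theorem mem_oo₁ (n : Nt S X T Y L N p ξ) {g : G} (hg : g ∈ L ⊔ T) :
    g ∈ oo₁ S T L N ↔ g * p = p * g ∧ g * (ξ * p * ξ⁻¹) = (ξ * p * ξ⁻¹) * g := by
  rw [oo₁, mem_inf, mem_centralizer_iff]
  constructor
  · rintro ⟨-, h1⟩
    exact ⟨(h1 _ n.p_pl).symm, (h1 _ n.q_pl).symm⟩
  · rintro ⟨h1, h2⟩
    refine ⟨hg, fun a ha => ?_⟩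
    rcases n.pl_iff.1 ha with rfl | rfl | rfl | rfl
    · rw [one_mul, mul_one]
    · exact h1.symm
    · exact h2.symm
    · rw [mul_assoc, ← h2, ← mul_assoc, ← h1, mul_assoc]

theorem Lev.J_le_oo₁ (h : Lev S X T Y L₀ L) : jj (S : Subgroup G) ≤ oo₁ S T L N := by
  refine le_inf (h.J_le_T.trans le_sup_right) ?_
  rw [le_centralizer_iff]
  exact inf_le_right

theorem Lev.oo₁_two (h : Lev S X T Y L₀ L) (n : Nt S X T Y L N p ξ) : IsPGroup 2 (oo₁ S T L N) := by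
  refine h.isPGroup_of n inf_le_left fun g hg => ⟨1, ?_⟩
  rw [pow_one, pow_two]
  exact n.sq_cent (h.M_le hg.1) fun m hm => (mem_centralizer_iff.1 hg.2 m hm).symm

theorem Nt.norm_pl (n : Nt S X T Y L N p ξ) {g : G} (hg : g ∈ X) (hgJ : g ∈ normalizer (jj (S : Subgroup G) : Set G)) :
    g ∈ normalizer (pl S N : Set G) := by
  have h1 := n.norm hg
  rw [mem_normalizer_iff] at h1 ⊢
  intro a
  rw [pl, mem_inf, mem_inf]
  refine and_congr (h1 a) ?_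
  have h2 : g ∈ normalizer (centralizer (jj (S : Subgroup G) : Set G) : Set G) := by
    rw [mem_normalizer_iff]
    intro b
    rw [mem_centralizer_iff, mem_centralizer_iff]
    constructor
    · intro hb j hj
      have h3 := hb (g⁻¹ * j * g) (conj_mem_of_normalizer' le_rfl hgJ hj)
      calc j * (g * b * g⁻¹) = g * ((g⁻¹ * j * g) * b) * g⁻¹ := by group
        _ = g * (b * (g⁻¹ * j * g)) * g⁻¹ := by rw [h3]
        _ = g * b * g⁻¹ * j := by group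
    · intro hb j hj
      have h3 := hb (g * j * g⁻¹) ((mem_normalizer_iff.1 hgJ j).1 hj)
      calc j * b = g⁻¹ * ((g * j * g⁻¹) * (g * b * g⁻¹)) * g := by group
        _ = g⁻¹ * ((g * b * g⁻¹) * (g * j * g⁻¹)) * g := by rw [h3]
        _ = b * j := by group
  exact mem_normalizer_iff.1 h2 a

theorem Nt.oo₁_norm (h : Lev S X T Y L₀ L) (n : Nt S X T Y L N p ξ) {g : G} (hg : g ∈ L ⊔ T)
    (hgJ : g ∈ normalizer (jj (S : Subgroup G) : Set G)) : g ∈ normalizer (oo₁ S T L N : Set G) := by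
  have h1 := n.norm_pl (h.M_le hg) hgJ
  have h2 : g ∈ normalizer (((L ⊔ T : Subgroup G)) : Set G) := le_normalizer hg
  rw [mem_normalizer_iff] at h1 h2 ⊢
  intro a
  rw [oo₁, mem_inf, mem_inf]
  refine and_congr (h2 a) ?_
  rw [mem_centralizer_iff, mem_centralizer_iff]
  constructor
  · intro hb j hj
    have h4 : g⁻¹ * j * g ∈ pl S N := by
      have := (h1 (g⁻¹ * j * g)).2
      apply this
      have e : g * (g⁻¹ * j * g) * g⁻¹ = j := by group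
      rw [e]; exact hj
    have h3 := hb (g⁻¹ * j * g) h4
    calc j * (g * a * g⁻¹) = g * ((g⁻¹ * j * g) * a) * g⁻¹ := by group
      _ = g * (a * (g⁻¹ * j * g)) * g⁻¹ := by rw [h3]
      _ = g * a * g⁻¹ * j := by group
  · intro hb j hj
    have h3 := hb (g * j * g⁻¹) ((h1 j).1 hj)
    calc j * a = g⁻¹ * ((g * j * g⁻¹) * (g * a * g⁻¹)) * g := by group
      _ = g⁻¹ * ((g * a * g⁻¹) * (g * j * g⁻¹)) * g := by rw [h3]
      _ = a * j := by group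

theorem Lev.oo₁_le (h : Lev S X T Y L₀ L) (n : Nt S X T Y L N p ξ) : oo₁ S T L N ≤ T :=
  h.le_T_of (inf_le_left.trans h.M_le) (h.oo₁_two n) fun _ ht =>
    n.oo₁_norm h (le_sup_right (a := L) ht) (h.T_le_NJ ht)

theorem Lev.T_le_oo₁ (h : Lev S X T Y L₀ L) (n : Nt S X T Y L N p ξ) : T ≤ normalizer (oo₁ S T L N : Set G) :=
  fun _ ht => n.oo₁_norm h (le_sup_right (a := L) ht) (h.T_le_NJ ht)

/-- `T` acts on the plane, fixing `p` -/
theorem Lev.T_q (h : Lev S X T Y L₀ L) (n : Nt S X T Y L N p ξ) {t : G} (ht : t ∈ T) :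
    t * (ξ * p * ξ⁻¹) * t⁻¹ = ξ * p * ξ⁻¹ ∨ t * (ξ * p * ξ⁻¹) * t⁻¹ = p * (ξ * p * ξ⁻¹) := by
  have h1 := (mem_normalizer_iff.1 (n.norm_pl (h.yc.TX ht) (h.T_le_NJ ht)) _).1 n.q_pl
  rcases n.pl_iff.1 h1 with h2 | h2 | h2 | h2
  · exfalso
    exact n.q1 (by
      have e : ξ * p * ξ⁻¹ = t⁻¹ * (t * (ξ * p * ξ⁻¹) * t⁻¹) * t := by group
      rw [e, h2]; group)
  · exfalso
    apply n.qp
    have e : ξ * p * ξ⁻¹ = t⁻¹ * (t * (ξ * p * ξ⁻¹) * t⁻¹) * t := by group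
    rw [e, h2, mul_assoc, ← n.pT t ht]; group
  · exact Or.inl h2
  · exact Or.inr h2

theorem Lev.T_q_of_not (h : Lev S X T Y L₀ L) (n : Nt S X T Y L N p ξ) {t : G} (ht : t ∈ T) (ht' : t ∉ oo₁ S T L N) :
    t * (ξ * p * ξ⁻¹) * t⁻¹ = p * (ξ * p * ξ⁻¹) := by
  refine (h.T_q n ht).resolve_left fun h1 => ht' ?_
  rw [mem_oo₁ n (le_sup_right (a := L) ht)]
  exact ⟨n.pT t ht, mul_inv_eq_iff_eq_mul.1 h1⟩

theorem Lev.oo₁_rel (h : Lev S X T Y L₀ L) (n : Nt S X T Y L N p ξ) : (oo₁ S T L N).relIndex T = 2 := by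
  have hne : ∃ t ∈ T, t ∉ oo₁ S T L N := by
    by_contra hcon
    push Not at hcon
    apply n.qp
    refine n.eq_p _ n.qN n.q1 fun t ht => ?_
    exact ((mem_oo₁ n (le_sup_right (a := L) ht)).1 (hcon t ht)).2
  obtain ⟨t, ht, ht'⟩ := hne
  rw [Subgroup.relIndex, Subgroup.index_eq_two_iff_exists_notMem_and]
  refine ⟨⟨t, ht⟩, ht', fun b => ?_⟩
  by_cases hb : (b : G) ∈ oo₁ S T L N
  · exact Or.inr hb
  left
  show (b : G) * t ∈ oo₁ S T L N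
  have hbt : (b : G) * t ∈ T := mul_mem b.2 ht
  rw [mem_oo₁ n (le_sup_right (a := L) hbt)]
  refine ⟨n.pT _ hbt, ?_⟩
  rw [← mul_inv_eq_iff_eq_mul]
  have h1 := h.T_q_of_not n ht ht'
  have h2 := h.T_q_of_not n b.2 hb
  have h3 := n.pT _ b.2
  have e : (b : G) * t * (ξ * p * ξ⁻¹) * ((b : G) * t)⁻¹ = b * (t * (ξ * p * ξ⁻¹) * t⁻¹) * (b : G)⁻¹ := by group
  have e2 : (b : G) * (p * (ξ * p * ξ⁻¹)) * (b : G)⁻¹ = (b * p * (b : G)⁻¹) * (b * (ξ * p * ξ⁻¹) * (b : G)⁻¹) := by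
    group
  rw [e, h1, e2, h2, h3, mul_inv_cancel_right, ← mul_assoc, n.pp, one_mul]

/-- `t ∈ T - O₁` inverts `ξ` modulo `O₁` -/
theorem Lev.inv₁ (h : Lev S X T Y L₀ L) (n : Nt S X T Y L N p ξ) {t : G} (ht : t ∈ T) (ht' : t ∉ oo₁ S T L N) :
    t * ξ * t⁻¹ * ξ ∈ oo₁ S T L N := by
  have hM : t * ξ * t⁻¹ * ξ ∈ L ⊔ T := by
    have h1 : t ∈ L ⊔ T := le_sup_right (a := L) ht
    have h2 : ξ ∈ L ⊔ T := le_sup_left (b := T) n.xL
    exact mul_mem (mul_mem (mul_mem h1 h2) (inv_mem h1)) h2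
  obtain ⟨q, hq⟩ : ∃ q, q = ξ * p * ξ⁻¹ := ⟨_, rfl⟩
  have h1 := h.T_q_of_not n ht ht'
  have h2 := n.x2
  have h3 := n.xxx
  rw [mem_oo₁ n hM, ← mul_inv_eq_iff_eq_mul, ← mul_inv_eq_iff_eq_mul]
  rw [← hq] at h1 h2 ⊢
  -- the actions
  have tp : t * p * t⁻¹ = p := by rw [n.pT t ht, mul_inv_cancel_right]
  have tip : t⁻¹ * p * t = p := by rw [mul_assoc, ← n.pT t ht, inv_mul_cancel_left]
  have xq : ξ * q * ξ⁻¹ = p * q := by rw [← h2, hq]; group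
  have xpq : ξ * (p * q) * ξ⁻¹ = p := by
    have e : ξ * (p * q) * ξ⁻¹ = (ξ * ξ * ξ) * p * (ξ * ξ * ξ)⁻¹ := by rw [← h2]; group
    rw [e, h3]; group
  have tpq : t * (p * q) * t⁻¹ = q := by
    have e : t * (p * q) * t⁻¹ = (t * p * t⁻¹) * (t * q * t⁻¹) := by group
    rw [e, tp, h1, ← mul_assoc, n.pp, one_mul]
  have tiq : t⁻¹ * q * t = p * q := by
    have e : t⁻¹ * (t * (p * q) * t⁻¹) * t = p * q := by group
    rwa [tpq] at e
  have tipq : t⁻¹ * (p * q) * t = q := by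
    have e : t⁻¹ * (t * q * t⁻¹) * t = q := by group
    rwa [h1] at e
  constructor
  · have e : t * ξ * t⁻¹ * ξ * p * (t * ξ * t⁻¹ * ξ)⁻¹ = t * (ξ * (t⁻¹ * (ξ * p * ξ⁻¹) * t) * ξ⁻¹) * t⁻¹ := by group
    rw [e, ← hq, tiq, xpq, tp]
  · have e : t * ξ * t⁻¹ * ξ * q * (t * ξ * t⁻¹ * ξ)⁻¹ = t * (ξ * (t⁻¹ * (ξ * q * ξ⁻¹) * t) * ξ⁻¹) * t⁻¹ := by group
    rw [e, xq, tipq, xq, tpq]

end Cfsg.Agent.OddCyclic.L32
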