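import Cfsg.Agent.OddCyclic.L32.ConfA

/-!
# S0342, (C2), [Bc] section 1: the parabolic `P`

`oo = {g ∈ L T : [N, g] ≤ ⟨p⟩}`; `u ∈ L` of order 3 centralising `p`. `J` and all `A ∈ 𝒜(T)` moving `N` induce all
transvections with axis `C_N(J)`.
-/

set_option autoImplicit false
set_option linter.unusedSectionVars false

namespace Cfsg.Agent.OddCyclic.L32

open Subgroup Cfsg Cfsg.Agent.ZN Cfsg.Agent.MinSimple Cfsg.Agent.OddCyclic.UniStruct
open Cfsg.Agent.ZN.Block (o2_isPGroup conj_mem_of_normalizer conj_mem_of_normalizer' le_normalizer_of_forall)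
open Cfsg.Agent.OddCyclic.RedTy

universe u

variable {G : Type u} [Group G]

/-- `v ∈ {u, p u}` -/
def md (p u v : G) : Prop := v = u ∨ v = p * u

theorem md_refl (p u : G) : md p u u := Or.inl rfl

theorem md_symm {p u v : G} (hp : p * p = 1) (h : md p u v) : md p v u := by
  rcases h with rfl | rfl
  · exact Or.inl rfl
  · right; rw [← mul_assoc, hp, one_mul]

theorem md_trans {p u v w : G} (hp : p * p = 1) (h : md p u v) (h' : md p v w) : md p u w := by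
  rcases h with rfl | rfl <;> rcases h' with rfl | rfl
  · exact Or.inl rfl
  · exact Or.inr rfl
  · exact Or.inr rfl
  · left; rw [← mul_assoc, hp, one_mul]

theorem md_conj {p u v g : G} (hg : g * p = p * g) (h : md p u v) : md p (g * u * g⁻¹) (g * v * g⁻¹) := by
  rcases h with rfl | rfl
  · exact Or.inl rfl
  · right; rw [← mul_assoc, hg]; group

theorem md_mul {p u v u' v' : G} (hp : p * p = 1) (hu : p * u = u * p) (h : md p u v) (h' : md p u' v') :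
    md p (u * u') (v * v') := by
  rcases h with rfl | rfl <;> rcases h' with rfl | rfl
  · exact Or.inl rfl
  · right; rw [← mul_assoc, ← hu, mul_assoc]
  · right; rw [mul_assoc]
  · left
    have e : p * u * (p * u') = p * (u * p) * u' := by group
    rw [e, ← hu, ← mul_assoc, hp, one_mul]

variable [Finite G] {S : Sylow 2 G} {X T Y L₀ L N : Subgroup G} {p ξ : G}

/-- `O₂(P)` -/
def oo (L T N : Subgroup G) (p : G) : Subgroup G where
  carrier := {g | g ∈ L ⊔ T ∧ g * p = p * g ∧ ∀ m ∈ N, ∃ k : ℤ, g * m * g⁻¹ = p ^ k * m}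
  mul_mem' := by
    rintro a b ⟨ha, hap, ham⟩ ⟨hb, hbp, hbm⟩
    refine ⟨mul_mem ha hb, by rw [mul_assoc, hbp, ← mul_assoc, hap, mul_assoc], fun m hm => ?_⟩
    obtain ⟨k, hk⟩ := ham m hm
    obtain ⟨l, hl⟩ := hbm m hm
    refine ⟨l + k, ?_⟩
    have h1 : a * p ^ l = p ^ l * a := ((show Commute a p from hap).zpow_right l).eq
    have e : a * b * m * (a * b)⁻¹ = a * (b * m * b⁻¹) * a⁻¹ := by group
    rw [e, hl, ← mul_assoc, h1, mul_assoc, mul_assoc, ← mul_assoc a, hk, zpow_add, mul_assoc]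
  one_mem' := ⟨one_mem _, by rw [one_mul, mul_one], fun m hm => ⟨0, by simp⟩⟩
  inv_mem' := by
    rintro a ⟨ha, hap, ham⟩
    have hap' : a⁻¹ * p = p * a⁻¹ := ((show Commute a p from hap).inv_left).eq
    refine ⟨inv_mem ha, hap', fun m hm => ?_⟩
    obtain ⟨k, hk⟩ := ham m hm
    refine ⟨-k, ?_⟩
    have h1 : a⁻¹ * p ^ (-k) = p ^ (-k) * a⁻¹ := ((show Commute a⁻¹ p from hap').zpow_right (-k)).eq
    have h2 : m = p ^ (-k) * (a * m * a⁻¹) := by rw [hk, ← mul_assoc, ← zpow_add]; simp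
    calc a⁻¹ * m * a⁻¹⁻¹ = a⁻¹ * (p ^ (-k) * (a * m * a⁻¹)) * a⁻¹⁻¹ := by rw [← h2]
      _ = (a⁻¹ * p ^ (-k)) * a * m := by group
      _ = p ^ (-k) * m := by rw [h1]; group

theorem Nt.zpow_or (n : Nt S X T Y L N p ξ) (k : ℤ) : p ^ k = 1 ∨ p ^ k = p := by
  have h1 : p ^ k = p ^ (k % 2) := by
    have h2 : p ^ (2 : ℤ) = 1 := by rw [zpow_ofNat, pow_two, n.pp]
    conv_lhs => rw [← Int.emod_add_mul_ediv k 2]
    rw [zpow_add, zpow_mul, h2, one_zpow, mul_one]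
  have h2 : k % 2 = 0 ∨ k % 2 = 1 := by omega
  rcases h2 with h2 | h2
  · left; rw [h1, h2, zpow_zero]
  · right; rw [h1, h2, zpow_one]

theorem mem_oo (n : Nt S X T Y L N p ξ) {g : G} (hg : g ∈ L ⊔ T) :
    g ∈ oo L T N p ↔ ∀ m ∈ N, md p m (g * m * g⁻¹) := by
  constructor
  · rintro ⟨-, -, h1⟩ m hm
    obtain ⟨k, hk⟩ := h1 m hm
    rcases n.zpow_or k with h2 | h2
    · left; rw [hk, h2, one_mul]
    · right; rw [hk, h2]
  · intro h1
    refine ⟨hg, ?_, fun m hm => ?_⟩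
    · rcases h1 p n.pN with h2 | h2
      · exact mul_inv_eq_iff_eq_mul.1 h2
      · exfalso
        rw [n.pp, mul_inv_eq_one] at h2
        exact n.p1 (mul_eq_left.1 h2)
    · rcases h1 m hm with h2 | h2
      · exact ⟨0, by rw [h2, zpow_zero, one_mul]⟩
      · exact ⟨1, by rw [h2, zpow_one]⟩

theorem oo_comm {g : G} (hg : g ∈ oo L T N p) : g * p = p * g := hg.2.1

theorem Lev.oo_two (h : Lev S X T Y L₀ L) (n : Nt S X T Y L N p ξ) : IsPGroup 2 (oo L T N p) := by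
  refine h.isPGroup_of n (fun g hg => hg.1) fun g hg => ⟨1, ?_⟩
  rw [pow_one, pow_two, mem_centralizer_iff]
  intro m hm
  have h1 := (mem_oo n hg.1).1 hg m hm
  have h2 := oo_comm hg
  have h3 : g * g * m * (g * g)⁻¹ = m := by
    have e : g * g * m * (g * g)⁻¹ = g * (g * m * g⁻¹) * g⁻¹ := by group
    rw [e]
    rcases h1 with h3 | h3
    · rw [h3, h3]
    · rw [h3]
      have e2 : g * (p * m) * g⁻¹ = (g * p) * g⁻¹ * (g * m * g⁻¹) := by group
      rw [e2, h2, h3, mul_inv_cancel_right, ← mul_assoc, n.pp, one_mul]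
  exact (mul_inv_eq_iff_eq_mul.1 h3).symm

theorem Nt.oo_norm (n : Nt S X T Y L N p ξ) (h : Lev S X T Y L₀ L) {g : G} (hg : g ∈ L ⊔ T) (hgp : g * p = p * g) :
    g ∈ normalizer (oo L T N p : Set G) := by
  have key : ∀ g : G, g ∈ L ⊔ T → g * p = p * g → ∀ a ∈ oo L T N p, g * a * g⁻¹ ∈ oo L T N p := by
    intro g hg hgp a ha
    have hgN := n.norm (h.M_le hg)
    rw [mem_oo n (mul_mem (mul_mem hg ha.1) (inv_mem hg))]
    intro m hm
    have h1 : g⁻¹ * m * g ∈ N := conj_mem_of_normalizer' le_rfl hgN hm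
    have h2 := md_conj hgp ((mem_oo n ha.1).1 ha _ h1)
    have e1 : g * (g⁻¹ * m * g) * g⁻¹ = m := by group
    have e2 : g * (a * (g⁻¹ * m * g) * a⁻¹) * g⁻¹ = g * a * g⁻¹ * m * (g * a * g⁻¹)⁻¹ := by group
    rwa [e1, e2] at h2
  rw [mem_normalizer_iff]
  intro a
  refine ⟨key g hg hgp a, fun ha => ?_⟩
  have h1 := key g⁻¹ (inv_mem hg) ((show Commute g p from hgp).inv_left).eq _ ha
  have e : g⁻¹ * (g * a * g⁻¹) * g⁻¹⁻¹ = a := by group
  rwa [e] at h1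

theorem Lev.T_le_oo (h : Lev S X T Y L₀ L) (n : Nt S X T Y L N p ξ) : T ≤ normalizer (oo L T N p : Set G) :=
  fun t ht => n.oo_norm h (le_sup_right (a := L) ht) (n.pT t ht)

theorem Lev.oo_le (h : Lev S X T Y L₀ L) (n : Nt S X T Y L N p ξ) : oo L T N p ≤ T :=
  h.le_T_of (fun _ hg => h.M_le hg.1) (h.oo_two n) (h.T_le_oo n)

/-- `J` induces all transvections with axis `C_N(J)` -/
theorem Lev.exists_j (h : Lev S X T Y L₀ L) (n : Nt S X T Y L N p ξ) {c : G} (hc : c ∈ pl S N) :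
    ∃ j ∈ jj (S : Subgroup G), ∀ v ∈ N, v ∉ pl S N → j * v * j⁻¹ = c * v := by
  obtain ⟨v₀, hv₀, hv₀'⟩ := n.exists_not_pl
  have hJX : jj (S : Subgroup G) ≤ X := h.J_le_T.trans h.yc.TX
  have hjN : ∀ j ∈ jj (S : Subgroup G), ∀ v ∈ N, j * v * j⁻¹ ∈ N := fun j hj v hv =>
    (mem_normalizer_iff.1 (n.norm (hJX hj)) v).1 hv
  have hjp : ∀ j ∈ jj (S : Subgroup G), ∀ v ∈ pl S N, j * v * j⁻¹ = v := fun j hj v hv =>
    mul_inv_eq_iff_eq_mul.2 ((mem_pl.1 hv).2 j hj)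
  have hjn : ∀ j ∈ jj (S : Subgroup G), ∀ v ∉ pl S N, j * v * j⁻¹ ∉ pl S N := by
    intro j hj v hv h1
    apply hv
    have h2 := hjp j⁻¹ (inv_mem hj) _ h1
    have e : j⁻¹ * (j * v * j⁻¹) * j⁻¹⁻¹ = v := by group
    rw [e] at h2
    rw [h2]; exact h1
  have hmem : ∀ j : jj (S : Subgroup G), (j : G) * v₀ * (j : G)⁻¹ * v₀ ∈ pl S N := fun j =>
    n.mul_pl (hjN j j.2 v₀ hv₀) hv₀ (hjn j j.2 v₀ hv₀') hv₀'
  obtain ⟨f, hf⟩ : ∃ f : jj (S : Subgroup G) →* pl S N, ∀ j, ((f j : pl S N) : G) = j * v₀ * (j : G)⁻¹ * v₀ := by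
    refine ⟨MonoidHom.mk' (fun j => ⟨_, hmem j⟩) fun a b => Subtype.ext ?_, fun j => rfl⟩
    show ((a * b : jj (S : Subgroup G)) : G) * v₀ * ((a * b : jj (S : Subgroup G)) : G)⁻¹ * v₀ =
      ((a : G) * v₀ * (a : G)⁻¹ * v₀) * ((b : G) * v₀ * (b : G)⁻¹ * v₀)
    have h1 := hjp a a.2 _ (hmem b)
    have hvv := n.sq v₀ hv₀
    have h2 := n.comm _ (n.pl_le (hmem a)) _ (n.pl_le (hmem b))
    have e : ((a * b : jj (S : Subgroup G)) : G) * v₀ * ((a * b : jj (S : Subgroup G)) : G)⁻¹ * v₀ =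
        ((a : G) * ((b : G) * v₀ * (b : G)⁻¹ * v₀) * (a : G)⁻¹) * (a * v₀⁻¹ * (a : G)⁻¹) * v₀ := by
      push_cast; group
    rw [e, h1, h2, sq_inv hvv]
    group
  have hker : f.ker = (centralizer (Y : Set G)).subgroupOf (jj (S : Subgroup G)) := by
    ext j
    rw [MonoidHom.mem_ker, mem_subgroupOf]
    constructor
    · intro h1
      apply n.jc
      refine ⟨j.2, mem_centralizer_iff.2 fun m hm => ?_⟩
      have h2 : (j : G) * v₀ * (j : G)⁻¹ * v₀ = 1 := by rw [← hf, h1]; rfl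
      have h3 : (j : G) * v₀ * (j : G)⁻¹ = v₀ := by
        rw [mul_eq_one_iff_eq_inv, sq_inv (n.sq v₀ hv₀)] at h2; exact h2
      have h4 : (j : G) * m * (j : G)⁻¹ = m := by
        by_cases hmp : m ∈ pl S N
        · exact hjp j j.2 m hmp
        · have h5 := n.mul_pl hm hv₀ hmp hv₀'
          have h6 := hjp j j.2 _ h5
          have e : (j : G) * (m * v₀) * (j : G)⁻¹ = (j * m * (j : G)⁻¹) * (j * v₀ * (j : G)⁻¹) := by group
          rw [e, h3] at h6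
          exact mul_right_cancel h6
      exact (mul_inv_eq_iff_eq_mul.1 h4).symm
    · intro h1
      apply Subtype.ext
      rw [hf]
      have h2 : v₀ * (j : G) = j * v₀ := mem_centralizer_iff.1 h1 v₀ (n.le hv₀)
      rw [← h2, mul_inv_cancel_right, n.sq v₀ hv₀]
      rfl
  have hcard : Nat.card f.range = 4 := by
    rw [← Subgroup.index_ker, hker]
    have h1 := h.bc.four
    rw [h.jj_eq] at h1
    rw [← h1, inf_comm, Subgroup.inf_relIndex_right]
    rfl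
  have hsurj : f.range = ⊤ := by
    apply Subgroup.eq_top_of_card_eq
    rw [hcard, n.card_pl]
  obtain ⟨j, hj⟩ : (⟨c, hc⟩ : pl S N) ∈ f.range := by rw [hsurj]; exact mem_top _
  have hj1 : (j : G) * v₀ * (j : G)⁻¹ * v₀ = c := by rw [← hf, hj]
  have hj2 : (j : G) * v₀ * (j : G)⁻¹ = c * v₀ := by
    rw [← hj1, mul_assoc ((j : G) * v₀ * (j : G)⁻¹), n.sq v₀ hv₀, mul_one]
  refine ⟨j, j.2, fun v hv hv' => ?_⟩
  have h5 := n.mul_pl hv hv₀ hv' hv₀'
  obtain ⟨d, hd⟩ : ∃ d, d = v * v₀ := ⟨_, rfl⟩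
  rw [← hd] at h5
  have hvd : v = d * v₀ := by rw [hd, mul_assoc, n.sq v₀ hv₀, mul_one]
  have e : (j : G) * (d * v₀) * (j : G)⁻¹ = (j * d * (j : G)⁻¹) * (j * v₀ * (j : G)⁻¹) := by group
  rw [hvd, e, hj2, hjp j j.2 d h5, ← mul_assoc, n.comm d (n.pl_le h5) c (n.pl_le hc), mul_assoc]

/-- so does every `A ∈ 𝒜(T)` which moves `Y` -/
theorem Lev.exists_a (h : Lev S X T Y L₀ L) (n : Nt S X T Y L N p ξ) {A : Subgroup G} (hA : A ∈ ChoiceBase.AA T)
    (hAY : ¬ A ≤ centralizer (Y : Set G)) {c : G} (hc : c ∈ pl S N) :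
    ∃ a ∈ A, ∀ v ∈ N, v ∉ pl S N → a * v * a⁻¹ = c * v := by
  obtain ⟨j, hj, hjv⟩ := h.exists_j n hc
  have h1 := (h.bc.img A hA).resolve_left hAY
  rw [h.jj_eq] at h1
  have hAX : A ≤ X := (ChoiceBase.le_jj hA).trans ((jj_le T).trans h.yc.TX)
  have hn : A ≤ normalizer ((X ⊓ centralizer (Y : Set G) : Subgroup G) : Set G) := by
    refine le_normalizer_of_forall fun g hg c hc => ⟨X.mul_mem (X.mul_mem (hAX hg) hc.1) (X.inv_mem (hAX hg)), ?_⟩
    refine mem_centralizer_iff.2 fun y hy => ?_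
    have h9 := mem_centralizer_iff.1 hc.2 _ (conj_mem_of_normalizer' h.yc.nor (hAX hg) hy)
    calc y * (g * c * g⁻¹) = g * ((g⁻¹ * y * g) * c) * g⁻¹ := by group
      _ = g * (c * (g⁻¹ * y * g)) * g⁻¹ := by rw [h9]
      _ = g * c * g⁻¹ * y := by group
  obtain ⟨a, ha, d, hd, he⟩ := exists_mul_of_mem_sup hn (h1 hj)
  refine ⟨a, ha, fun v hv hv' => ?_⟩
  rw [← hjv v hv hv', he]
  have h2 : v * d = d * v := mem_centralizer_iff.1 hd.2 v (n.le hv)
  have e : a * d * v * (a * d)⁻¹ = a * (d * v * d⁻¹) * a⁻¹ := by group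
  rw [e, ← h2, mul_inv_cancel_right]

/-- `T` acts on `N/⟨p⟩`, fixing the plane -/
theorem Lev.T_md_pl (h : Lev S X T Y L₀ L) (n : Nt S X T Y L N p ξ) {t : G} (ht : t ∈ T) {m : G} (hm : m ∈ pl S N) :
    md p m (t * m * t⁻¹) := by
  have hp := n.pp
  have h1 : md p p (t * p * t⁻¹) := Or.inl (by rw [n.pT t ht, mul_inv_cancel_right])
  have h2 : md p (ξ * p * ξ⁻¹) (t * (ξ * p * ξ⁻¹) * t⁻¹) := h.T_q n ht
  rcases n.pl_iff.1 hm with rfl | rfl | rfl | rfl
  · left; group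
  · exact h1
  · exact h2
  · have e : t * (p * (ξ * p * ξ⁻¹)) * t⁻¹ = (t * p * t⁻¹) * (t * (ξ * p * ξ⁻¹) * t⁻¹) := by group
    rw [e]
    exact md_mul hp rfl h1 h2

/-- `t ∈ O` iff `t` fixes one `v ∉ C_N(J)` modulo `p` -/
theorem Lev.mem_oo_iff (h : Lev S X T Y L₀ L) (n : Nt S X T Y L N p ξ) {t v : G} (ht : t ∈ T) (hv : v ∈ N)
    (hv' : v ∉ pl S N) : t ∈ oo L T N p ↔ md p v (t * v * t⁻¹) := by
  rw [mem_oo n (le_sup_right (a := L) ht)]
  refine ⟨fun h1 => h1 v hv, fun h1 m hm => ?_⟩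
  by_cases hmp : m ∈ pl S N
  · exact h.T_md_pl n ht hmp
  · have h5 := n.mul_pl hm hv hmp hv'
    have h6 := md_mul n.pp (n.comm _ n.pN _ (n.pl_le h5)) (h.T_md_pl n ht h5) h1
    have e : t * (m * v) * t⁻¹ * (t * v * t⁻¹) = t * (m * (v * v)) * t⁻¹ := by group
    rw [e, n.sq v hv, mul_one, mul_assoc, n.sq v hv, mul_one] at h6
    exact h6

theorem Lev.T_md_of_not (h : Lev S X T Y L₀ L) (n : Nt S X T Y L N p ξ) {t v : G} (ht : t ∈ T) (hv : v ∈ N)
    (hv' : v ∉ pl S N) (ht' : t ∉ oo L T N p) : md p ((ξ * p * ξ⁻¹) * v) (t * v * t⁻¹) := by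
  have h1 : ¬ md p v (t * v * t⁻¹) := fun h1 => ht' ((h.mem_oo_iff n ht hv hv').2 h1)
  have hX := h.yc.TX ht
  have h2 : t * v * t⁻¹ ∈ N := (mem_normalizer_iff.1 (n.norm hX) v).1 hv
  have h3 : t * v * t⁻¹ ∉ pl S N := fun h3 =>
    hv' ((mem_normalizer_iff.1 (n.norm_pl hX (h.T_le_NJ ht)) v).2 h3)
  have h4 := n.mul_pl h2 hv h3 hv'
  obtain ⟨c, hc⟩ : ∃ c, c = t * v * t⁻¹ * v := ⟨_, rfl⟩
  rw [← hc] at h4
  have h5 : t * v * t⁻¹ = c * v := by rw [hc, mul_assoc (t * v * t⁻¹), n.sq v hv, mul_one]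
  rw [h5] at h1 ⊢
  rcases n.pl_iff.1 h4 with h6 | h6 | h6 | h6
  · exact absurd (Or.inl (by rw [h6, one_mul])) h1
  · exact absurd (Or.inr (by rw [h6])) h1
  · left; rw [h6]
  · right; rw [h6, mul_assoc]

theorem Lev.oo_rel (h : Lev S X T Y L₀ L) (n : Nt S X T Y L N p ξ) : (oo L T N p).relIndex T = 2 := by
  obtain ⟨v, hv, hv'⟩ := n.exists_not_pl
  obtain ⟨j, hj, hjv⟩ := h.exists_j n n.q_pl
  have hjT := h.J_le_T hj
  have hj' : j ∉ oo L T N p := by
    rw [h.mem_oo_iff n hjT hv hv', hjv v hv hv']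
    rintro (h1 | h1)
    · exact n.q1 (mul_eq_right.1 h1)
    · exact n.qp (mul_right_cancel h1)
  rw [Subgroup.relIndex, Subgroup.index_eq_two_iff_exists_notMem_and]
  refine ⟨⟨j, hjT⟩, hj', fun b => ?_⟩
  by_cases hb : (b : G) ∈ oo L T N p
  · exact Or.inr hb
  left
  show (b : G) * j ∈ oo L T N p
  rw [h.mem_oo_iff n (mul_mem b.2 hjT) hv hv']
  have h1 := h.T_md_of_not n b.2 hv hv' hb
  have h2 := h.T_md_pl n b.2 n.q_pl
  have e : (b : G) * j * v * ((b : G) * j)⁻¹ = (b * (ξ * p * ξ⁻¹) * (b : G)⁻¹) * (b * v * (b : G)⁻¹) := by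
    have e1 : (b : G) * j * v * ((b : G) * j)⁻¹ = b * (j * v * j⁻¹) * (b : G)⁻¹ := by group
    rw [e1, hjv v hv hv']; group
  have h3 := md_mul n.pp (n.comm _ n.pN _ n.qN) h2 h1
  rw [← mul_assoc (ξ * p * ξ⁻¹), n.qq, one_mul] at h3
  rw [e]
  exact h3

/-- elements of order 3 of `C_L(p)` -/
structure Pu (L : Subgroup G) (p u : G) : Prop where
  uL : u ∈ L
  u3 : u * u * u = 1
  u1 : u ≠ 1
  up : u * p = p * u

theorem Pu.ord {u : G} (hu : Pu L p u) : orderOf u = 3 := by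
  have hf3 : Fact (Nat.Prime 3) := ⟨Nat.prime_three⟩
  exact orderOf_eq_prime (by rw [pow_succ, pow_two]; exact hu.u3) hu.u1

theorem Pu.upc {u : G} (hu : Pu L p u) : u * p * u⁻¹ = p := by rw [hu.up, mul_inv_cancel_right]

theorem Pu.fix {u : G} (hu : Pu L p u) (h : Lev S X T Y L₀ L) (n : Nt S X T Y L N p ξ) {m : G} (hm : m ∈ N)
    (hum : u * m = m * u) : m = 1 ∨ m = p := by
  classical
  by_contra hcon
  push Not at hcon
  obtain ⟨F, hF⟩ : ∃ F : Subgroup G, F = N ⊓ centralizer ({u} : Set G) := ⟨_, rfl⟩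
  have hmF : ∀ a, a ∈ F ↔ a ∈ N ∧ u * a = a * u := by
    intro a
    rw [hF, mem_inf, mem_centralizer_singleton_iff]
    exact and_congr Iff.rfl ⟨fun h => h.symm, fun h => h.symm⟩
  have hFN : F ≤ N := by rw [hF]; exact inf_le_left
  have h3 : 3 ≤ Nat.card F := by
    have h1 : (({1, p, m} : Finset G) : Set G) ⊆ (F : Set G) := by
      intro a ha
      simp only [Finset.coe_insert, Finset.coe_singleton, Set.mem_insert_iff, Set.mem_singleton_iff] at ha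
      rcases ha with rfl | rfl | rfl
      · exact one_mem _
      · exact (hmF _).2 ⟨n.pN, hu.up⟩
      · exact (hmF _).2 ⟨hm, hum⟩
    have h2 := Set.ncard_le_ncard h1 (Set.toFinite _)
    rw [Set.ncard_coe_finset, Finset.card_insert_of_notMem, Finset.card_insert_of_notMem, Finset.card_singleton] at h2
    · exact h2
    · rw [Finset.mem_singleton]; exact fun h => hcon.2 h.symm
    · simp only [Finset.mem_insert, Finset.mem_singleton, not_or]
      exact ⟨n.p1.symm, fun h => hcon.1 h.symm⟩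
  have h4 : F.relIndex N ≤ 2 := by
    have h5 := ZN.Block.card_mul_relIndex' hFN
    rw [n.card] at h5
    by_contra h6
    push Not at h6
    have h7 : 3 * 3 ≤ Nat.card F * F.relIndex N := Nat.mul_le_mul h3 h6
    omega
  have huc : ∀ v ∈ N, u * v = v * u := by
    intro v hv
    by_contra hvu
    have hvF : v ∉ F := fun h5 => hvu ((hmF v).1 h5).2
    have h5 : F.relIndex N = 2 := by
      have h6 : F.relIndex N ≠ 1 := fun h6 => hvF (Subgroup.relIndex_eq_one.1 h6 hv)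
      have h7 : F.relIndex N ≠ 0 := by rw [Subgroup.relIndex]; exact Subgroup.index_ne_zero_of_finite
      omega
    have h6 : u * v * u⁻¹ ∈ N := n.LN h.cmp.cp.le hu.uL hv
    have h7 : u * v * u⁻¹ ∉ F := by
      intro h7
      apply hvu
      have h8 := ((hmF _).1 h7).2
      have h9 : u * v * u⁻¹ = v := by
        have e : u * v * u⁻¹ = u⁻¹ * (u * (u * v * u⁻¹)) := by group
        rw [e, h8]; group
      exact mul_inv_eq_iff_eq_mul.1 h9
    have h8 : u * v * u⁻¹ * v ∈ F := by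
      rw [Subgroup.relIndex] at h5
      exact (Subgroup.mul_mem_iff_of_index_two h5 (a := (⟨_, h6⟩ : N)) (b := ⟨v, hv⟩)).2
        ⟨fun h => absurd h h7, fun h => absurd h hvF⟩
    obtain ⟨c, hc⟩ : ∃ c, c = u * v * u⁻¹ * v := ⟨_, rfl⟩
    rw [← hc] at h8
    have h9 : u * v * u⁻¹ = c * v := by rw [hc, mul_assoc (u * v * u⁻¹), n.sq v hv, mul_one]
    have hcu : u * c * u⁻¹ = c := mul_inv_eq_iff_eq_mul.2 ((hmF c).1 h8).2
    have h10 : u * u * v * (u * u)⁻¹ = v := by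
      have e : u * u * v * (u * u)⁻¹ = u * (u * v * u⁻¹) * u⁻¹ := by group
      have e2 : u * (c * v) * u⁻¹ = (u * c * u⁻¹) * (u * v * u⁻¹) := by group
      rw [e, h9, e2, hcu, h9, ← mul_assoc, n.sq c (hFN h8), one_mul]
    apply hvu
    have h11 : u * (u * u * v * (u * u)⁻¹) * u⁻¹ = v := by
      have e : u * (u * u * v * (u * u)⁻¹) * u⁻¹ = (u * u * u) * v * (u * u * u)⁻¹ := by group
      rw [e, hu.u3]; group
    rw [h10] at h11
    exact mul_inv_eq_iff_eq_mul.1 h11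
  have h5 : u ∈ o2 L := by
    rw [← n.faith]
    exact ⟨hu.uL, mem_centralizer_iff.2 fun v hv => (huc v hv).symm⟩
  obtain ⟨k, hk⟩ := o2_isPGroup L ⟨u, h5⟩
  have h6 : u ^ 2 ^ k = 1 := congrArg Subtype.val hk
  have h7 : 3 ∣ 2 ^ k := hu.ord ▸ orderOf_dvd_of_pow_eq_one h6
  have := (Nat.prime_dvd_prime_iff_eq Nat.prime_three Nat.prime_two).1 (Nat.prime_three.dvd_of_dvd_pow h7)
  norm_num at this

end Cfsg.Agent.OddCyclic.L32
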