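import Cfsg.Agent.OddCyclic.L32.ConfB

/-!
# S0342, (C2), [Bc] section 1: elements `u` of order 3 of `C_L(p)`
-/

set_option autoImplicit false
set_option linter.unusedSectionVars false

namespace Cfsg.Agent.OddCyclic.L32

open Subgroup Cfsg Cfsg.Agent.ZN Cfsg.Agent.MinSimple Cfsg.Agent.OddCyclic.UniStruct
open Cfsg.Agent.ZN.Block (o2_isPGroup conj_mem_of_normalizer conj_mem_of_normalizer' le_normalizer_of_forall)
open Cfsg.Agent.OddCyclic.RedTy Cfsg.Agent.OddCyclic.RedRep Cfsg.Agent.OddCyclic.RedSevenX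
open Cfsg.Agent.OddCyclic.FFBasic Cfsg.Agent.OddCyclic.FFRed Cfsg.Agent.OddCyclic.FFSl2
open Cfsg.Agent.OddCyclic.FFThree Cfsg.Agent.OddCyclic.RedSevenA Cfsg.Agent.OddCyclic.T1Module

universe u

variable {G : Type u} [Group G] [Finite G] {S : Sylow 2 G} {X T Y L₀ L N : Subgroup G} {p ξ u : G}

namespace Pu

theorem inv (hu : Pu L p u) : Pu L p u⁻¹ where
  uL := inv_mem hu.uL
  u3 := by
    have e : u⁻¹ * u⁻¹ * u⁻¹ = (u * u * u)⁻¹ := by group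
    rw [e, hu.u3, inv_one]
  u1 := fun h => hu.u1 (inv_eq_one.1 h)
  up := ((show Commute u p from hu.up).inv_left).eq

theorem q_not (hu : Pu L p u) (h : Lev S X T Y L₀ L) (n : Nt S X T Y L N p ξ) :
    u * (ξ * p * ξ⁻¹) * u⁻¹ ∉ pl S N := by
  obtain ⟨q, hq⟩ : ∃ q, q = ξ * p * ξ⁻¹ := ⟨_, rfl⟩
  have hq1 := n.q1
  have hqp := n.qp
  have hqN := n.qN
  rw [n.pl_iff]
  rw [← hq] at hq1 hqp hqN ⊢
  have hback : ∀ b : G, u * q * u⁻¹ = u * b * u⁻¹ → q = b := fun b hb => mul_left_cancel (mul_right_cancel hb)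
  rintro (h1 | h1 | h1 | h1)
  · exact hq1 (hback 1 (by rw [h1]; group))
  · exact hqp (hback p (by rw [h1, hu.upc]))
  · rcases hu.fix h n hqN (mul_inv_eq_iff_eq_mul.1 h1) with h2 | h2
    · exact hq1 h2
    · exact hqp h2
  · have h2 : u * (u * q * u⁻¹) * u⁻¹ = q := by
      rw [h1]
      have e : u * (p * q) * u⁻¹ = (u * p * u⁻¹) * (u * q * u⁻¹) := by group
      rw [e, hu.upc, h1, ← mul_assoc, n.pp, one_mul]
    have h3 : u * (u * (u * q * u⁻¹) * u⁻¹) * u⁻¹ = q := by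
      have e : u * (u * (u * q * u⁻¹) * u⁻¹) * u⁻¹ = (u * u * u) * q * (u * u * u)⁻¹ := by group
      rw [e, hu.u3]; group
    rw [h2, h1] at h3
    exact n.p1 (mul_eq_right.1 h3)

/-- `[m, u, ·]`: `m · m^u · m^{u²} ∈ ⟨p⟩` -/
theorem sum (hu : Pu L p u) (h : Lev S X T Y L₀ L) (n : Nt S X T Y L N p ξ) {m : G} (hm : m ∈ N) :
    md p (m * (u * m * u⁻¹)) (u * (u * m * u⁻¹) * u⁻¹) := by
  have h1 : u * m * u⁻¹ ∈ N := n.LN h.cmp.cp.le hu.uL hm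
  have h2 : u * (u * m * u⁻¹) * u⁻¹ ∈ N := n.LN h.cmp.cp.le hu.uL h1
  obtain ⟨a, ha⟩ : ∃ a, a = u * m * u⁻¹ := ⟨_, rfl⟩
  obtain ⟨b, hb⟩ : ∃ b, b = u * (u * m * u⁻¹) * u⁻¹ := ⟨_, rfl⟩
  have hub : u * b * u⁻¹ = m := by
    rw [hb]
    have e : u * (u * (u * m * u⁻¹) * u⁻¹) * u⁻¹ = (u * u * u) * m * (u * u * u)⁻¹ := by group
    rw [e, hu.u3]; group
  rw [← hb] at h2 ⊢
  rw [← ha] at h1 ⊢
  have hua : u * a * u⁻¹ = b := by rw [ha, hb]
  have h3 : u * (m * a * b) * u⁻¹ = m * a * b := by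
    have e : u * (m * a * b) * u⁻¹ = (u * m * u⁻¹) * (u * a * u⁻¹) * (u * b * u⁻¹) := by group
    rw [e, ← ha, hua, hub, mul_assoc, n.comm b h2 m hm, ← mul_assoc, n.comm a h1 m hm]
  have h4 : m * a * b ∈ N := mul_mem (mul_mem hm h1) h2
  have h5 : b = (m * a * b) * (m * a) := by
    have h6 : m * a ∈ N := mul_mem hm h1
    rw [mul_assoc (m * a), n.comm b h2 _ h6, ← mul_assoc, n.sq _ h6, one_mul]
  rcases hu.fix h n h4 (mul_inv_eq_iff_eq_mul.1 h3) with h6 | h6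
  · left; rw [h6, one_mul] at h5; exact h5
  · right; rw [h6] at h5; exact h5

/-- `t ∈ T - O` inverts `u` modulo `O` -/
theorem inv_mem_oo (hu : Pu L p u) (h : Lev S X T Y L₀ L) (n : Nt S X T Y L N p ξ) {t : G} (ht : t ∈ T)
    (ht' : t ∉ oo L T N p) : t * u * t⁻¹ * u ∈ oo L T N p := by
  have hM : t * u * t⁻¹ * u ∈ L ⊔ T := by
    have h1 : t ∈ L ⊔ T := le_sup_right (a := L) ht
    have h2 : u ∈ L ⊔ T := le_sup_left (b := T) hu.uL
    exact mul_mem (mul_mem (mul_mem h1 h2) (inv_mem h1)) h2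
  have hp := n.pp
  obtain ⟨q, hq⟩ : ∃ q, q = ξ * p * ξ⁻¹ := ⟨_, rfl⟩
  obtain ⟨q', hq'⟩ : ∃ q', q' = u * q * u⁻¹ := ⟨_, rfl⟩
  have hqpl : q ∈ pl S N := by rw [hq]; exact n.q_pl
  have hqN : q ∈ N := n.pl_le hqpl
  have hqq : q * q = 1 := n.sq q hqN
  have hq'N : q' ∈ N := by rw [hq']; exact n.LN h.cmp.cp.le hu.uL hqN
  have hq'q' : q' * q' = 1 := n.sq q' hq'N
  have hq'pl : q' ∉ pl S N := by rw [hq', hq]; exact hu.q_not h n
  have hti : t⁻¹ ∈ T := inv_mem ht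
  have hti' : t⁻¹ ∉ oo L T N p := fun h1 => ht' (inv_mem_iff.1 h1)
  have htp := n.pT t ht
  have htip := n.pT _ hti
  -- (2)
  have e2 : md p (q * q') (u * q' * u⁻¹) := by
    have := hu.sum h n hqN
    rwa [← hq'] at this
  have e3 : ∀ s ∈ T, md p q (s * q * s⁻¹) := fun s hs => h.T_md_pl n hs hqpl
  have e4 : ∀ s ∈ T, s ∉ oo L T N p → md p (q * q') (s * q' * s⁻¹) := by
    intro s hs hs'
    have := h.T_md_of_not n hs hq'N hq'pl hs'
    rwa [← hq] at this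
  have hcq : p * q = q * p := n.comm p n.pN q hqN
  have hcq' : p * q' = q' * p := n.comm p n.pN q' hq'N
  have e5 : ∀ s ∈ T, s ∉ oo L T N p → md p q' (s * (q * q') * s⁻¹) := by
    intro s hs hs'
    have h1 := md_mul hp hcq (e3 s hs) (e4 s hs hs')
    rw [← mul_assoc q, hqq, one_mul] at h1
    have e : s * (q * q') * s⁻¹ = (s * q * s⁻¹) * (s * q' * s⁻¹) := by group
    rwa [e]
  have gq : md p q (t * (u * (t⁻¹ * (u * q * u⁻¹) * t⁻¹⁻¹) * u⁻¹) * t⁻¹) := by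
    rw [← hq']
    have a1 := e4 _ hti hti'
    have a2 := md_conj hu.up a1
    have a3 : md p q (u * (q * q') * u⁻¹) := by
      have h1 := md_mul hp hcq' (md_refl p q') e2
      have e : q' * (q * q') = q := by rw [n.comm q hqN q' hq'N, ← mul_assoc, hq'q', one_mul]
      have e' : u * (q * q') * u⁻¹ = q' * (u * q' * u⁻¹) := by rw [hq']; group
      rwa [e, ← e'] at h1
    have a4 := md_trans hp a3 a2
    exact md_trans hp (e3 t ht) (md_conj htp a4)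
  have gq' : md p q' (t * (u * (t⁻¹ * (u * q' * u⁻¹) * t⁻¹⁻¹) * u⁻¹) * t⁻¹) := by
    have b2 := md_trans hp (e5 _ hti hti') (md_conj htip e2)
    have b3 := md_trans hp e2 (md_conj hu.up b2)
    exact md_trans hp (e5 t ht ht') (md_conj htp b3)
  have hg : ∀ m : G, t * u * t⁻¹ * u * m * (t * u * t⁻¹ * u)⁻¹ =
      t * (u * (t⁻¹ * (u * m * u⁻¹) * t⁻¹⁻¹) * u⁻¹) * t⁻¹ := fun m => by group
  rw [← hg] at gq gq'
  obtain ⟨g, hgd⟩ : ∃ g, g = t * u * t⁻¹ * u := ⟨_, rfl⟩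
  rw [← hgd] at gq gq' hM ⊢
  have hgp : md p p (g * p * g⁻¹) := by
    left
    have h1 : Commute t p := htp
    have h2 : Commute u p := hu.up
    have h3 : Commute g p := by
      rw [hgd]
      exact ((h1.mul_left h2).mul_left h1.inv_left).mul_left h2
    rw [h3.eq, mul_inv_cancel_right]
  have hmul : ∀ a b : G, a ∈ N → md p a (g * a * g⁻¹) → md p b (g * b * g⁻¹) → md p (a * b) (g * (a * b) * g⁻¹) := by
    intro a b haN ha hb
    have e : g * (a * b) * g⁻¹ = (g * a * g⁻¹) * (g * b * g⁻¹) := by group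
    rw [e]
    exact md_mul hp (n.comm p n.pN a haN) ha hb
  have hgpl : ∀ a ∈ pl S N, md p a (g * a * g⁻¹) := by
    intro a ha
    rcases n.pl_iff.1 ha with rfl | rfl | rfl | rfl
    · left; group
    · exact hgp
    · rw [← hq]; exact gq
    · rw [← hq]; exact hmul p q n.pN hgp gq
  rw [mem_oo n hM]
  intro m hm
  by_cases hmp : m ∈ pl S N
  · exact hgpl m hmp
  · have h5 := n.mul_pl hm hq'N hmp hq'pl
    have h6 := hmul _ q' (n.pl_le h5) (hgpl _ h5) gq'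
    rwa [mul_assoc m, hq'q', mul_one] at h6

theorem u_norm (hu : Pu L p u) (h : Lev S X T Y L₀ L) (n : Nt S X T Y L N p ξ) : u ∈ normalizer (oo L T N p : Set G) :=
  n.oo_norm h (le_sup_left (b := T) hu.uL) hu.up

/-- `A^u ∩ O ≰ O₁` -/
theorem E_not (hu : Pu L p u) (h : Lev S X T Y L₀ L) (n : Nt S X T Y L N p ξ) {A : Subgroup G}
    (hA : A ∈ ChoiceBase.AA T) (hAY : ¬ A ≤ centralizer (Y : Set G)) :
    ¬ A.map (MulAut.conj u).toMonoidHom ⊓ oo L T N p ≤ oo₁ S T L N := by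
  obtain ⟨a, ha, hav⟩ := h.exists_a n hA hAY n.p_pl
  have haT : a ∈ T := jj_le T (ChoiceBase.le_jj hA ha)
  have haJ : a ∈ jj (S : Subgroup G) := by rw [← h.jj_eq]; exact ChoiceBase.le_jj hA ha
  have hM : u * a * u⁻¹ ∈ L ⊔ T := by
    have h2 : u ∈ L ⊔ T := le_sup_left (b := T) hu.uL
    exact mul_mem (mul_mem h2 (le_sup_right (a := L) haT)) (inv_mem h2)
  intro hcon
  have h1 : u * a * u⁻¹ ∈ oo L T N p := by
    rw [mem_oo n hM]
    intro m hm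
    have h3 : u⁻¹ * m * u⁻¹⁻¹ ∈ N := n.LN h.cmp.cp.le (inv_mem hu.uL) hm
    have e : u * a * u⁻¹ * m * (u * a * u⁻¹)⁻¹ = u * (a * (u⁻¹ * m * u⁻¹⁻¹) * a⁻¹) * u⁻¹ := by group
    have e1 : u * (u⁻¹ * m * u⁻¹⁻¹) * u⁻¹ = m := by group
    rw [e]
    by_cases h4 : u⁻¹ * m * u⁻¹⁻¹ ∈ pl S N
    · left
      have h5 := (mem_pl.1 h4).2 a haJ
      rw [h5, mul_inv_cancel_right, e1]
    · right
      rw [hav _ h3 h4]
      have e2 : u * (p * (u⁻¹ * m * u⁻¹⁻¹)) * u⁻¹ = (u * p * u⁻¹) * (u * (u⁻¹ * m * u⁻¹⁻¹) * u⁻¹) := by group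
      rw [e2, hu.upc, e1]
  have h2 := hcon ⟨⟨a, ha, rfl⟩, h1⟩
  have h3 := ((mem_oo₁ n hM).1 h2).2
  obtain ⟨q, hq⟩ : ∃ q, q = ξ * p * ξ⁻¹ := ⟨_, rfl⟩
  have h4 := hu.inv.q_not h n
  have h5 := n.qN
  rw [← hq] at h3 h4 h5
  have h6 : u⁻¹ * q * u⁻¹⁻¹ ∈ N := n.LN h.cmp.cp.le (inv_mem hu.uL) h5
  have h7 := hav _ h6 h4
  have h8 : u * a * u⁻¹ * q * (u * a * u⁻¹)⁻¹ = p * q := by
    have e : u * a * u⁻¹ * q * (u * a * u⁻¹)⁻¹ = u * (a * (u⁻¹ * q * u⁻¹⁻¹) * a⁻¹) * u⁻¹ := by group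
    have e2 : u * (p * (u⁻¹ * q * u⁻¹⁻¹)) * u⁻¹ = (u * p * u⁻¹) * (u * (u⁻¹ * q * u⁻¹⁻¹) * u⁻¹) := by group
    have e1 : u * (u⁻¹ * q * u⁻¹⁻¹) * u⁻¹ = q := by group
    rw [e, h7, e2, hu.upc, e1]
  rw [h3, mul_inv_cancel_right] at h8
  exact n.p1 (mul_eq_right.1 h8.symm)

end Pu

/-- `A ≰ O` -/
theorem Lev.A_not (h : Lev S X T Y L₀ L) (n : Nt S X T Y L N p ξ) {A : Subgroup G}
    (hA : A ∈ ChoiceBase.AA T) (hAY : ¬ A ≤ centralizer (Y : Set G)) : ¬ A ≤ oo L T N p := by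
  intro hcon
  obtain ⟨a, ha, hav⟩ := h.exists_a n hA hAY n.q_pl
  obtain ⟨v, hv, hv'⟩ := n.exists_not_pl
  have haT : a ∈ T := jj_le T (ChoiceBase.le_jj hA ha)
  have h1 := (h.mem_oo_iff n haT hv hv').1 (hcon ha)
  rw [hav v hv hv'] at h1
  rcases h1 with h1 | h1
  · exact n.q1 (mul_eq_right.1 h1)
  · exact n.qp (mul_right_cancel h1)

/-- `⟨A, A^u⟩` contains some `u'` -/
theorem Pu.exists_mem (hu : Pu L p u) (h : Lev S X T Y L₀ L) (n : Nt S X T Y L N p ξ) {A : Subgroup G}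
    (hA : A ∈ ChoiceBase.AA T) (hAY : ¬ A ≤ centralizer (Y : Set G)) :
    ∃ u', Pu L p u' ∧ u' ∈ A ⊔ A.map (MulAut.conj u).toMonoidHom := by
  obtain ⟨a, ha, hao⟩ := SetLike.not_le_iff_exists.1 (h.A_not n hA hAY)
  have haT : a ∈ T := jj_le T (ChoiceBase.le_jj hA ha)
  have hasq : a * a = 1 := by
    have := (ChoiceBase.mem_AA_iff.1 hA).1.2 a ha
    rwa [pow_two] at this
  obtain ⟨d, hd⟩ : ∃ d, d = a * (u * a⁻¹ * u⁻¹) := ⟨_, rfl⟩
  have hdD : d ∈ A ⊔ A.map (MulAut.conj u).toMonoidHom := by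
    rw [hd]
    exact mul_mem (mem_sup_left ha) (mem_sup_right ⟨a⁻¹, inv_mem ha, rfl⟩)
  have hDM : A ⊔ A.map (MulAut.conj u).toMonoidHom ≤ L ⊔ T := by
    refine sup_le (fun b hb => le_sup_right (a := L) (jj_le T (ChoiceBase.le_jj hA hb))) ?_
    rintro _ ⟨b, hb, rfl⟩
    have h2 : u ∈ L ⊔ T := le_sup_left (b := T) hu.uL
    exact mul_mem (mul_mem h2 (le_sup_right (a := L) (jj_le T (ChoiceBase.le_jj hA hb)))) (inv_mem h2)
  have hDp : A ⊔ A.map (MulAut.conj u).toMonoidHom ≤ centralizer ({p} : Set G) := by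
    refine sup_le (fun b hb => ?_) ?_
    · rw [mem_centralizer_singleton_iff]
      exact n.pT b (jj_le T (ChoiceBase.le_jj hA hb))
    · rintro _ ⟨b, hb, rfl⟩
      rw [mem_centralizer_singleton_iff]
      have h1 : Commute u p := hu.up
      have h2 : Commute b p := n.pT b (jj_le T (ChoiceBase.le_jj hA hb))
      exact ((h1.mul_left h2).mul_left h1.inv_left).eq
  -- `d = o u`
  have huu : u⁻¹ * u⁻¹ = u := by
    have h1 := hu.u3
    calc u⁻¹ * u⁻¹ = u⁻¹ * u⁻¹ * (u * u * u) := by rw [h1, mul_one]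
      _ = u := by group
  obtain ⟨o, ho⟩ : ∃ o, o = a * u * a⁻¹ * u := ⟨_, rfl⟩
  have hoo : o ∈ oo L T N p := by rw [ho]; exact hu.inv_mem_oo h n haT hao
  have hdo : d = o * u := by
    have e : o * (u⁻¹ * u⁻¹) = d := by rw [ho, hd]; group
    rw [← e, huu]
  have hpow : ∀ k : ℕ, ∃ b ∈ oo L T N p, d ^ k = b * u ^ k := by
    intro k
    induction k with
    | zero => exact ⟨1, one_mem _, by simp⟩
    | succ k ih =>
      obtain ⟨b, hb, hbk⟩ := ih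
      have h1 : u ^ k ∈ normalizer (oo L T N p : Set G) := pow_mem (hu.u_norm h n) k
      refine ⟨b * (u ^ k * o * (u ^ k)⁻¹), mul_mem hb ((mem_normalizer_iff.1 h1 o).1 hoo), ?_⟩
      rw [pow_succ, hbk, hdo, pow_succ]
      group
  obtain ⟨i, m, hm, him⟩ := Nat.exists_eq_pow_mul_and_not_dvd (orderOf_pos d).ne' 3 (by norm_num)
  have hm0 : 0 < m := Nat.pos_of_ne_zero (by rintro rfl; exact (orderOf_pos d).ne' (by rw [him, mul_zero]))
  have h2 : orderOf (d ^ m) = 3 ^ i := by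
    rw [orderOf_pow, him, Nat.gcd_eq_right (dvd_mul_left m _), Nat.mul_div_cancel _ hm0]
  have hdm : d ^ m ∈ A ⊔ A.map (MulAut.conj u).toMonoidHom := pow_mem hdD m
  obtain ⟨hL, h3⟩ := h.cmp.el3 _ (h.M_le (hDM hdm)) ⟨i, by rw [← h2]; exact pow_orderOf_eq_one _⟩
  refine ⟨d ^ m, ⟨hL, by rw [pow_succ, pow_two] at h3; exact h3, ?_, mem_centralizer_singleton_iff.1 (hDp hdm)⟩, hdm⟩
  intro h1
  obtain ⟨b, hb, hbm⟩ := hpow m
  rw [h1] at hbm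
  have h4 : u ^ m ∈ oo L T N p := by
    have h5 : u ^ m = b⁻¹ := by
      rw [eq_comm, inv_eq_iff_mul_eq_one]; exact hbm.symm
    rw [h5]; exact inv_mem hb
  obtain ⟨k, hk⟩ := h.oo_two n ⟨_, h4⟩
  have h5 : (u ^ m) ^ 2 ^ k = 1 := congrArg Subtype.val hk
  rw [← pow_mul] at h5
  have h6 := orderOf_dvd_of_pow_eq_one h5
  rw [hu.ord] at h6
  rcases (Nat.Prime.dvd_mul Nat.prime_three).1 h6 with h7 | h7
  · exact hm h7
  · have := (Nat.prime_dvd_prime_iff_eq Nat.prime_three Nat.prime_two).1 (Nat.prime_three.dvd_of_dvd_pow h7)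
    norm_num at this

/-- **`x ∈ ⟨A, A^x⟩`** -/
theorem Pu.exists_gen (hu : Pu L p u) (h : Lev S X T Y L₀ L) (n : Nt S X T Y L N p ξ) {A : Subgroup G}
    (hA : A ∈ ChoiceBase.AA T) (hAY : ¬ A ≤ centralizer (Y : Set G)) :
    ∃ x, Pu L p x ∧ x ∈ A ⊔ A.map (MulAut.conj x).toMonoidHom := by
  classical
  obtain ⟨f, hf⟩ : ∃ f : G → ℕ, ∀ v, f v = Nat.card (A ⊔ A.map (MulAut.conj v).toMonoidHom : Subgroup G) :=
    ⟨_, fun v => rfl⟩
  have hex : ∃ k : ℕ, ∃ v, Pu L p v ∧ f v = k := ⟨_, u, hu, rfl⟩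
  obtain ⟨v, hv, hvk⟩ := Nat.find_spec hex
  obtain ⟨u', hu', hu'v⟩ := hv.exists_mem h n hA hAY
  refine ⟨u', hu', ?_⟩
  have h1 : A ⊔ A.map (MulAut.conj u').toMonoidHom ≤ A ⊔ A.map (MulAut.conj v).toMonoidHom := by
    refine sup_le le_sup_left ?_
    rintro _ ⟨b, hb, rfl⟩
    exact mul_mem (mul_mem hu'v (mem_sup_left hb)) (inv_mem hu'v)
  have h2 : Nat.find hex ≤ f u' := Nat.find_min' hex ⟨u', hu', rfl⟩
  have h3 : A ⊔ A.map (MulAut.conj u').toMonoidHom = A ⊔ A.map (MulAut.conj v).toMonoidHom :=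
    Subgroup.eq_of_le_of_card_ge h1 (by rw [← hf, ← hf, hvk]; exact h2)
  rw [h3]; exact hu'v

/-- `O₂(T⟨g⟩)` -/
theorem eq_o2 {T D X : Subgroup G} {g : G} (hTX : T ≤ X) (h2 : IsPGroup 2 T) (hs : ¬ 2 ∣ T.relIndex X) (hgX : g ∈ X)
    (hD : D ≤ T) (hrel : D.relIndex T = 2) (hTD : T ≤ normalizer (D : Set G)) (hgD : g ∈ normalizer (D : Set G))
    (hg3 : orderOf g = 3) (hinv : ∀ t ∈ T, t ∉ D → t * g * t⁻¹ * g ∈ D) : D = o2 (T ⊔ zpowers g) := by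
  have hR : T ⊔ zpowers g ≤ X := sup_le hTX (zpowers_le.2 hgX)
  have hle : D ≤ o2 (T ⊔ zpowers g) :=
    Block.le_o2 (h2.to_le hD) (hD.trans le_sup_left) (sup_le hTD (zpowers_le.2 hgD))
  have hsR : ¬ 2 ∣ T.relIndex (T ⊔ zpowers g) := by
    intro h3
    apply hs
    rw [← relIndex_mul_relIndex T (T ⊔ zpowers g) X le_sup_left hR]
    exact h3.mul_right _
  have hoT : o2 (T ⊔ zpowers g) ≤ T := VModule.o2_le_of_sylow h2 hsR
  refine le_antisymm hle ?_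
  by_contra hcon
  have h3 := relIndex_mul_relIndex D (o2 (T ⊔ zpowers g)) T hle hoT
  rw [hrel] at h3
  have h4 : D.relIndex (o2 (T ⊔ zpowers g)) ≠ 1 := fun h5 => hcon (Subgroup.relIndex_eq_one.1 h5)
  have h5 : D.relIndex (o2 (T ⊔ zpowers g)) ∣ 2 := ⟨_, h3.symm⟩
  have h6 : D.relIndex (o2 (T ⊔ zpowers g)) = 2 := ((Nat.dvd_prime Nat.prime_two).1 h5).resolve_left h4
  rw [h6] at h3
  have h7 : (o2 (T ⊔ zpowers g)).relIndex T = 1 := by omega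
  have h8 : T ≤ o2 (T ⊔ zpowers g) := Subgroup.relIndex_eq_one.1 h7
  have h9 : o2 (T ⊔ zpowers g) = T := le_antisymm hoT h8
  have hgT : g ∈ normalizer (T : Set G) := by
    have := ZN.le_normalizer_o2 (T ⊔ zpowers g) (mem_sup_right (mem_zpowers g))
    rwa [h9] at this
  obtain ⟨t, ht, htD⟩ : ∃ t ∈ T, t ∉ D := by
    by_contra hc
    push Not at hc
    have : D.relIndex T = 1 := Subgroup.relIndex_eq_one.2 hc
    omega
  have h10 := hD (hinv t ht htD)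
  have h11 : g * t⁻¹ * g⁻¹ ∈ T := (mem_normalizer_iff.1 hgT _).1 (inv_mem ht)
  have h12 : g * g ∈ T := by
    have e : g * g = (g * t⁻¹ * g⁻¹)⁻¹ * (t⁻¹ * (t * g * t⁻¹ * g)) := by group
    rw [e]
    exact mul_mem (inv_mem h11) (mul_mem (inv_mem ht) h10)
  obtain ⟨k, hk⟩ := h2 ⟨_, h12⟩
  have h13 : (g * g) ^ 2 ^ k = 1 := congrArg Subtype.val hk
  rw [← pow_two, ← pow_mul] at h13
  have h14 := orderOf_dvd_of_pow_eq_one h13
  rw [hg3, ← pow_succ'] at h14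
  have := (Nat.prime_dvd_prime_iff_eq Nat.prime_three Nat.prime_two).1 (Nat.prime_three.dvd_of_dvd_pow h14)
  norm_num at this

end Cfsg.Agent.OddCyclic.L32
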