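import Cfsg.Agent.OddCyclic.L32.ConfC

/-!
# S0342, (C2), [Bc] section 1: existence of `u`, generation, `Ω₁Z(T)`
-/

set_option autoImplicit false
set_option linter.unusedSectionVars false

namespace Cfsg.Agent.OddCyclic.L32

open Subgroup Cfsg Cfsg.Agent.ZN Cfsg.Agent.MinSimple Cfsg.Agent.OddCyclic.UniStruct
open Cfsg.Agent.ZN.Block (o2_isPGroup conj_mem_of_normalizer conj_mem_of_normalizer' le_normalizer_of_forall)
open Cfsg.Agent.OddCyclic.T1Defs (OddCyc)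
open Cfsg.Agent.OddCyclic.RedTy Cfsg.Agent.OddCyclic.RedRep Cfsg.Agent.OddCyclic.RedSevenX
open Cfsg.Agent.OddCyclic.FFBasic Cfsg.Agent.OddCyclic.FFRed Cfsg.Agent.OddCyclic.FFSl2
open Cfsg.Agent.OddCyclic.FFThree Cfsg.Agent.OddCyclic.RedSevenA Cfsg.Agent.OddCyclic.T1Module

universe u

variable {G : Type u} [Group G] [Finite G] {S : Sylow 2 G} {X T Y L₀ L N : Subgroup G} {p ξ u : G}
variable {H V : Type u} [Group H] [CommGroup V] [Finite H] [Finite V] {r : X →* H} {ρ : H →* MulAut V} {ι : V →* G}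
  {K : Subgroup H} {TQ : Sylow 2 K} {A B : Subgroup K}

theorem Nt.x1 (n : Nt S X T Y L N p ξ) : ξ ≠ 1 := fun h => n.xp (by rw [h, one_mul, mul_one])

/-- the point in the module -/
theorem QR.pt_of (q : QR S X T Y L r ρ ι K TQ A B) (h : Lev S X T Y L₀ L) (n : Nt S X T Y L N p ξ) :
    ∃ v : V, ι v = p ∧ Pt (ρ.comp K.subtype) TQ A B ⟨r ⟨ξ, h.cmp.cp.le n.xL⟩, q.mem_K h n.xL⟩ v := by
  obtain ⟨v, hv⟩ := q.rep.exists_v (n.le n.pN)
  have hb := q.bs_of h n.xL n.x3 n.x1 n.xJ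
  refine ⟨v, hv, hb.pt ?_ ?_ ?_⟩
  · intro k hk
    obtain ⟨t, ht, htk⟩ := mem_img.1 ((q.TQ_mem k).1 hk)
    show ρ (k : H) v = v
    rw [← htk, q.rep.fix, hv]
    exact n.pT t ht
  · intro h1
    exact n.p1 (by rw [← hv, h1, map_one])
  · apply q.rep.iinj
    have h1 : ∀ m : V, ι ((ρ.comp K.subtype) ⟨r ⟨ξ, h.cmp.cp.le n.xL⟩, q.mem_K h n.xL⟩ m) = ξ * ι m * ξ⁻¹ :=
      fun m => q.rep.act ⟨ξ, h.cmp.cp.le n.xL⟩ m
    rw [map_mul, map_mul, map_mul (ρ.comp K.subtype), MulAut.mul_apply, h1, h1, h1, hv, map_one]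
    have h2 := n.sum
    have e : ξ * ξ * p * (ξ * ξ)⁻¹ = ξ * (ξ * p * ξ⁻¹) * ξ⁻¹ := by group
    rwa [e] at h2

/-- **an element of order 3 of `C_L(p)`** -/
theorem Lev.exists_pu (h : Lev S X T Y L₀ L) (n : Nt S X T Y L N p ξ) : ∃ u, Pu L p u := by
  obtain ⟨H, V, i1, i2, i3, i4, r, ρ, ι, K, TQ, A, B, q⟩ := h.exists_qr
  obtain ⟨v, hv, hpt⟩ := q.pt_of h n
  obtain ⟨x₀, hx₀, hx3⟩ := hpt.exists_x
  obtain ⟨l, hl, hlx⟩ := q.exists_l x₀
  obtain ⟨i, m, hm, him⟩ := Nat.exists_eq_pow_mul_and_not_dvd (orderOf_pos l).ne' 3 (by norm_num)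
  have hm0 : 0 < m := Nat.pos_of_ne_zero (by rintro rfl; exact (orderOf_pos l).ne' (by rw [him, mul_zero]))
  have h2 : orderOf (l ^ m) = 3 ^ i := by
    rw [orderOf_pow, him, Nat.gcd_eq_right (dvd_mul_left m _), Nat.mul_div_cancel _ hm0]
  obtain ⟨u, hu⟩ : ∃ u : X, u = l ^ m := ⟨_, rfl⟩
  have huo : orderOf u = 3 ^ i := by rw [hu, h2]
  obtain ⟨huL, hu3⟩ := h.cmp.el3 (u : G) u.2 ⟨i, by
    have h3 : u ^ 3 ^ i = 1 := by rw [← huo]; exact pow_orderOf_eq_one u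
    exact congrArg Subtype.val h3⟩
  have hru : r u = ((x₀ ^ m : K) : H) := by rw [hu, map_pow, hlx]; rfl
  refine ⟨u, huL, by rw [pow_succ, pow_two] at hu3; exact hu3, ?_, ?_⟩
  · intro h1
    have h3 : u = 1 := Subtype.ext h1
    rw [h3, map_one] at hru
    have h4 : x₀ ^ m = 1 := Subtype.ext hru.symm
    have h5 := orderOf_dvd_of_pow_eq_one h4
    rw [hx3] at h5
    exact hm h5
  · rw [← hv, ← q.rep.fix, hru]
    exact hpt.par.cent _ (pow_mem hx₀ m) v hpt.pT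

/-- the stabiliser of `p` in `K` is `N_K(B)` -/
theorem Pt.mem_norm {L V : Type*} [Group L] [Finite L] [CommGroup V] [Finite V] {ρ : L →* MulAut V} {T : Sylow 2 L}
    {A B : Subgroup L} {y : L} {p : V} (h : Pt ρ T A B y p) {g : L} (hg : ρ g p = p) :
    g ∈ normalizer (B : Set L) := by
  obtain ⟨F, hF⟩ : ∃ F : Subgroup L, ∀ a, a ∈ F ↔ ρ a p = p := by
    refine ⟨{ carrier := {a | ρ a p = p}
              mul_mem' := fun {a b} ha hb => by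
                show ρ (a * b) p = p
                rw [map_mul, MulAut.mul_apply, (hb : ρ b p = p), (ha : ρ a p = p)]
              one_mem' := by show ρ 1 p = p; rw [map_one, MulAut.one_apply]
              inv_mem' := fun {a} ha => by
                show ρ a⁻¹ p = p
                have h1 : ρ a⁻¹ (ρ a p) = p := by
                  rw [← MulAut.mul_apply, ← map_mul, inv_mul_cancel, map_one, MulAut.one_apply]
                rwa [(ha : ρ a p = p)] at h1 }, fun a => Iff.rfl⟩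
  have h1 : normalizer (B : Set L) ≤ F := fun a ha => (hF a).2 (h.par.cent a ha p h.pT)
  have h24 := card_normalizer h.l32 T h.par.four h.par.le
  have h2 : 24 ∣ Nat.card F := by rw [← h24]; exact Subgroup.card_dvd_of_le h1
  rcases card_or h.l32 h2 with h3 | h3
  · have h4 : normalizer (B : Set L) = F := Subgroup.eq_of_le_of_card_ge h1 (by rw [h24, h3])
    rw [h4]; exact (hF g).2 hg
  · exfalso
    exact h.q_ne ((hF y).1 (by rw [h3]; exact mem_top y))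

/-- `u` centralises `Ω₁Z(T)` -/
theorem Pu.cent_zc (hu : Pu L p u) (h : Lev S X T Y L₀ L) (n : Nt S X T Y L N p ξ) {z : G} (hz : z ∈ zc T) :
    u * z = z * u := by
  obtain ⟨H, V, i1, i2, i3, i4, r, ρ, ι, K, TQ, A, B, q⟩ := h.exists_qr
  obtain ⟨v, hv, hpt⟩ := q.pt_of h n
  obtain ⟨w, hw⟩ := q.rep.exists_v (h.yc.zc_le hz)
  have huX := h.cmp.cp.le hu.uL
  have h1 : (⟨r ⟨u, huX⟩, q.mem_K h hu.uL⟩ : K) ∈ normalizer (B : Set K) := by
    apply hpt.mem_norm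
    show ρ (r ⟨u, huX⟩) v = v
    rw [q.rep.fix, hv]
    exact hu.up
  have h2 : w ∈ CS (ρ.comp K.subtype) (TQ : Subgroup K) := by
    intro k hk
    obtain ⟨t, ht, htk⟩ := mem_img.1 ((q.TQ_mem k).1 hk)
    show ρ (k : H) w = w
    rw [← htk, q.rep.fix, hw]
    exact Block.zc_comm ht hz
  have h3 : ρ (r ⟨u, huX⟩) w = w := hpt.par.cent _ h1 w h2
  rw [q.rep.fix, hw] at h3
  exact h3

/-- `M = ⟨T, ξ, u⟩` -/
theorem Pu.gen (hu : Pu L p u) (h : Lev S X T Y L₀ L) (n : Nt S X T Y L N p ξ) :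
    L ≤ T ⊔ zpowers ξ ⊔ zpowers u := by
  obtain ⟨H, V, i1, i2, i3, i4, r, ρ, ι, K, TQ, A, B, q⟩ := h.exists_qr
  obtain ⟨v, hv, hpt⟩ := q.pt_of h n
  have hLX := h.cmp.cp.le
  have huX := hLX hu.uL
  have hxX := hLX n.xL
  obtain ⟨R, hR⟩ : ∃ R, R = T ⊔ zpowers ξ ⊔ zpowers u := ⟨_, rfl⟩
  have hRM : R ≤ L ⊔ T := by
    rw [hR]
    exact sup_le (sup_le le_sup_right (zpowers_le.2 (le_sup_left (b := T) n.xL)))
      (zpowers_le.2 (le_sup_left (b := T) hu.uL))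
  have hRX : R ≤ X := hRM.trans h.M_le
  obtain ⟨D, hD⟩ : ∃ D : Subgroup K, ∀ k : K, k ∈ D ↔ (k : H) ∈ img r R := ⟨(img r R).subgroupOf K, fun k => Iff.rfl⟩
  have hTD : (TQ : Subgroup K) ≤ D := by
    intro k hk
    obtain ⟨t, ht, htk⟩ := mem_img.1 ((q.TQ_mem k).1 hk)
    exact (hD k).2 (mem_img.2 ⟨t, by rw [hR]; exact mem_sup_left (mem_sup_left ht), htk⟩)
  have h1 : (⟨r ⟨ξ, hxX⟩, q.mem_K h n.xL⟩ : K) ∈ D :=
    (hD _).2 (mem_img.2 ⟨_, by rw [hR]; exact mem_sup_left (mem_sup_right (mem_zpowers ξ)), rfl⟩)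
  have h2 : (⟨r ⟨u, huX⟩, q.mem_K h hu.uL⟩ : K) ∈ D :=
    (hD _).2 (mem_img.2 ⟨_, by rw [hR]; exact mem_sup_right (mem_zpowers u), rfl⟩)
  have hB : (⟨r ⟨u, huX⟩, q.mem_K h hu.uL⟩ : K) ∈ normalizer (B : Set K) := by
    apply hpt.mem_norm
    show ρ (r ⟨u, huX⟩) v = v
    rw [q.rep.fix, hv]
    exact hu.up
  have hu3 : orderOf (⟨r ⟨u, huX⟩, q.mem_K h hu.uL⟩ : K) = 3 := by
    have hf3 : Fact (Nat.Prime 3) := ⟨Nat.prime_three⟩
    refine orderOf_eq_prime ?_ ?_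
    · apply Subtype.ext
      show (r ⟨u, huX⟩) ^ 3 = 1
      rw [← map_pow]
      have : (⟨u, huX⟩ : X) ^ 3 = 1 := Subtype.ext (by
        show u ^ 3 = 1
        rw [pow_succ, pow_two]; exact hu.u3)
      rw [this, map_one]
    · intro h3
      have h4 : r ⟨u, huX⟩ = 1 := congrArg Subtype.val h3
      have h5 := q.ker _ hu.uL h4
      obtain ⟨k, hk⟩ := o2_isPGroup L ⟨u, h5⟩
      have h6 : u ^ 2 ^ k = 1 := congrArg Subtype.val hk
      have h7 : 3 ∣ 2 ^ k := hu.ord ▸ orderOf_dvd_of_pow_eq_one h6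
      have := (Nat.prime_dvd_prime_iff_eq Nat.prime_three Nat.prime_two).1 (Nat.prime_three.dvd_of_dvd_pow h7)
      norm_num at this
  have hle : ∀ (C : Subgroup K) (g : K), IsFour C → C ≤ TQ → g ∈ D → g ∈ normalizer (C : Set K) → orderOf g = 3 →
      normalizer (C : Set K) ≤ D := by
    intro C g hC hCT hg hgC hg3
    have h3 : (TQ : Subgroup K) ⊔ zpowers g = normalizer (C : Set K) := by
      apply Subgroup.eq_of_le_of_card_ge (sup_le (sylow_le_normalizer q.l32 TQ hC hCT) (zpowers_le.2 hgC))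
      rw [card_normalizer q.l32 TQ hC hCT]
      exact Nat.le_of_dvd Nat.card_pos (dvd_card_of q.l32 TQ le_sup_left hg3 (mem_sup_right (mem_zpowers g)))
    rw [← h3]
    exact sup_le hTD (zpowers_le.2 hg)
  have hDt : D = ⊤ := by
    rw [eq_top_iff, ← q.par.gen]
    exact sup_le (hle A _ q.four q.le h1 hpt.yN hpt.y3) (hle B _ q.par.four q.par.le h2 hB hu3)
  intro l hl
  have h3 : (⟨r ⟨l, hLX hl⟩, q.mem_K h hl⟩ : K) ∈ D := by rw [hDt]; exact mem_top _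
  obtain ⟨g, hg, hgl⟩ := mem_img.1 ((hD _).1 h3)
  rw [← hR]
  have h4 : (g : G)⁻¹ * l ∈ centralizer (Y : Set G) := by
    have h5 : r (g⁻¹ * ⟨l, hLX hl⟩) = 1 := by rw [map_mul, map_inv, hgl, inv_mul_cancel]
    exact (cent_iff q.rep).1 h5
  have h5 : (g : G)⁻¹ * l ∈ T := by
    refine h.oo₁_le n ?_
    have hM : (g : G)⁻¹ * l ∈ L ⊔ T := mul_mem (inv_mem (hRM hg)) (le_sup_left (b := T) hl)
    refine ⟨hM, ?_⟩
    refine centralizer_le ?_ h4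
    exact fun a ha => n.le (n.pl_le ha)
  have h6 : l = g * ((g : G)⁻¹ * l) := by group
  rw [h6]
  exact mul_mem hg (by rw [hR]; exact mem_sup_left (mem_sup_left h5))

/-! ### `Ω₁Z(T)` -/

theorem Lev.mem_zc_of (h : Lev S X T Y L₀ L) {w : G} (hw : w ∈ Y) (hT : ∀ t ∈ T, t * w = w * t) : w ∈ zc T := by
  refine Block.mem_zc (h.yc.toLoc.o2_le (Block.zc_le _ (h.yc.le hw))) hT ?_
  exact Block.zc_sq (h.yc.le hw)

/-- for `z ∈ Ω₁Z(T)`: `z` is centralised by `L` or `p_z` is the point of a natural module -/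
theorem Lev.pz_cases (h : Lev S X T Y L₀ L) (hc : OddCyc G) {ξ : G} (hxL : ξ ∈ L) (hx3 : ξ ^ 3 = 1) (hx1 : ξ ≠ 1)
    (hxJ : ξ ∈ normalizer (jj (S : Subgroup G) : Set G)) {z : G} (hz : z ∈ zc T) :
    ((∀ l ∈ L, l * z = z * l) ∧ pz ξ z = 1 ∧ rz ξ z = z) ∨
    ((∃ N : Subgroup G, Nt S X T Y L N (pz ξ z) ξ) ∧ pz ξ z ∈ zc T ∧ rz ξ z ∈ zc T ∧
      (∀ l ∈ L, l * rz ξ z = rz ξ z * l) ∧ z = pz ξ z * rz ξ z ∧ rz ξ (pz ξ z) = 1 ∧ pz ξ z ≠ 1) := by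
  have hzz : z * z = 1 := by
    have := Block.zc_sq hz
    rwa [pow_two] at this
  by_cases hzL : ∃ l ∈ L, l * z ≠ z * l
  · right
    obtain ⟨N, p, w, n, hwY, hzw, hwL, hwT⟩ := h.exists_nt hc hxL hx3 hx1 hxJ hz hzL
    have hpzc : p ∈ zc T := h.mem_zc_of (n.le n.pN) n.pT
    have hwzc : w ∈ zc T := h.mem_zc_of hwY hwT
    have hww : w * w = 1 := by
      have := Block.zc_sq hwzc
      rwa [pow_two] at this
    have hpw : p * w = w * p := Block.zc_comm (Block.zc_le _ hpzc) hwzc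
    have hxw : ξ * w * ξ⁻¹ = w := by rw [hwL ξ hxL, mul_inv_cancel_right]
    have hxxw : ξ * ξ * w * (ξ * ξ)⁻¹ = w := by
      have := hwL (ξ * ξ) (mul_mem hxL hxL)
      rw [this, mul_inv_cancel_right]
    have hqN := n.qN
    have hwq : w * (ξ * ξ * p * (ξ * ξ)⁻¹) = (ξ * ξ * p * (ξ * ξ)⁻¹) * w := by
      have h1 : (ξ * ξ) * (w * p) * (ξ * ξ)⁻¹ = (ξ * ξ) * (p * w) * (ξ * ξ)⁻¹ := by rw [hpw]
      have e1 : (ξ * ξ) * (w * p) * (ξ * ξ)⁻¹ = (ξ * ξ * w * (ξ * ξ)⁻¹) * (ξ * ξ * p * (ξ * ξ)⁻¹) := by group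
      have e2 : (ξ * ξ) * (p * w) * (ξ * ξ)⁻¹ = (ξ * ξ * p * (ξ * ξ)⁻¹) * (ξ * ξ * w * (ξ * ξ)⁻¹) := by group
      rw [e1, e2, hxxw] at h1
      exact h1
    have hpz : pz ξ z = p := by
      have e : pz ξ z = (ξ * p * ξ⁻¹) * (ξ * w * ξ⁻¹) * ((ξ * ξ * p * (ξ * ξ)⁻¹) * (ξ * ξ * w * (ξ * ξ)⁻¹)) := by
        rw [pz, hzw]; group
      rw [e, hxw, hxxw]
      have e2 : (ξ * p * ξ⁻¹) * w * ((ξ * ξ * p * (ξ * ξ)⁻¹) * w) =
          (ξ * p * ξ⁻¹) * (w * (ξ * ξ * p * (ξ * ξ)⁻¹)) * w := by group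
      rw [e2, hwq]
      have e3 : (ξ * p * ξ⁻¹) * ((ξ * ξ * p * (ξ * ξ)⁻¹) * w) * w = (ξ * p * ξ⁻¹) * (ξ * ξ * p * (ξ * ξ)⁻¹) * (w * w) := by
        group
      rw [e3, hww, mul_one, n.x2, n.comm p n.pN _ hqN, ← mul_assoc, n.qq, one_mul]
    have hrz : rz ξ z = w := by
      have e : rz ξ z = z * pz ξ z := by rw [rz, pz]; group
      rw [e, hpz, hzw, hpw, mul_assoc, n.pp, mul_one]
    have hrp : rz ξ p = 1 := n.sum
    rw [hpz, hrz]
    exact ⟨⟨N, n⟩, hpzc, hwzc, hwL, hzw, hrp, n.p1⟩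
  · left
    push Not at hzL
    have hxz : ξ * z * ξ⁻¹ = z := by rw [hzL ξ hxL, mul_inv_cancel_right]
    have hxxz : ξ * ξ * z * (ξ * ξ)⁻¹ = z := by rw [hzL _ (mul_mem hxL hxL), mul_inv_cancel_right]
    refine ⟨hzL, ?_, ?_⟩
    · rw [pz, hxz, hxxz, hzz]
    · rw [rz, hxz, hxxz, hzz, one_mul]

end Cfsg.Agent.OddCyclic.L32
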