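import Cfsg.Agent.OddCyclic.L32.Uni

/-!
# S0342, (C2), [Bc] section 1: the component `L₃(2)` of a 2-local subgroup of type `bc`

`exists_sev`: `BcY X T Y L₀` gives `L` with `Cp X L`, `Sev S L`, `L₀ = L C_X(Y)`, `L ∩ C(Y) = O₂(L)`; the 3-elements of
`X` lie in `L`.
-/

set_option autoImplicit false
set_option linter.unusedSectionVars false

namespace Cfsg.Agent.OddCyclic.L32

open Subgroup Cfsg Cfsg.Agent.ZN Cfsg.Agent.MinSimple Cfsg.Agent.OddCyclic.UniStruct
open Cfsg.Agent.ZN.Block (o2_isPGroup conj_mem_of_normalizer conj_mem_of_normalizer' le_normalizer_of_forall)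
open scoped commutatorElement
open Cfsg.Agent.OddCyclic.T1Defs (OddCyc)
open Cfsg.Agent.OddCyclic.CompBasic
open Cfsg.Agent.OddCyclic.CompStart (SecZero)
open Cfsg.Agent.OddCyclic.RedTy
open Cfsg.Agent.SignalizersComponents.Components

universe u

theorem exists_perf_onto {A Q : Type*} [Group A] [Finite A] [Group Q] (f : A →* Q) (hf : Function.Surjective f)
    (hQ : ⁅(⊤ : Subgroup Q), (⊤ : Subgroup Q)⁆ = ⊤) : ∃ D : Subgroup A, ⁅D, D⁆ = D ∧ D.map f = ⊤ := by
  have hanti : Antitone (derivedSeries A) := derivedSeries_antitone A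
  have hst : ∃ n, derivedSeries A (n + 1) = derivedSeries A n := by
    by_contra hcon
    push Not at hcon
    have hlt : ∀ n, derivedSeries A (n + 1) < derivedSeries A n := fun n =>
      lt_of_le_of_ne (hanti (Nat.le_succ n)) (hcon n)
    have hsa : StrictAnti (derivedSeries A) := strictAnti_nat_of_succ_lt hlt
    exact not_injective_infinite_finite _ hsa.injective
  obtain ⟨n, hn⟩ := hst
  refine ⟨derivedSeries A n, by rw [← derivedSeries_succ]; exact hn, ?_⟩
  rw [map_derivedSeries_eq hf]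
  clear hn
  induction n with
  | zero => rfl
  | succ n ih => rw [derivedSeries_succ, ih, hQ]

theorem perf_of_simple {Q : Type*} [Group Q] (hs : IsSimpleGroup Q) (hn : ∃ a b : Q, a * b ≠ b * a) :
    ⁅(⊤ : Subgroup Q), (⊤ : Subgroup Q)⁆ = ⊤ := by
  rcases (inferInstance : (⁅(⊤ : Subgroup Q), (⊤ : Subgroup Q)⁆).Normal).eq_bot_or_eq_top with h | h
  · exfalso
    obtain ⟨a, b, hab⟩ := hn
    have h1 : ⁅a, b⁆ ∈ ⁅(⊤ : Subgroup Q), (⊤ : Subgroup Q)⁆ := commutator_mem_commutator (mem_top a) (mem_top b)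
    rw [h, mem_bot, commutatorElement_eq_one_iff_mul_comm] at h1
    exact hab h1
  · exact h

theorem noncomm_of_card {Q : Type*} [Group Q] (hs : IsSimpleGroup Q) (hc : Nat.card Q = 168) :
    ∃ a b : Q, a * b ≠ b * a := by
  by_contra hcon
  push Not at hcon
  have : Finite Q := Nat.finite_of_card_ne_zero (by omega)
  let _ : CommGroup Q := { (inferInstance : Group Q) with mul_comm := hcon }
  have h1 := IsSimpleGroup.prime_card (α := Q)
  rw [hc] at h1
  norm_num at h1

variable {G : Type u} [Group G] [Finite G] {S : Sylow 2 G}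

/-- what the component of type `bc` satisfies -/
structure Cmp (S : Sylow 2 G) (X Y L₀ L : Subgroup G) : Prop where
  cp : Cp X L
  sev : Sev S L
  le : L ≤ L₀
  inf : L ⊓ centralizer (Y : Set G) = o2 L
  sup : ∀ g ∈ L₀, ∃ l ∈ L, ∃ c ∈ X ⊓ centralizer (Y : Set G), g = l * c
  three : ∀ g ∈ X, orderOf g = 3 → g ∈ L
  el3 : ∀ g ∈ X, El3 g → g ∈ L ∧ g ^ 3 = 1

theorem exists_cmp (hG : Hyp G) {X T Y L₀ : Subgroup G} (hX : o2 X ≠ ⊥) (hY : YC X T Y) (hb : BcY X T Y L₀)
    (hBT : bau (S : Subgroup G) ≤ T) : ∃ L : Subgroup G, Cmp S X Y L₀ L := by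
  have hf3 : Fact (Nat.Prime 3) := ⟨Nat.prime_three⟩
  have hJT : jj T = jj (S : Subgroup G) := SamePt.jj_eq S hY.two hBT
  obtain ⟨Q, _, π, hπ, hπk, hQs, hQc⟩ := hb.simple
  have hQn := noncomm_of_card hQs hQc
  have hQp := perf_of_simple hQs hQn
  have hQf : Finite Q := Nat.finite_of_card_ne_zero (by omega)
  obtain ⟨D₀, hD₀, hD₀m⟩ := exists_perf_onto π hπ hQp
  -- an element of order 3 of `D₀`
  obtain ⟨x, hxD, hx3, hxY⟩ : ∃ x : L₀, x ∈ D₀ ∧ orderOf x = 3 ∧ π x ≠ 1 := by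
    obtain ⟨q, hq⟩ := exists_prime_orderOf_dvd_card' (G := Q) 3 (by rw [hQc]; norm_num)
    have h1 : q ∈ D₀.map π := by rw [hD₀m]; exact mem_top q
    obtain ⟨d, hd, rfl⟩ := h1
    obtain ⟨a, m, hm, hnm⟩ := Nat.exists_eq_pow_mul_and_not_dvd (orderOf_pos d).ne' 3 (by norm_num)
    have hm0 : 0 < m := Nat.pos_of_ne_zero (by rintro rfl; exact (orderOf_pos d).ne' (by rw [hnm, mul_zero]))
    have h2 : orderOf (d ^ m) = 3 ^ a := by
      rw [orderOf_pow, hnm, Nat.gcd_eq_right (dvd_mul_left m _), Nat.mul_div_cancel _ hm0]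
    have h3 : π (d ^ m) ≠ 1 := by
      rw [map_pow]
      intro h
      exact hm (hq ▸ orderOf_dvd_of_pow_eq_one h)
    refine ⟨d ^ m, pow_mem hd m, ?_, h3⟩
    have h4 : ((d ^ m : L₀) : G) ^ 3 = 1 := by
      refine hb.three' _ (hb.le (d ^ m).2) ⟨a, ?_⟩
      have h5 : (d ^ m) ^ 3 ^ a = 1 := by rw [← h2]; exact pow_orderOf_eq_one _
      exact congrArg Subtype.val h5
    refine orderOf_eq_prime (Subtype.ext h4) ?_
    intro h5
    rw [h5, map_one] at h3
    exact h3 rfl
  have hxY' : (x : G) ∉ centralizer (Y : Set G) := by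
    intro h
    apply hxY
    rw [← MonoidHom.mem_ker, hπk]
    exact h
  have hxG : orderOf (x : G) = 3 := by rw [Subgroup.orderOf_coe, hx3]
  have hxX : (x : G) ∈ X := hb.le x.2
  -- the component
  have hQn : (pCore 2 X).Normal := Lib.Cores.pCore_normal 2
  have hO : pCore 2 (X ⧸ pCore 2 X) = ⊥ := Lib.Cores.pCore_quotient_pCore 2
  have hcX : OddCyc X := oddCyc_subgroup hG.cyc X
  have hcq : OddCyc (X ⧸ pCore 2 X) := oddCyc_quotient hcX (pCore 2 X)
  obtain ⟨D, hD⟩ : ∃ D : Subgroup X, D = (D₀.map L₀.subtype).subgroupOf X := ⟨_, rfl⟩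
  have hDp : ⁅D, D⁆ = D := by
    apply Subgroup.map_injective X.subtype_injective
    rw [Subgroup.map_commutator, hD, Subgroup.subgroupOf_map_subtype, inf_eq_left.2 ((map_subtype_le _).trans hb.le),
      ← Subgroup.map_commutator, hD₀]
  have hxD' : (⟨x, hxX⟩ : X) ∈ D := by
    rw [hD, mem_subgroupOf]
    exact ⟨x, hxD, rfl⟩
  have hlay : QuotientGroup.mk' (pCore 2 X) ⟨x, hxX⟩ ∈ layer (X ⧸ pCore 2 X) := by
    refine perfect_le_layer hO hcq (hG.tame X hX).quot (D := D.map (QuotientGroup.mk' (pCore 2 X))) ?_ ⟨_, hxD', rfl⟩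
    rw [← Subgroup.map_commutator, hDp]
  have hxo : orderOf (QuotientGroup.mk' (pCore 2 X) ⟨x, hxX⟩) = 3 := by
    have h1 : orderOf (QuotientGroup.mk' (pCore 2 X) ⟨x, hxX⟩) ∣ 3 := by
      have := orderOf_map_dvd (QuotientGroup.mk' (pCore 2 X)) (⟨x, hxX⟩ : X)
      rwa [Subgroup.orderOf_mk, hxG] at this
    rcases (Nat.dvd_prime Nat.prime_three).1 h1 with h | h
    · exfalso
      rw [orderOf_eq_one_iff, ← MonoidHom.mem_ker, QuotientGroup.ker_mk'] at h
      obtain ⟨k, hk⟩ := Lib.Cores.pCore_isPGroup 2 (⟨_, h⟩ : pCore 2 X)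
      have h3 : (x : G) ^ 2 ^ k = 1 := congrArg (fun z : pCore 2 X => ((z : X) : G)) hk
      have h4 : 3 ∣ 2 ^ k := hxG ▸ orderOf_dvd_of_pow_eq_one h3
      have := (Nat.prime_dvd_prime_iff_eq Nat.prime_three Nat.prime_two).1 (Nat.prime_three.dvd_of_dvd_pow h4)
      norm_num at this
    · exact h
  obtain ⟨K, hKc, h3K⟩ := exists_component_of_mem_layer hcq Nat.prime_three (by norm_num) hlay hxo
  obtain ⟨L', h4, h5, h6, h7, -⟩ := exists_normal hcX hKc
  obtain ⟨L, hL⟩ : ∃ L, L = L'.map X.subtype := ⟨_, rfl⟩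
  have hcp : Cp X L := by rw [hL]; exact cp_of_internal h4 h5 h6
  have h3L : 3 ∣ Nat.card L := by
    have h8 : Nat.card L = Nat.card L' := by rw [hL]; exact Subgroup.card_map_of_injective X.subtype_injective
    rw [h8]
    refine h3K.trans ?_
    rw [← h7]
    exact Subgroup.card_map_dvd _ _
  have h3 : ∀ g ∈ X, orderOf g = 3 → g ∈ L := fun g hg hg3 =>
    mem_of_normal hG.cyc hcp.le hcp.norm Nat.prime_three (by norm_num) h3L hg hg3
  have hxL : (x : G) ∈ L := h3 _ hxX hxG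
  have hn2 : ∀ P : Subgroup G, (x : G) ∈ P → ¬ IsPGroup 2 P := by
    intro P hxP hP
    obtain ⟨k, hk⟩ := hP ⟨x, hxP⟩
    have h8 : (x : G) ^ 2 ^ k = 1 := congrArg Subtype.val hk
    have h4 : 3 ∣ 2 ^ k := hxG ▸ orderOf_dvd_of_pow_eq_one h8
    have := (Nat.prime_dvd_prime_iff_eq Nat.prime_three Nat.prime_two).1 (Nat.prime_three.dvd_of_dvd_pow h4)
    norm_num at this
  have hle : L ≤ L₀ := by
    have h8 : L ⊓ L₀ = L := eq_of_normal hcp.perf hcp.simp inf_le_left
      ((le_inf le_normalizer (hcp.le.trans hb.norm)).trans inf_normalizer_le_normalizer_inf)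
      (hn2 _ ⟨hxL, x.2⟩)
    rw [← h8]; exact inf_le_right
  have hCX : X ≤ normalizer (centralizer (Y : Set G) : Set G) := by
    refine le_normalizer_of_forall fun g hg c hc => ?_
    rw [mem_centralizer_iff]
    intro y hy
    have h9 := mem_centralizer_iff.1 hc _ (conj_mem_of_normalizer' hY.nor hg hy)
    calc y * (g * c * g⁻¹) = g * ((g⁻¹ * y * g) * c) * g⁻¹ := by group
      _ = g * (c * (g⁻¹ * y * g)) * g⁻¹ := by rw [h9]
      _ = g * c * g⁻¹ * y := by group
  have ho2L : o2 L ≤ o2 X := by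
    refine Block.le_o2 (o2_isPGroup L) ((Block.o2_le L).trans hcp.le) ?_
    intro m hm
    rw [ChoiceBase.mem_normalizer_iff_cj, ← ChoiceSit.o2_cj, ChoiceBase.cj_eq_of_mem_normalizer (hcp.norm hm)]
  have hcen : o2 X ≤ centralizer (Y : Set G) := by
    intro q hq
    rw [mem_centralizer_iff]
    exact fun y hy => (Block.zc_comm hq (hY.le hy)).symm
  have hinf : L ⊓ centralizer (Y : Set G) = o2 L := by
    apply le_antisymm
    · refine Block.le_o2 ?_ inf_le_left
        ((le_inf le_normalizer (hcp.le.trans hCX)).trans inf_normalizer_le_normalizer_inf)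
      by_contra h8
      have h9 := eq_of_normal hcp.perf hcp.simp inf_le_left
        ((le_inf le_normalizer (hcp.le.trans hCX)).trans inf_normalizer_le_normalizer_inf) h8
      have h10 : (x : G) ∈ L ⊓ centralizer (Y : Set G) := by rw [h9]; exact hxL
      exact hxY' h10.2
    · exact le_inf (Block.o2_le L) (ho2L.trans hcen)
  -- `L → Q` is surjective
  obtain ⟨f, hf⟩ : ∃ f : L →* Q, f = π.comp (Subgroup.inclusion hle) := ⟨_, rfl⟩
  have hfe : ∀ l : L, f l = π ⟨l, hle l.2⟩ := by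
    intro l; rw [hf]; rfl
  have hfs : Function.Surjective f := by
    rw [← MonoidHom.range_eq_top]
    have h8 : f.range.Normal := by
      have h9 : f.range = (L.subgroupOf L₀).map π := by
        ext q
        constructor
        · rintro ⟨l, rfl⟩
          exact ⟨⟨l, hle l.2⟩, l.2, (hfe l).symm⟩
        · rintro ⟨l, hl, rfl⟩
          exact ⟨⟨l, hl⟩, hfe _⟩
      rw [h9]
      have h10 : (L.subgroupOf L₀).Normal := normal_subgroupOf_of_le_normalizer (hb.le.trans hcp.norm)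
      exact h10.map π hπ
    rcases h8.eq_bot_or_eq_top with h9 | h9
    · exfalso
      apply hxY
      have h10 : f ⟨x, hxL⟩ ∈ f.range := ⟨_, rfl⟩
      rw [h9, mem_bot, hfe] at h10
      exact h10
    · exact h9
  have hfk : f.ker = pCore 2 L := by
    ext l
    rw [MonoidHom.mem_ker, hfe, ← MonoidHom.mem_ker, hπk]
    constructor
    · intro h8
      have h9 : (l : G) ∈ L ⊓ centralizer (Y : Set G) := ⟨l.2, h8⟩
      rw [hinf] at h9
      obtain ⟨m, hm, hml⟩ := h9
      rwa [← Subtype.ext (show (m : G) = l from hml)]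
    · intro h8
      have h9 : (l : G) ∈ o2 L := ⟨l, h8, rfl⟩
      rw [← hinf] at h9
      exact h9.2
  have hcard : Nat.card (L ⧸ pCore 2 L) = 168 := by
    rw [← hQc]
    exact Nat.card_congr ((QuotientGroup.quotientMulEquivOfEq hfk.symm).trans
      (QuotientGroup.quotientKerEquivOfSurjective f hfs)).toEquiv
  have hsup : ∀ g ∈ L₀, ∃ l ∈ L, ∃ c ∈ X ⊓ centralizer (Y : Set G), g = l * c := by
    intro g hg
    obtain ⟨l, hl⟩ := hfs (π ⟨g, hg⟩)
    rw [hfe] at hl
    refine ⟨l, l.2, (l : G)⁻¹ * g, ⟨X.mul_mem (X.inv_mem (hcp.le l.2)) (hb.le hg), ?_⟩, by group⟩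
    have h8 : (⟨l, hle l.2⟩ : L₀)⁻¹ * ⟨g, hg⟩ ∈ π.ker := by
      rw [MonoidHom.mem_ker, map_mul, map_inv, hl, inv_mul_cancel]
    rw [hπk] at h8
    exact h8
  refine ⟨L, hcp, ⟨hcp.perf, hcp.simp, hcard, ?_, ?_⟩, hle, hinf, hsup, h3, ?_⟩
  · rw [← hJT]
    exact (hb.jj_le.trans hb.le).trans hcp.norm
  · -- `J` moves `L`
    intro h8
    rw [← hJT] at h8
    have h9 : jj T ≤ centralizer (Y : Set G) := by
      intro j hj
      have hjL₀ := hb.jj_le hj
      -- `π j` is central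
      have h10 : π ⟨j, hjL₀⟩ ∈ center Q := by
        rw [mem_center_iff]
        intro q
        obtain ⟨l, rfl⟩ := hfs q
        have h11 : ⁅(l : G), j⁆ ∈ o2 L := h8 (commutator_mem_commutator l.2 hj)
        rw [← hinf] at h11
        have h12 : (⁅(⟨l, hle l.2⟩ : L₀), ⟨j, hjL₀⟩⁆ : L₀) ∈ π.ker := by
          rw [hπk]
          exact h11.2
        rw [MonoidHom.mem_ker, map_commutatorElement, commutatorElement_eq_one_iff_mul_comm] at h12
        rw [hfe]
        exact h12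
      have h11 : center Q = ⊥ := by
        rcases (inferInstance : (center Q).Normal).eq_bot_or_eq_top with h | h
        · exact h
        · exfalso
          obtain ⟨a, b, hab⟩ := noncomm_of_card hQs hQc
          exact hab ((mem_center_iff.1 (h ▸ mem_top a : a ∈ center Q) b).symm)
      rw [h11, mem_bot, ← MonoidHom.mem_ker, hπk] at h10
      exact h10
    have h10 := hb.four
    rw [inf_eq_left.2 h9, Subgroup.relIndex_self] at h10
    norm_num at h10
  · rintro g hg ⟨n, hn⟩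
    have h8 := hb.three' g hg ⟨n, hn⟩
    refine ⟨?_, h8⟩
    by_cases hg1 : g = 1
    · rw [hg1]; exact one_mem _
    · exact h3 g hg (orderOf_eq_prime h8 hg1)

end Cfsg.Agent.OddCyclic.L32
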