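import Cfsg.Agent.OddCyclic.L32.Pts
import Cfsg.Agent.MinSimple.LemXPerm
import Cfsg.Agent.Lib.SylowNormalInf

/-!
# S0342, (C2), [Bc] section 1: `N_H(F)` maps `p` into the natural module

`K ⊴ H`, `K = L₃(2)`, `H` acts on `V`; `TH` is a Sylow 2-subgroup of `H`, `TQ = TH ∩ K`, `A ≤ TQ` a four-group normal in `TH`
with `|V : C_V(a)| ≤ 4`, all elements of order 3 of `H` are in `K`. If `p` is fixed by `TH` and `p · y p · y² p = 1` then
`N_H(A)` maps `p` into `⟨p^K⟩`.
-/

set_option autoImplicit false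
set_option linter.unusedSectionVars false

namespace Cfsg.Agent.OddCyclic.L32

open Subgroup
open Cfsg.Agent.GH.L2Aut Cfsg.Agent.OddCyclic.T1Module Cfsg.Agent.OddCyclic.FFBasic
  Cfsg.Agent.OddCyclic.FFRed Cfsg.Agent.OddCyclic.FFSl2 Cfsg.Agent.OddCyclic.FFThree
  Cfsg.Agent.OddCyclic.COneSeven Cfsg.Agent.OddCyclic.RedSevenA Cfsg.Agent.OddCyclic.RedFam

/-- the central involution of `T` is in `A` -/
theorem exists_central {L : Type*} [Group L] [Finite L] (h : L32 L) (T : Sylow 2 L) {A : Subgroup L} (hA : IsFour A)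
    (hAT : A ≤ T) : ∃ z ∈ A, z ≠ 1 ∧ ∀ t ∈ T, t * z = z * t := by
  obtain ⟨z, a, b, hzA, haA, hza, hzb, hbT, hab, hmem, hcov⟩ := exists_partner h T hA hAT
  have hcA : ∀ x ∈ A, x * z = z * x := fun x hx => comm_of_sq hA.sq hx hzA
  refine ⟨z, hzA, hza.a1, fun t ht => ?_⟩
  rcases hcov t ht with h1 | h1
  · exact hcA t h1
  · have h2 := hcA _ h1
    have h3 : b * z = z * b := hzb.comm.symm
    have h4 : b * (t * z) = b * (z * t) := by
      rw [← mul_assoc, h2, ← mul_assoc, ← mul_assoc, h3]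
    exact mul_left_cancel h4

/-- no element of order 3 normalises a Sylow 2-subgroup -/
theorem no_three {L : Type*} [Group L] [Finite L] (h : L32 L) (T : Sylow 2 L) {A : Subgroup L} (hA : IsFour A)
    (hAT : A ≤ T) {u : L} (hu : u ∈ normalizer (A : Set L)) (huT : u ∈ normalizer ((T : Subgroup L) : Set L)) :
    orderOf u ≠ 3 := by
  intro hu3
  obtain ⟨z, a, b, hzA, haA, hza, hzb, hbT, hab, hmem, hcov⟩ := exists_partner h T hA hAT
  have hcA : ∀ x ∈ A, ∀ w ∈ A, x * w = w * x := fun x hx w hw => comm_of_sq hA.sq hx hw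
  have hzc : ∀ t ∈ T, t * z = z * t := fun t ht => by
    rcases hcov t ht with h1 | h1
    · exact hcA t h1 z hzA
    · have h2 := hcA _ h1 z hzA
      have h3 : b * z = z * b := hzb.comm.symm
      have h4 : b * (t * z) = b * (z * t) := by
        rw [← mul_assoc, h2, ← mul_assoc, ← mul_assoc, h3]
      exact mul_left_cancel h4
  -- `a` does not centralise `b`
  have hnab : ∀ w ∈ A, (∀ t ∈ T, t * w = w * t) → w = 1 ∨ w = z := by
    intro w hw hwc
    rcases (hmem w).1 hw with h1 | h1 | h1 | h1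
    · exact Or.inl h1
    · exact Or.inr h1
    · exfalso
      rw [h1] at hwc
      have h2 := hwc b hbT
      rw [← h2, mul_inv_cancel_right] at hab
      exact hza.a1 (mul_eq_right.1 hab.symm)
    · exfalso
      rw [h1] at hwc
      have h2 := hwc b hbT
      have h3 : b * a = a * b := by
        rw [← mul_assoc, hzc b hbT, mul_assoc, mul_assoc] at h2
        exact mul_left_cancel h2
      rw [← h3, mul_inv_cancel_right] at hab
      exact hza.a1 (mul_eq_right.1 hab.symm)
  have huT' : ∀ t ∈ T, u⁻¹ * t * u ∈ T := fun t ht => by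
    have := (mem_normalizer_iff.1 (inv_mem huT) t).1 ht
    rwa [inv_inv] at this
  have hz' : u * z * u⁻¹ = z := by
    have h1 : u * z * u⁻¹ ∈ A := (mem_normalizer_iff.1 hu z).1 hzA
    have h2 : ∀ t ∈ T, t * (u * z * u⁻¹) = (u * z * u⁻¹) * t := by
      intro t ht
      have h3 := hzc _ (huT' t ht)
      calc t * (u * z * u⁻¹) = u * ((u⁻¹ * t * u) * z) * u⁻¹ := by group
        _ = u * (z * (u⁻¹ * t * u)) * u⁻¹ := by rw [h3]
        _ = _ := by group
    rcases hnab _ h1 h2 with h3 | h3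
    · exact absurd (by rwa [mul_inv_eq_one, mul_eq_left] at h3) hza.a1
    · exact h3
  have huz : u * z = z * u := by
    rw [mul_inv_eq_iff_eq_mul] at hz'; exact hz'
  have hu3' : u * u * u = 1 := by
    have := pow_orderOf_eq_one u
    rwa [hu3, pow_succ, pow_two] at this
  have hua : u * a = a * u := by
    have h1 : u * a * u⁻¹ ∈ A := (mem_normalizer_iff.1 hu a).1 haA
    rcases (hmem _).1 h1 with h2 | h2 | h2 | h2
    · exact absurd (by rwa [mul_inv_eq_one, mul_eq_left] at h2) hza.b1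
    · exfalso
      have h3 : u * a = u * z := by rw [huz, ← h2, inv_mul_cancel_right]
      exact hza.ne (mul_left_cancel h3).symm
    · rw [mul_inv_eq_iff_eq_mul] at h2; exact h2
    · exfalso
      rw [mul_inv_eq_iff_eq_mul] at h2
      have h3 : Commute (u * u) a := by
        show u * u * a = a * (u * u)
        have e1 : u * u * a = u * z * a * u := by rw [mul_assoc, h2]; group
        have e2 : u * z * a * u = z * (u * a) * u := by rw [huz]; group
        have e3 : z * (u * a) * u = (z * z) * (a * (u * u)) := by rw [h2]; group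
        rw [e1, e2, e3, hza.aa, one_mul]
      have h4 : u * u * (u * u) = u := by rw [← mul_assoc, hu3', one_mul]
      have h5 : u * a = a * u := by
        have h6 : Commute (u * u * (u * u)) a := h3.mul_left h3
        rw [h4] at h6
        exact h6.eq
      have h6 : z * (a * u) = a * u := by rw [← mul_assoc, ← h2, h5]
      exact hza.a1 (mul_eq_right.1 h6)
  have h1 : u * u = 1 := by
    rcases h.cent z a u hza huz hua with h2 | h2 | h2 | h2
    · rw [h2, one_mul]
    · rw [h2, hza.aa]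
    · rw [h2, hza.bb]
    · rw [h2]
      calc z * a * (z * a) = z * (a * z) * a := by group
        _ = (z * z) * (a * a) := by rw [← hza.comm]; group
        _ = 1 := by rw [hza.aa, hza.bb, one_mul]
  have h2 : orderOf u ∣ 2 := orderOf_dvd_of_pow_eq_one (by rw [pow_two]; exact h1)
  rw [hu3] at h2
  norm_num at h2

variable {H : Type*} [Group H] [Finite H] {V : Type*} [CommGroup V] [Finite V] {ρ : H →* MulAut V}

theorem natV_of_mem {K : Subgroup H} (hK : K.Normal) {T : Sylow 2 K} {A B : Subgroup K} {y : K} {p : V}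
    (h : Pt (ρ.comp K.subtype) T A B y p) {g : H} (hg : ρ g p ∈ h.nat) {v : V} (hv : v ∈ h.nat) : ρ g v ∈ h.nat := by
  rcases hv with rfl | ⟨k, rfl⟩
  · rw [map_one]; exact one_mem _
  · have h1 : ρ g (ρ (k : H) p) = (ρ.comp K.subtype) (⟨g * k * g⁻¹, hK.conj_mem _ k.2 g⟩ : K) (ρ g p) := by
      show _ = ρ (g * k * g⁻¹) (ρ g p)
      rw [← MulAut.mul_apply, ← map_mul, ← MulAut.mul_apply, ← map_mul]
      congr 2
      simp
    show ρ g (ρ (k : H) p) ∈ h.nat
    rw [h1]
    exact h.nat_apply hg _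

/-- **`N_H(A)` maps `p` into the natural module** -/
theorem apply_mem_nat {K : Subgroup H} (hK : K.Normal) {TH : Subgroup H} (h2 : IsPGroup 2 TH)
    (hi : ¬ 2 ∣ TH.index) {TQ : Sylow 2 K} (hTQ : ∀ k : K, k ∈ TQ ↔ (k : H) ∈ TH) {A B : Subgroup K} {y : K}
    (hb : Bs (ρ.comp K.subtype) TQ A B y) (h3 : ∀ g : H, orderOf g = 3 → g ∈ K)
    (hidx : ∀ a ∈ A, a ≠ 1 → (fx (ρ.comp K.subtype) a).index ≤ 4)
    (hTF : TH ≤ normalizer ((A.map K.subtype : Subgroup H) : Set H)) {p : V} (hp : ∀ t ∈ TH, ρ t p = p)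
    (h : Pt (ρ.comp K.subtype) TQ A B y p) {g : H} (hg : g ∈ normalizer ((A.map K.subtype : Subgroup H) : Set H)) :
    ρ g p ∈ h.nat := by
  classical
  obtain ⟨F, hF⟩ : ∃ F, F = A.map K.subtype := ⟨_, rfl⟩
  rw [← hF] at hTF hg
  have hFK : F ≤ K := by rw [hF]; exact map_subtype_le _
  have hmemF : ∀ k : K, (k : H) ∈ F ↔ k ∈ A := by
    intro k
    rw [hF]
    constructor
    · rintro ⟨a, ha, hak⟩
      have : a = k := Subtype.ext hak
      rw [← this]; exact ha
    · exact fun hk => ⟨k, hk, rfl⟩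
  have hNA : ∀ k : K, (k : H) ∈ normalizer (F : Set H) → k ∈ normalizer (A : Set K) := by
    intro k hk
    rw [mem_normalizer_iff]
    intro a
    rw [← hmemF, ← hmemF]
    exact mem_normalizer_iff.1 hk a
  -- Frattini
  have hn1 : normalizer (F : Set H) ≤ normalizer ((K ⊓ normalizer (F : Set H) : Subgroup H) : Set H) := by
    rw [le_normalizer_iff]
    intro x hx k hk
    exact ⟨hK.conj_mem _ hk.1 x, mul_mem (mul_mem hx hk.2) ((normalizer (F : Set H)).inv_mem hx)⟩
  obtain ⟨k, hk, n, hn, he⟩ := Cfsg.Agent.MinSimple.LemXPerm.exists_frattini hTF h2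
    (fun hd => hi (hd.trans (Subgroup.relIndex_dvd_index_of_le hTF))) hn1 hg
  have hD : TH ⊓ (K ⊓ normalizer (F : Set H)) = TH ⊓ K := by
    rw [← inf_assoc]
    exact inf_eq_left.2 (inf_le_left.trans hTF)
  rw [hD] at hn
  obtain ⟨P, hP⟩ : ∃ P, P = normalizer (F : Set H) ⊓ normalizer ((TH ⊓ K : Subgroup H) : Set H) := ⟨_, rfl⟩
  rw [← hP] at hn
  have hTP : TH ≤ P := by
    rw [hP]
    refine le_inf hTF ?_
    rw [le_normalizer_iff]
    intro t ht d hd
    exact ⟨mul_mem (mul_mem ht hd.1) (TH.inv_mem ht), hK.conj_mem _ hd.2 t⟩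
  have hPT : ∀ x ∈ P, ∀ t ∈ TQ, (⟨x * t * x⁻¹, hK.conj_mem _ t.2 x⟩ : K) ∈ TQ := by
    intro x hx t ht
    rw [hTQ]
    rw [hP] at hx
    exact ((mem_normalizer_iff.1 hx.2 (t : H)).1 ⟨(hTQ t).1 ht, t.2⟩).1
  have hP3 : ∀ x ∈ P, orderOf x ≠ 3 := by
    intro x hx hx3
    have hxK := h3 x hx3
    have hxP := hx
    rw [hP] at hx
    refine no_three hb.l32 TQ hb.four hb.le (u := ⟨x, hxK⟩) (hNA _ hx.1) ?_ (by rw [← hx3, ← Subgroup.orderOf_coe])
    rw [mem_normalizer_iff]
    intro t
    constructor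
    · intro ht
      exact hPT x hxP t ht
    · intro ht
      have h4 := hPT x⁻¹ (inv_mem hxP) _ ht
      have h5 : (⟨x⁻¹ * ((⟨x, hxK⟩ * t * (⟨x, hxK⟩ : K)⁻¹ : K) : H) * x⁻¹⁻¹, hK.conj_mem _ (Subtype.mem _) _⟩ : K) = t := by
        apply Subtype.ext
        show x⁻¹ * (x * (t : H) * x⁻¹) * x⁻¹⁻¹ = t
        group
      rwa [h5] at h4
  -- the orbit of `p` under `P`
  obtain ⟨z, hzA, hz1, hzT⟩ := exists_central hb.l32 TQ hb.four hb.le
  have horb : ∀ x ∈ P, ρ x p ∈ ((cm (ρ.comp K.subtype) z).range : Set V) \ {1} := by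
    intro x hx
    have hxP := hx
    have hx1 : ρ x p ≠ 1 := fun h4 => h.p1 ((ρ x).injective (by rw [h4, map_one]))
    refine ⟨?_, hx1⟩
    have hxF : x ∈ normalizer (F : Set H) := by rw [hP] at hx; exact hx.1
    have hcon : ∀ k : H, ρ k (ρ x p) = ρ x (ρ (x⁻¹ * k * x) p) := by
      intro k
      rw [← MulAut.mul_apply, ← map_mul, ← MulAut.mul_apply, ← map_mul]
      congr 2
      group
    have hpC : p ∈ CS (ρ.comp K.subtype) A := CS_anti hb.le h.pT
    -- `x⁻¹ y x`
    obtain ⟨y', hy'⟩ : ∃ y' : K, y' = ⟨x⁻¹ * y * x⁻¹⁻¹, hK.conj_mem _ y.2 x⁻¹⟩ := ⟨_, rfl⟩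
    have hy'v : (y' : H) = x⁻¹ * y * x := by rw [hy']; show x⁻¹ * (y : H) * x⁻¹⁻¹ = _; group
    have hyF : (y : H) ∈ normalizer (F : Set H) := by
      rw [mem_normalizer_iff]
      intro f
      constructor
      · intro hf
        have := (mem_normalizer_iff.1 hb.yN ⟨f, hFK hf⟩).1 ((hmemF _).1 hf)
        exact (hmemF _).2 this
      · intro hf
        have h4 : f ∈ K := by
          have := hK.conj_mem _ (hFK hf) (y : H)⁻¹
          have e : (y : H)⁻¹ * (y * f * (y : H)⁻¹) * (y : H)⁻¹⁻¹ = f := by group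
          rwa [e] at this
        have := (mem_normalizer_iff.1 hb.yN ⟨f, h4⟩).2 ((hmemF (y * ⟨f, h4⟩ * y⁻¹)).1 hf)
        exact (hmemF _).2 this
    have hy'N : y' ∈ normalizer (A : Set K) := by
      apply hNA
      rw [hy'v]
      exact mul_mem (mul_mem ((normalizer (F : Set H)).inv_mem hxF) hyF) hxF
    have hy'3 : orderOf y' = 3 := by
      rw [← Subgroup.orderOf_coe, hy', ← hb.y3, ← Subgroup.orderOf_coe]
      show orderOf (x⁻¹ * (y : H) * x⁻¹⁻¹) = _
      rw [← MulAut.conj_apply]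
      exact orderOf_injective (MulAut.conj x⁻¹).toMonoidHom (MulAut.conj x⁻¹).injective _
    have hyyv : x⁻¹ * ((y : H) * y) * x = (y' : H) * y' := by rw [hy'v]; group
    have hsum : ρ x p * (ρ.comp K.subtype) y (ρ x p) * (ρ.comp K.subtype) (y * y) (ρ x p) = 1 := by
      show ρ x p * ρ (y : H) (ρ x p) * ρ ((y : H) * y) (ρ x p) = 1
      rw [hcon, hcon, hyyv, ← hy'v, ← map_mul, ← map_mul]
      have h5 : p * ρ (y' : H) p * ρ ((y' : H) * y') p = 1 := by
        have h6 : (ρ.comp K.subtype) y p ∈ CS (ρ.comp K.subtype) A := hb.yv_mem hpC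
        rcases hb.act_three hy'N hy'3 with h4 | h4
        · have h7 : ρ (y' : H) p = ρ (y : H) p := h4 p hpC
          have h8 : ρ ((y' : H) * y') p = ρ ((y : H) * y) p := by
            rw [map_mul, MulAut.mul_apply, h7, map_mul, MulAut.mul_apply]
            exact h4 _ h6
          rw [h7, h8]; exact h.sum
        · have h7 : ρ (y' : H) p = ρ ((y : H) * y) p := h4 p hpC
          have h9 : (ρ.comp K.subtype) (y * y) p ∈ CS (ρ.comp K.subtype) A := by
            rw [map_mul, MulAut.mul_apply]; exact hb.yv_mem h6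
          have h8 : ρ ((y' : H) * y') p = ρ (y : H) p := by
            rw [map_mul, MulAut.mul_apply, h7]
            have h10 : ρ (y' : H) (ρ ((y : H) * y) p) = ρ ((y : H) * y) (ρ ((y : H) * y) p) := h4 _ h9
            rw [h10, ← MulAut.mul_apply, ← map_mul]
            congr 2
            have h11 : (y * y * y : K) = 1 := hb.yy3
            have h12 : ((y : H) * y * y) = 1 := congrArg Subtype.val h11
            rw [← mul_assoc, h12, one_mul]
          rw [h7, h8, mul_assoc, mul_comm (ρ ((y : H) * y) p), ← mul_assoc]; exact h.sum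
      rw [h5, map_one]
    have hT : ρ x p ∈ CS (ρ.comp K.subtype) (TQ : Subgroup K) := by
      intro t ht
      show ρ (t : H) (ρ x p) = ρ x p
      rw [hcon]
      congr 1
      have h4 := hPT x⁻¹ (inv_mem hxP) t ht
      have h5 := h.pT _ h4
      have h6 : ρ (x⁻¹ * (t : H) * x⁻¹⁻¹) p = p := h5
      rwa [inv_inv] at h6
    exact (hb.pt hT hx1 hsum).mem_range hzA hz1 hzT
  have hcr : Nat.card (cm (ρ.comp K.subtype) z).range ≤ 4 := by
    rw [← Subgroup.index_ker, ker_cm]
    exact hidx z hzA hz1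
  let _ : MulAction P V := MulAction.compHom V (ρ.comp P.subtype)
  have hsm : ∀ (x : P) (v : V), x • v = ρ (x : H) v := fun x v => rfl
  have hidx1 := MulAction.index_stabilizer P p
  have hsub : MulAction.orbit P p ⊆ ((cm (ρ.comp K.subtype) z).range : Set V) \ {1} := by
    rintro _ ⟨x, rfl⟩
    exact horb x x.2
  have hle3 : (MulAction.stabilizer P p).index ≤ 3 := by
    rw [hidx1]
    refine (Set.ncard_le_ncard hsub (Set.toFinite _)).trans ?_
    rw [Set.ncard_diff_singleton_of_mem (one_mem _)]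
    have h4 : ((cm (ρ.comp K.subtype) z).range : Set V).ncard = Nat.card (cm (ρ.comp K.subtype) z).range := rfl
    omega
  have hodd : ¬ 2 ∣ (MulAction.stabilizer P p).index := by
    intro h4
    apply hi
    have h5 : TH.subgroupOf P ≤ MulAction.stabilizer P p := by
      intro t ht
      rw [MulAction.mem_stabilizer_iff, hsm]
      exact hp t ht
    refine (h4.trans (Subgroup.index_dvd_of_le h5)).trans ?_
    exact Subgroup.relIndex_dvd_index_of_le hTP
  have hn3 : (MulAction.stabilizer P p).index ≠ 3 := by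
    intro h4
    have hf3 : Fact (Nat.Prime 3) := ⟨Nat.prime_three⟩
    have h5 : 3 ∣ Nat.card P := by rw [← h4]; exact Subgroup.index_dvd_card _
    obtain ⟨x, hx⟩ := exists_prime_orderOf_dvd_card' (G := P) 3 h5
    exact hP3 x x.2 (by rw [Subgroup.orderOf_coe, hx])
  have h0 : (MulAction.stabilizer P p).index ≠ 0 := Subgroup.index_ne_zero_of_finite
  have h1 : (MulAction.stabilizer P p).index = 1 := by omega
  have hst : MulAction.stabilizer P p = ⊤ := Subgroup.index_eq_one.1 h1
  have hnp : ρ n p = p := by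
    have h4 : (⟨n, hn⟩ : P) ∈ MulAction.stabilizer P p := by rw [hst]; exact mem_top _
    rw [MulAction.mem_stabilizer_iff, hsm] at h4
    exact h4
  rw [he, map_mul, MulAut.mul_apply, hnp]
  exact h.nat_apply h.p_mem ⟨k, hk.1⟩

end Cfsg.Agent.OddCyclic.L32
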