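import Mathlib
import Cfsg.Agent.OddCyclic.COneSeven
import Cfsg.Agent.OddCyclic.PumpMain
import Cfsg.Agent.OddCyclic.CycConj
import Cfsg.Agent.OddCyclic.T1Socle
import Cfsg.Agent.OddCyclic.CaseAPumpL2
import Cfsg.Agent.SmallSimple.S1000.PSLFacts

/-!
# The simple groups of the list with a subgroup involving `L₃(2)`

`eq_top`: if `K` is in the list `KZero`, `R ≤ K`, `N` a normal 2-subgroup of `R`, `R/N` simple of order 168, then `R = K`.
-/

set_option autoImplicit false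
set_option linter.unusedSectionVars false

namespace Cfsg.Agent.OddCyclic.L32.KFact

open Subgroup Matrix

/-! ### Frobenius groups of order 21 in `SL₂` -/

section SL

variable {F : Type*} [Field F]

/-- `Y⁷ = 1`, `W Y W⁻¹ = Y²` in `SL₂(F)`, `Y ≠ 1`: `7 = 0` in `F` -/
theorem seven_eq_zero {Y W : SpecialLinearGroup (Fin 2) F} (h7 : Y ^ 7 = 1) (h1 : Y ≠ 1)
    (hW : W * Y * W⁻¹ = Y * Y) : (7 : F) = 0 := by
  obtain ⟨M, hM⟩ : ∃ M : Matrix (Fin 2) (Fin 2) F, M = (Y : Matrix (Fin 2) (Fin 2) F) := ⟨_, rfl⟩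
  obtain ⟨U, hU⟩ : ∃ U : Matrix (Fin 2) (Fin 2) F, U = (W : Matrix (Fin 2) (Fin 2) F) := ⟨_, rfl⟩
  obtain ⟨U', hU'⟩ : ∃ U : Matrix (Fin 2) (Fin 2) F, U = ((W⁻¹ : SpecialLinearGroup (Fin 2) F) : Matrix (Fin 2) (Fin 2) F) :=
    ⟨_, rfl⟩
  have hdet : M 0 0 * M 1 1 - M 0 1 * M 1 0 = 1 := by
    have := Y.det_coe
    rw [← hM, det_fin_two] at this
    exact this
  have hUU : U' * U = 1 := by
    have h2 := congrArg (fun A : SpecialLinearGroup (Fin 2) F => (A : Matrix (Fin 2) (Fin 2) F)) (inv_mul_cancel W)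
    simp only [Matrix.SpecialLinearGroup.coe_mul, Matrix.SpecialLinearGroup.coe_one] at h2
    rw [hU, hU']; exact h2
  have hWM : U * M * U' = M * M := by
    have h2 := congrArg (fun A : SpecialLinearGroup (Fin 2) F => (A : Matrix (Fin 2) (Fin 2) F)) hW
    simp only [Matrix.SpecialLinearGroup.coe_mul] at h2
    rw [hU, hU', hM]; exact h2
  have h7M : M ^ 7 = 1 := by
    have h2 := congrArg (fun A : SpecialLinearGroup (Fin 2) F => (A : Matrix (Fin 2) (Fin 2) F)) h7
    simp only [Matrix.SpecialLinearGroup.coe_pow, Matrix.SpecialLinearGroup.coe_one] at h2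
    rw [hM]; exact h2
  have h1M : M ≠ 1 := fun h => h1 (Subtype.ext (by rw [hM] at h; rw [h]; rfl))
  -- the trace
  have htr : trace (M * M) = trace M := by
    rw [← hWM, trace_mul_cycle, hUU, one_mul]
  obtain ⟨t, ht⟩ : ∃ t, t = M 0 0 + M 1 1 := ⟨_, rfl⟩
  have hCH : M * M = t • M - 1 := by
    ext i j
    fin_cases i <;> fin_cases j
    · simp [mul_apply, Fin.sum_univ_two, ht]; linear_combination -hdet
    · simp [mul_apply, Fin.sum_univ_two, ht]; ring
    · simp [mul_apply, Fin.sum_univ_two, ht]; ring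
    · simp [mul_apply, Fin.sum_univ_two, ht]; linear_combination -hdet
  have ht2 : (t - 2) * (t + 1) = 0 := by
    rw [hCH, trace_sub, trace_smul, trace_one, trace_fin_two, ← ht, Fintype.card_fin] at htr
    simp only [smul_eq_mul] at htr
    push_cast at htr
    linear_combination htr
  rcases mul_eq_zero.1 ht2 with h2 | h2
  · -- `(M - 1)² = 0`
    obtain ⟨D, hD⟩ : ∃ D, D = M - 1 := ⟨_, rfl⟩
    have hMD : M = 1 + D := by rw [hD]; abel
    have hDD : D * D = 0 := by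
      have e : D * D = M * M - M - M + 1 := by rw [hD]; noncomm_ring
      have h3 : t = 2 := by linear_combination h2
      rw [e, hCH, h3, two_smul]; abel
    have hpow : ∀ n : ℕ, M ^ n = 1 + (n : F) • D := by
      intro n
      induction n with
      | zero => simp
      | succ n ih =>
        rw [pow_succ, ih, hMD]
        have e : (1 + (n : F) • D) * (1 + D) = 1 + D + (n : F) • D + (n : F) • (D * D) := by
          rw [add_mul, mul_add, mul_add, one_mul, one_mul, mul_one, Matrix.smul_mul]; abel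
        rw [e, hDD, smul_zero, add_zero]
        push_cast
        rw [add_smul, one_smul]; abel
    have h3 := hpow 7
    rw [h7M] at h3
    have h4 : ((7 : ℕ) : F) • D = 0 := by
      have := h3
      rw [eq_comm, add_eq_left] at this
      exact this
    rcases smul_eq_zero.1 h4 with h5 | h5
    · exact_mod_cast h5
    · exact absurd (by rw [hMD, h5, add_zero]) h1M
  · -- `M³ = 1`
    exfalso
    have h3 : t = -1 := by linear_combination h2
    have h4 : M * M = -M - 1 := by rw [hCH, h3, neg_smul, one_smul]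
    have h5 : M ^ 3 = 1 := by
      rw [pow_succ, pow_two, h4]
      have e : (-M - 1) * M = -(M * M) - M := by noncomm_ring
      rw [e, h4]; abel
    apply h1M
    have h6 : M ^ 7 = M := by
      have e : M ^ 7 = (M ^ 3) ^ 2 * M := by rw [← pow_mul, ← pow_succ]
      rw [e, h5, one_pow, one_mul]
    rw [← h6, h7M]

/-- the same in `PSL₂(F)` -/
theorem seven_eq_zero' {y w : ProjectiveSpecialLinearGroup (Fin 2) F} (hy : orderOf y = 7)
    (hw : w * y * w⁻¹ = y * y) : (7 : F) = 0 := by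
  obtain ⟨Y, rfl⟩ := QuotientGroup.mk_surjective y
  obtain ⟨W, rfl⟩ := QuotientGroup.mk_surjective w
  have hsq : ∀ A ∈ center (SpecialLinearGroup (Fin 2) F), A * A = 1 ∧ ∀ B, A * B = B * A := by
    intro A hA
    refine ⟨?_, fun B => (mem_center_iff.1 hA B).symm⟩
    obtain ⟨r, hr, hrA⟩ := Matrix.SpecialLinearGroup.mem_center_iff.1 hA
    rw [Fintype.card_fin] at hr
    ext i j
    rw [Matrix.SpecialLinearGroup.coe_mul, ← hrA, Matrix.SpecialLinearGroup.coe_one, ← map_mul, ← pow_two, hr, map_one]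
  have h7 : Y ^ 7 ∈ center (SpecialLinearGroup (Fin 2) F) := by
    rw [← QuotientGroup.eq_one_iff, QuotientGroup.mk_pow, ← hy, pow_orderOf_eq_one]
  obtain ⟨E, hE⟩ : ∃ E, E = Y ^ 7 := ⟨_, rfl⟩
  rw [← hE] at h7
  obtain ⟨hE2, hEc⟩ := hsq E h7
  obtain ⟨Y', hY'⟩ : ∃ Y', Y' = E * Y := ⟨_, rfl⟩
  have hc : Commute E Y := hEc Y
  have h7' : Y' ^ 7 = 1 := by
    rw [hY', hc.mul_pow, ← hE]
    have e : E ^ 7 = (E * E) ^ 3 * E := by
      rw [← pow_two, ← pow_mul, ← pow_succ]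
    rw [e, hE2, one_pow, one_mul, hE2]
  have hmk : (QuotientGroup.mk Y' : ProjectiveSpecialLinearGroup (Fin 2) F) = QuotientGroup.mk Y := by
    rw [hY', QuotientGroup.mk_mul, (QuotientGroup.eq_one_iff E).2 h7, one_mul]
  have hY1 : Y' ≠ 1 := by
    intro h
    rw [h] at hmk
    rw [← hmk, QuotientGroup.mk_one, orderOf_one] at hy
    norm_num at hy
  obtain ⟨Z, hZ⟩ : ∃ Z, Z = W * Y' * W⁻¹ * (Y' * Y')⁻¹ := ⟨_, rfl⟩
  have hZc : Z ∈ center (SpecialLinearGroup (Fin 2) F) := by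
    rw [← QuotientGroup.eq_one_iff, hZ]
    rw [QuotientGroup.mk_mul, QuotientGroup.mk_mul, QuotientGroup.mk_mul, QuotientGroup.mk_inv, QuotientGroup.mk_inv,
      QuotientGroup.mk_mul, hmk, hw, mul_inv_cancel]
  obtain ⟨hZ2, hZcc⟩ := hsq Z hZc
  have hZ7 : Z = 1 := by
    have h3 : W * Y' * W⁻¹ = Z * (Y' * Y') := by rw [hZ]; group
    have h4 : (W * Y' * W⁻¹) ^ 7 = 1 := by rw [conj_pow, h7', mul_one, mul_inv_cancel]
    have h5 : Commute Z (Y' * Y') := hZcc _
    rw [h3, h5.mul_pow] at h4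
    have h6 : (Y' * Y') ^ 7 = 1 := by rw [← pow_two, ← pow_mul, mul_comm, pow_mul, h7', one_pow]
    rw [h6, mul_one] at h4
    have e : Z ^ 7 = (Z * Z) ^ 3 * Z := by rw [← pow_two, ← pow_mul, ← pow_succ]
    rw [e, hZ2, one_pow, one_mul] at h4
    exact h4
  refine seven_eq_zero h7' hY1 (W := W) ?_
  have h3 : W * Y' * W⁻¹ = Z * (Y' * Y') := by rw [hZ]; group
  rw [h3, hZ7, one_mul]

end SL

/-! ### The elements of order 7 -/

/-- `[1, 1; 0, 1]` -/
def y7 : Matrix.SpecialLinearGroup (Fin 2) (ZMod 7) := ⟨!![1, 1; 0, 1], by decide⟩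

/-- `diag(3, 5)` -/
def w7 : Matrix.SpecialLinearGroup (Fin 2) (ZMod 7) := ⟨!![3, 0; 0, 5], by decide⟩

theorem w7_mul : w7 * y7 = y7 * y7 * w7 := by
  apply Subtype.ext
  decide

theorem y7_pow : y7 ^ 7 = 1 := by
  apply Subtype.ext
  decide

theorem y7_ne : y7 ≠ 1 := by
  intro h
  have h7 := congrArg (fun A : Matrix.SpecialLinearGroup (Fin 2) (ZMod 7) => (A : Matrix (Fin 2) (Fin 2) (ZMod 7)) 0 1) h
  revert h7
  decide

/-- a Frobenius group of order 21 in the simple group of order 168 -/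
theorem exists_frob_simple {Q : Type*} [Group Q] [Finite Q] (hs : IsSimpleGroup Q) (hc : Nat.card Q = 168) :
    ∃ y w : Q, orderOf y = 7 ∧ w * y * w⁻¹ = y * y := by
  have : Fact (Nat.Prime 7) := ⟨by norm_num⟩
  obtain ⟨e⟩ := Cfsg.Agent.S0495.result (G := Q) hc (F := ZMod 7) (ZMod.card 7)
  obtain ⟨f, hf⟩ : ∃ f : Matrix.SpecialLinearGroup (Fin 2) (ZMod 7) →* Q,
      f = e.symm.toMonoidHom.comp (QuotientGroup.mk' _) := ⟨_, rfl⟩
  have h3 : f y7 ≠ 1 := by
    intro h
    rw [hf] at h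
    have h4 : (QuotientGroup.mk' (center (Matrix.SpecialLinearGroup (Fin 2) (ZMod 7)))) y7 = 1 := by
      have := congrArg e h
      simpa using this
    rw [← MonoidHom.mem_ker, QuotientGroup.ker_mk', mem_center_iff] at h4
    have h5 := h4 w7
    rw [w7_mul, mul_left_inj] at h5
    exact y7_ne (mul_eq_left.1 h5)
  refine ⟨f y7, f w7, orderOf_eq_prime (by rw [← map_pow, y7_pow, map_one]) h3, ?_⟩
  rw [← map_inv, ← map_mul, ← map_mul, ← map_mul, w7_mul]
  congr 1
  group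

/-- a Frobenius group of order 21 in an extension of a 2-group by the simple group of order 168 -/
theorem exists_frob {R : Type*} [Group R] [Finite R] (hG : T1Defs.OddCyc R) {N : Subgroup R} [N.Normal]
    (hN : IsPGroup 2 N) (hs : IsSimpleGroup (R ⧸ N)) (hc : Nat.card (R ⧸ N) = 168) :
    ∃ y w : R, orderOf y = 7 ∧ w * y * w⁻¹ = y * y := by
  obtain ⟨Y, W, hY, hW⟩ := exists_frob_simple hs hc
  obtain ⟨y₀, rfl⟩ := QuotientGroup.mk_surjective Y
  obtain ⟨w, rfl⟩ := QuotientGroup.mk_surjective W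
  -- an element of order 7 over `Y`
  obtain ⟨y, hyN, hy7⟩ : ∃ y : R, (y : R ⧸ N) = y₀ ∧ y ^ 7 = 1 := by
    have h1 : y₀ ^ 7 ∈ N := by rw [← QuotientGroup.eq_one_iff, QuotientGroup.mk_pow, ← hY, pow_orderOf_eq_one]
    obtain ⟨k, hk⟩ := hN ⟨y₀ ^ 7, h1⟩
    have hk' : (y₀ ^ 7) ^ 2 ^ k = 1 := congrArg Subtype.val hk
    -- `2 ^ (6 k) ≡ 1` modulo 7
    have h2 : 2 ^ (6 * k) % 7 = 1 := by
      rw [pow_mul, Nat.pow_mod]
      norm_num
    refine ⟨y₀ ^ 2 ^ (6 * k), ?_, ?_⟩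
    · rw [QuotientGroup.mk_pow, ← pow_mod_orderOf, hY, h2, pow_one]
    · rw [← pow_mul, mul_comm, pow_mul]
      have e : 6 * k = k + 5 * k := by ring
      rw [e, pow_add, pow_mul, hk', one_pow]
  have hyo : orderOf y = 7 := by
    refine orderOf_eq_prime (hp := ⟨by norm_num⟩) hy7 ?_
    rintro rfl
    rw [← hyN, QuotientGroup.mk_one, orderOf_one] at hY
    norm_num at hY
  rw [← hyN] at hW hY
  -- `y^w` and `y` generate conjugate subgroups of `⟨y⟩N`
  have hH : w * y * w⁻¹ ∈ zpowers y ⊔ N := by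
    rw [mem_sup_of_normal_right]
    refine ⟨y * y, mul_mem (mem_zpowers y) (mem_zpowers y), (y * y)⁻¹ * (w * y * w⁻¹), ?_, by group⟩
    rw [← QuotientGroup.eq_one_iff, QuotientGroup.mk_mul, QuotientGroup.mk_inv, QuotientGroup.mk_mul,
      QuotientGroup.mk_mul, QuotientGroup.mk_mul, QuotientGroup.mk_inv, hW, inv_mul_cancel]
  obtain ⟨h, hh, hz⟩ := CycConj.zpowers_conj hG 7 (zpowers y ⊔ N) y (w * y * w⁻¹) (mem_sup_left (mem_zpowers y)) hH hyo
    (by
      rw [← MulAut.conj_apply, ← hyo]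
      exact orderOf_injective (MulAut.conj w).toMonoidHom (MulAut.conj w).injective y) (by decide)
  rw [mem_sup_of_normal_right] at hh
  obtain ⟨c, hc', n, hn, rfl⟩ := hh
  obtain ⟨j, rfl⟩ := hc'
  refine ⟨y, y ^ j * n * w, hyo, ?_⟩
  have h1 : y ^ j * n * w * y * (y ^ j * n * w)⁻¹ ∈ zpowers y := by
    have h2 : y ^ j * n * (w * y * w⁻¹) * (y ^ j * n)⁻¹ ∈ zpowers y := by
      rw [← hz]
      exact mem_zpowers _
    have e : y ^ j * n * w * y * (y ^ j * n * w)⁻¹ = y ^ j * n * (w * y * w⁻¹) * (y ^ j * n)⁻¹ := by group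
    rwa [e]
  -- compare the images in `R / N`
  obtain ⟨i, hi⟩ := h1
  have hi' : y ^ i = y ^ j * n * w * y * (y ^ j * n * w)⁻¹ := hi
  have h2 : ((y ^ i : R) : R ⧸ N) = (y : R ⧸ N) * y := by
    rw [hi']
    have hn1 : (n : R ⧸ N) = 1 := (QuotientGroup.eq_one_iff n).2 hn
    have e : y ^ j * n * w * y * (y ^ j * n * w)⁻¹ = y ^ j * n * (w * y * w⁻¹) * n⁻¹ * (y ^ j)⁻¹ := by group
    rw [e]
    simp only [QuotientGroup.mk_mul, QuotientGroup.mk_inv] at hW ⊢
    rw [hW, hn1, inv_one, mul_one, mul_one, QuotientGroup.mk_zpow]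
    have hcm : Commute ((y : R ⧸ N) ^ j) ((y : R ⧸ N) * y) :=
      ((Commute.refl (y : R ⧸ N)).zpow_left j).mul_right ((Commute.refl (y : R ⧸ N)).zpow_left j)
    rw [hcm.eq, mul_assoc, mul_inv_cancel, mul_one]
  rw [← hi']
  have h3 : ((7 : ℕ) : ℤ) ∣ i - 2 := by
    rw [← hY]
    refine orderOf_dvd_iff_zpow_eq_one.2 ?_
    have h4 : ((y : R ⧸ N)) ^ i = (y : R ⧸ N) * y := by rw [← QuotientGroup.mk_zpow, h2]
    calc (y : R ⧸ N) ^ (i - 2) = (y : R ⧸ N) ^ i * ((y : R ⧸ N) * y)⁻¹ := by group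
      _ = 1 := by rw [h4, mul_inv_cancel]
  have h4 : y ^ (i - 2) = 1 := orderOf_dvd_iff_zpow_eq_one.1 (by rw [hyo]; exact h3)
  calc y ^ i = y ^ (i - 2) * (y * y) := by group
    _ = y * y := by rw [h4, one_mul]

/-! ### Elements of order 4 -/

/-- `[0, -1; 1, 3]` -/
def x8 : Matrix.SpecialLinearGroup (Fin 2) (ZMod 7) := ⟨!![0, -1; 1, 3], by decide⟩

theorem x8_pow : x8 ^ 8 = 1 := by
  apply Subtype.ext
  decide

theorem x8_pow4_comm (B : Matrix.SpecialLinearGroup (Fin 2) (ZMod 7)) : B * x8 ^ 4 = x8 ^ 4 * B := by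
  have h : ((x8 ^ 4 : Matrix.SpecialLinearGroup (Fin 2) (ZMod 7)) : Matrix (Fin 2) (Fin 2) (ZMod 7)) = -1 := by decide
  apply Subtype.ext
  rw [Matrix.SpecialLinearGroup.coe_mul, Matrix.SpecialLinearGroup.coe_mul, h, mul_neg, neg_mul, mul_one, one_mul]

theorem x8_sq_y7 : y7 * x8 ^ 2 ≠ x8 ^ 2 * y7 := by
  intro h
  have h7 := congrArg (fun A : Matrix.SpecialLinearGroup (Fin 2) (ZMod 7) => (A : Matrix (Fin 2) (Fin 2) (ZMod 7)) 0 0) h
  revert h7
  decide

/-- an element of order 4 in the simple group of order 168 -/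
theorem exists_order_four {Q : Type*} [Group Q] [Finite Q] (hs : IsSimpleGroup Q) (hc : Nat.card Q = 168) :
    ∃ x : Q, x ^ 4 = 1 ∧ x ^ 2 ≠ 1 := by
  have : Fact (Nat.Prime 7) := ⟨by norm_num⟩
  obtain ⟨e⟩ := Cfsg.Agent.S0495.result (G := Q) hc (F := ZMod 7) (ZMod.card 7)
  obtain ⟨f, hf⟩ : ∃ f : Matrix.SpecialLinearGroup (Fin 2) (ZMod 7) →* Q,
      f = e.symm.toMonoidHom.comp (QuotientGroup.mk' _) := ⟨_, rfl⟩
  have hker : ∀ A, f A = 1 ↔ A ∈ center (Matrix.SpecialLinearGroup (Fin 2) (ZMod 7)) := by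
    intro A
    rw [hf]
    show e.symm (QuotientGroup.mk' (center (Matrix.SpecialLinearGroup (Fin 2) (ZMod 7))) A) = 1 ↔ _
    rw [EmbeddingLike.map_eq_one_iff, ← MonoidHom.mem_ker, QuotientGroup.ker_mk']
  refine ⟨f x8, ?_, ?_⟩
  · rw [← map_pow, hker, mem_center_iff]
    exact x8_pow4_comm
  · rw [← map_pow, Ne, hker, mem_center_iff]
    exact fun h => x8_sq_y7 (h y7)

theorem a5_four : ∀ a : alternatingGroup (Fin 5), a ^ 4 = 1 → a ^ 2 = 1 := by decide +kernel

/-- **If `K` is in the list, `R ≤ K` and `N` is a normal 2-subgroup of `R` with `R/N` simple of order 168, then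
`R = K`.** -/
theorem eq_top {K : Type*} [Group K] [Finite K] (hK : PumpMain.KZero K) (hc : T1Defs.OddCyc K) {R : Subgroup K}
    {N : Subgroup R} [N.Normal] (hN : IsPGroup 2 N) (hs : IsSimpleGroup (R ⧸ N)) (h168 : Nat.card (R ⧸ N) = 168) :
    R = ⊤ ∧ Nat.card K = 168 := by
  have hR : Nat.card N * 168 = Nat.card R := by
    rw [← h168, ← Subgroup.index_eq_card, Subgroup.card_mul_index]
  have hRc : T1Defs.OddCyc R := CompBasic.oddCyc_subgroup hc R
  obtain ⟨y, w, hy, hw⟩ := exists_frob hRc hN hs h168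
  have hy' : orderOf (y : K) = 7 := by rw [Subgroup.orderOf_coe, hy]
  have hw' : (w : K) * y * (w : K)⁻¹ = y * y := congrArg Subtype.val hw
  rcases hK with ⟨F, _, _, hp, h5, ⟨e⟩⟩ | ⟨F, _, _, f, hf, hF, ⟨e⟩⟩ | hSz | ⟨hJ, k, hk⟩
  · have h7 : (7 : F) = 0 := by
      refine seven_eq_zero' (y := e y) (w := e w) (by rw [MulEquiv.orderOf_eq, hy']) ?_
      rw [← map_inv, ← map_mul, ← map_mul, ← map_mul, hw']
    have hch : CharP F (Fintype.card F) := by
      have hc' : Nat.card F = Fintype.card F := Nat.card_eq_fintype_card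
      have := FFPsl.charP (F := F) (by rw [hc']; exact hp)
      rwa [hc'] at this
    have h8 : Fintype.card F ∣ 7 := by
      rw [← CharP.cast_eq_zero_iff F (Fintype.card F) 7]
      exact_mod_cast h7
    have h9 : Fintype.card F = 7 := by
      rcases (Nat.dvd_prime (by norm_num)).1 h8 with h | h
      · omega
      · exact h
    have h10 : Nat.card K = 168 := by
      rw [Nat.card_congr e.toEquiv]
      exact Cfsg.Agent.SmallSimple.PSLFacts.card_psl_two_seven h9
    refine ⟨Subgroup.eq_top_of_card_eq R (le_antisymm ?_ ?_), h10⟩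
    · exact Nat.le_of_dvd Nat.card_pos R.card_subgroup_dvd_card
    · rw [h10, ← hR]
      exact Nat.le_mul_of_pos_left _ Nat.card_pos
  · exfalso
    have := PumpMain.charP_two hF
    have h7 : (7 : F) = 0 := by
      refine seven_eq_zero' (y := e y) (w := e w) (by rw [MulEquiv.orderOf_eq, hy']) ?_
      rw [← map_inv, ← map_mul, ← map_mul, ← map_mul, hw']
    have h2 : (2 : F) = 0 := by
      have := CharP.cast_eq_zero F 2
      exact_mod_cast this
    have h1 : (1 : F) = 0 := by linear_combination h7 - 3 * h2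
    exact one_ne_zero h1
  · exfalso
    have h3 := T1Socle.not_three_dvd hSz
    exact h3 (((by norm_num : 3 ∣ 168).trans (Dvd.intro_left _ hR)).trans R.card_subgroup_dvd_card)
  · exfalso
    have h1 := CaseAPumpL2.card_local hJ hk
    have h2 : Nat.card R ∣ 175560 := h1 ▸ R.card_subgroup_dvd_card
    have hN1 : Nat.card N = 1 := by
      have : Fact (Nat.Prime 2) := ⟨Nat.prime_two⟩
      obtain ⟨n, hn⟩ := IsPGroup.iff_card.1 hN
      rcases Nat.eq_zero_or_pos n with h | h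
      · rw [hn, h, pow_zero]
      exfalso
      obtain ⟨m, rfl⟩ := Nat.exists_eq_succ_of_ne_zero h.ne'
      rw [← hR, hn] at h2
      have h3 : 16 ∣ 175560 := by
        refine dvd_trans ?_ h2
        rw [pow_succ]
        exact ⟨2 ^ m * 21, by ring⟩
      norm_num at h3
    have hNb : N = ⊥ := Subgroup.eq_bot_of_card_eq N hN1
    obtain ⟨X, hX4, hX2⟩ := exists_order_four hs h168
    obtain ⟨x, rfl⟩ := QuotientGroup.mk_surjective X
    have hx4 : x ^ 4 = 1 := by
      rw [← QuotientGroup.mk_pow, QuotientGroup.eq_one_iff, hNb, mem_bot] at hX4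
      exact hX4
    have hx2 : x ^ 2 ≠ 1 := by
      intro h
      apply hX2
      rw [← QuotientGroup.mk_pow, h, QuotientGroup.mk_one]
    have hz : orderOf ((x : K) ^ 2) = 2 := by
      refine orderOf_eq_prime ?_ ?_
      · rw [← pow_mul]
        exact congrArg Subtype.val hx4
      · intro h
        exact hx2 (Subtype.ext h)
    obtain ⟨φ⟩ := hJ.cent _ hz
    have hxc : (x : K) ∈ centralizer ({(x : K) ^ 2} : Set K) := by
      rw [mem_centralizer_singleton_iff, ← pow_succ, ← pow_succ']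
    have h4 : (φ ⟨x, hxc⟩) ^ 4 = 1 := by
      rw [← map_pow]
      have : (⟨x, hxc⟩ : centralizer ({(x : K) ^ 2} : Set K)) ^ 4 = 1 :=
        Subtype.ext (congrArg (Subtype.val : R → K) hx4)
      rw [this, map_one]
    have h5 : (φ ⟨x, hxc⟩) ^ 2 = 1 := by
      refine Prod.ext ?_ ?_
      · have h6 : ∀ c : Multiplicative (ZMod 2), c ^ 2 = 1 := by decide
        exact h6 _
      · exact a5_four _ (congrArg Prod.snd h4)
    rw [← map_pow, EmbeddingLike.map_eq_one_iff] at h5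
    exact hx2 (Subtype.ext (congrArg (Subtype.val : centralizer ({(x : K) ^ 2} : Set K) → K) h5))

end Cfsg.Agent.OddCyclic.L32.KFact
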