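import Cfsg.Agent.OddCyclic.RedSevenB
import Cfsg.Agent.ZN.Block
import Cfsg.Agent.GH.EFrameAct

/-!
# S0342, (C2), [Bc] section 1: natural submodules of `L₃(2)`

`Pt ρ T A B y p`: `A`, `B` are the four-groups of the Sylow 2-subgroup `T` of the simple group `L` of order 168, all
`a ∈ A#` have the same fixed points, `y ∈ N(A)` has order 3, `p ≠ 1` is fixed by `T` and `p · y p · y² p = 1`.

`Pt.exists_nat`: `{1} ∪ p^L` is a subgroup of order 8.
-/

set_option autoImplicit false
set_option linter.unusedSectionVars false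

namespace Cfsg.Agent.OddCyclic.L32

open Subgroup
open Cfsg.Agent.GH.L2Aut Cfsg.Agent.OddCyclic.T1Module Cfsg.Agent.OddCyclic.FFBasic
  Cfsg.Agent.OddCyclic.FFRed Cfsg.Agent.OddCyclic.FFSl2 Cfsg.Agent.OddCyclic.FFThree
  Cfsg.Agent.OddCyclic.COneSeven Cfsg.Agent.OddCyclic.RedSevenA Cfsg.Agent.OddCyclic.RedFam

variable {L : Type*} [Group L] [Finite L] {V : Type*} [CommGroup V] [Finite V] {ρ : L →* MulAut V}

theorem exists_mul_of_mem_sup {G : Type*} [Group G] {H N : Subgroup G} (h : H ≤ normalizer (N : Set G)) {x : G}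
    (hx : x ∈ H ⊔ N) : ∃ a ∈ H, ∃ b ∈ N, x = a * b := by
  have h1 : x ∈ ((H ⊔ N : Subgroup G) : Set G) := hx
  rw [Subgroup.coe_mul_of_left_le_normalizer_right H N h, Set.mem_mul] at h1
  obtain ⟨a, ha, b, hb, hab⟩ := h1
  exact ⟨a, ha, b, hb, hab.symm⟩

structure Pt (ρ : L →* MulAut V) (T : Sylow 2 L) (A B : Subgroup L) (y : L) (p : V) : Prop where
  l32 : L32 L
  simp : IsSimpleGroup L
  sq : ∀ v : V, v * v = 1
  four : IsFour A
  le : A ≤ T
  fix : ∀ a ∈ A, a ≠ 1 → fx ρ a = CS ρ A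
  par : Par ρ T A B
  yN : y ∈ normalizer (A : Set L)
  y3 : orderOf y = 3
  pT : p ∈ CS ρ (T : Subgroup L)
  p1 : p ≠ 1
  sum : p * ρ y p * ρ (y * y) p = 1

namespace Pt

variable {T : Sylow 2 L} {A B : Subgroup L} {y : L} {p : V} (h : Pt ρ T A B y p)

include h

theorem yy3 : y * y * y = 1 := by
  have := pow_orderOf_eq_one y
  rwa [h.y3, pow_succ, pow_two] at this

theorem y2 : ρ (y * y) p = p * ρ y p := by
  have h1 := h.sum
  have h2 := h.sq (ρ (y * y) p)
  calc ρ (y * y) p = (p * ρ y p * ρ (y * y) p) * ρ (y * y) p := by rw [h1, one_mul]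
    _ = p * ρ y p := by rw [mul_assoc, h2, mul_one]

theorem q_ne : ρ y p ≠ p := by
  intro h1
  have h2 := h.sum
  rw [map_mul, MulAut.mul_apply, h1, h1, h.sq, one_mul] at h2
  exact h.p1 h2

theorem q1 : ρ y p ≠ 1 := by
  intro h1
  exact h.p1 ((ρ y).injective (by rw [h1, map_one]))

theorem fourV : Four p (ρ y p) where
  aa := h.sq p
  bb := h.sq _
  a1 := h.p1
  b1 := h.q1
  ne := h.q_ne.symm
  comm := mul_comm _ _

/-- `W = ⟨y⟩ A` has index 2 in `N(A)` -/
theorem card_W : Nat.card (zpowers y ⊔ A : Subgroup L) = 12 := by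
  have h1 := ZN.Block.card_sup_mul_card_inf (H := zpowers y) (N := A) (zpowers_le.2 h.yN)
  rw [Nat.card_zpowers, h.y3, h.four.card] at h1
  have h2 : Nat.card (zpowers y ⊓ A : Subgroup L) ∣ 3 := by
    rw [← h.y3, ← Nat.card_zpowers]
    exact Subgroup.card_dvd_of_le inf_le_left
  have h3 : Nat.card (zpowers y ⊓ A : Subgroup L) ∣ 4 := by
    rw [← h.four.card]
    exact Subgroup.card_dvd_of_le inf_le_right
  have h4 : Nat.card (zpowers y ⊓ A : Subgroup L) = 1 := Nat.eq_one_of_dvd_coprimes (by norm_num) h2 h3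
  rw [h4, mul_one] at h1
  omega

theorem W_le : zpowers y ⊔ A ≤ normalizer (A : Set L) := sup_le (zpowers_le.2 h.yN) le_normalizer

theorem T_le : (T : Subgroup L) ≤ normalizer (A : Set L) := sylow_le_normalizer h.l32 T h.four h.le

theorem index_W : (zpowers y ⊔ A).relIndex (normalizer (A : Set L)) = 2 := by
  have h1 := ZN.Block.card_mul_relIndex' h.W_le
  rw [h.card_W, card_normalizer h.l32 T h.four h.le] at h1
  omega

theorem W_apply {w : L} (hw : w ∈ zpowers y ⊔ A) : ρ w p ∈ h.fourV.sub := by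
  obtain ⟨b, ⟨i, rfl⟩, a, ha, rfl⟩ := exists_mul_of_mem_sup (zpowers_le.2 h.yN) hw
  have hpa : ρ a p = p := h.pT a (h.le ha)
  simp only
  rw [map_mul, MulAut.mul_apply, hpa]
  have h1 : i % 3 = 0 ∨ i % 3 = 1 ∨ i % 3 = 2 := by omega
  have h2 : y ^ i = y ^ (i % 3) := by
    have := zpow_mod_orderOf y i
    rw [h.y3] at this
    exact this.symm
  rw [h2]
  rcases h1 with h1 | h1 | h1
  · rw [h1, zpow_zero, map_one]; exact Or.inr (Or.inl rfl)
  · rw [h1, zpow_one]; exact Or.inr (Or.inr (Or.inl rfl))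
  · have e : y ^ (2 : ℤ) = y * y := by rw [zpow_ofNat, pow_two]
    rw [h1, e, h.y2]
    exact Or.inr (Or.inr (Or.inr rfl))

/-- an element of `T` outside `W` -/
theorem exists_t : ∃ t ∈ T, t ∉ zpowers y ⊔ A := by
  by_contra hcon
  push Not at hcon
  have h1 : (T : Subgroup L) ≤ zpowers y ⊔ A := hcon
  have h2 := Subgroup.card_dvd_of_le h1
  rw [h.card_W] at h2
  change Nat.card T ∣ 12 at h2
  rw [card_sylow h.l32 T] at h2
  norm_num at h2

theorem N_apply {x : L} (hx : x ∈ normalizer (A : Set L)) : ρ x p ∈ h.fourV.sub := by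
  by_cases hw : x ∈ zpowers y ⊔ A
  · exact h.W_apply hw
  · obtain ⟨t, ht, htW⟩ := h.exists_t
    have h1 : x * t⁻¹ ∈ zpowers y ⊔ A := by
      have h2 := h.index_W
      rw [Subgroup.relIndex] at h2
      have h3 := (Subgroup.mul_mem_iff_of_index_two h2 (a := ⟨x, hx⟩) (b := ⟨t⁻¹, inv_mem (h.T_le ht)⟩)).2 (by
        rw [mem_subgroupOf, mem_subgroupOf]
        constructor
        · intro h4; exact absurd h4 hw
        · intro h4
          exact absurd (inv_mem_iff.1 h4) htW)
      exact h3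
    have h2 : ρ x p = ρ (x * t⁻¹) p := by
      rw [map_mul, MulAut.mul_apply]
      congr 1
      exact (h.pT _ (inv_mem ht)).symm
    rw [h2]
    exact h.W_apply h1

theorem N_H {x : L} (hx : x ∈ normalizer (A : Set L)) {v : V} (hv : v ∈ h.fourV.sub) : ρ x v ∈ h.fourV.sub := by
  have h1 : ρ x (ρ y p) ∈ h.fourV.sub := by
    have := h.N_apply (mul_mem hx h.yN)
    rwa [map_mul, MulAut.mul_apply] at this
  rcases hv with rfl | rfl | rfl | rfl
  · rw [map_one]; exact one_mem _
  · exact h.N_apply hx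
  · exact h1
  · rw [map_mul]; exact mul_mem (h.N_apply hx) h1

/-- no element of order 3 of `N(B)` normalises the plane -/
theorem not_mem {x : L} (hx : x ∈ normalizer (B : Set L)) (hx3 : orderOf x = 3) : ρ x (ρ y p) ∉ h.fourV.sub := by
  intro hcon
  obtain ⟨K, hK⟩ : ∃ K : Subgroup L, ∀ g, g ∈ K ↔ ∀ v ∈ h.fourV.sub, ρ g v ∈ h.fourV.sub := by
    refine ⟨{ carrier := {g | ∀ v ∈ h.fourV.sub, ρ g v ∈ h.fourV.sub}
              mul_mem' := fun {a b} ha hb v hv => by
                rw [map_mul, MulAut.mul_apply]; exact ha _ (hb v hv)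
              one_mem' := fun v hv => by rw [map_one]; exact hv
              inv_mem' := fun {a} ha v hv => by
                have h1 : a⁻¹ = a ^ (orderOf a - 1) := by
                  rw [eq_comm, ← mul_eq_one_iff_eq_inv, ← pow_succ, Nat.sub_add_cancel (orderOf_pos a), pow_orderOf_eq_one]
                have h2 : ∀ n : ℕ, ∀ v ∈ h.fourV.sub, ρ (a ^ n) v ∈ h.fourV.sub := by
                  intro n
                  induction n with
                  | zero => intro v hv; rw [pow_zero, map_one]; exact hv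
                  | succ n ih => intro v hv; rw [pow_succ, map_mul, MulAut.mul_apply]; exact ih _ (ha v hv)
                rw [h1]; exact h2 _ v hv }, fun g => Iff.rfl⟩
  have h1 : normalizer (A : Set L) ≤ K := fun g hg => (hK g).2 fun v hv => h.N_H hg hv
  have hxK : x ∈ K := by
    rw [hK]
    rintro v (rfl | rfl | rfl | rfl)
    · rw [map_one]; exact one_mem _
    · rw [h.par.cent x hx v h.pT]; exact Or.inr (Or.inl rfl)
    · exact hcon
    · rw [map_mul, h.par.cent x hx p h.pT]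
      exact mul_mem (Or.inr (Or.inl rfl)) hcon
  have hTB : (T : Subgroup L) ≤ normalizer (B : Set L) := sylow_le_normalizer h.l32 T h.par.four h.par.le
  have h2 : normalizer (B : Set L) ≤ K := by
    -- `⟨T, x⟩ = N(B)`
    have h3 : (T : Subgroup L) ⊔ zpowers x = normalizer (B : Set L) := by
      apply Subgroup.eq_of_le_of_card_ge (sup_le hTB (zpowers_le.2 hx))
      rw [card_normalizer h.l32 T h.par.four h.par.le]
      exact Nat.le_of_dvd Nat.card_pos (dvd_card_of h.l32 T le_sup_left hx3 (mem_sup_right (mem_zpowers x)))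
    rw [← h3]
    exact sup_le (h.T_le.trans h1) (zpowers_le.2 hxK)
  have h3 : K = ⊤ := by
    rw [eq_top_iff, ← h.par.gen]
    exact sup_le h1 h2
  have hinv : ∀ n ∈ (⊤ : Subgroup L), ∀ w ∈ h.fourV.sub, ρ n w ∈ h.fourV.sub := fun n _ w hw =>
    (hK n).1 (by rw [h3]; exact mem_top n) w hw
  have hs := h.simp
  rcases (inferInstance : ((res ρ ⊤ h.fourV.sub hinv).comp (Subgroup.topEquiv (G := L)).symm.toMonoidHom).ker.Normal).eq_bot_or_eq_top with h4 | h4
  · rw [MonoidHom.ker_eq_bot_iff] at h4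
    have h5 := (Subgroup.card_dvd_of_injective _ h4).trans (card_mulAut_dvd_six (P := h.fourV.sub) (card_sub h.fourV))
    rw [h.l32.card] at h5
    norm_num at h5
  · have h5 : y ∈ ((res ρ ⊤ h.fourV.sub hinv).comp (Subgroup.topEquiv (G := L)).symm.toMonoidHom).ker := by
      rw [h4]; exact mem_top y
    rw [MonoidHom.mem_ker] at h5
    have h6 := congrArg (fun φ : MulAut h.fourV.sub => ((φ ⟨p, Or.inr (Or.inl rfl)⟩ : h.fourV.sub) : V)) h5
    exact h.q_ne h6

theorem exists_x : ∃ x ∈ normalizer (B : Set L), orderOf x = 3 := by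
  obtain ⟨s, hs, t, ht, hst, hmem⟩ := h.par.four.exists_four
  obtain ⟨x, hxN, hx3, hx1, -⟩ := fuse_mem h.l32 hst hmem
  exact ⟨x, hxN, orderOf_three hx3 hx1 hst.ne⟩

/-- the points -/
def orb (_ : Pt ρ T A B y p) : Set V := Set.range fun g : L => ρ g p

theorem mem_orb {v : V} : v ∈ h.orb ↔ ∃ g : L, ρ g p = v := Iff.rfl

theorem orb_apply {v : V} (hv : v ∈ h.orb) (g : L) : ρ g v ∈ h.orb := by
  obtain ⟨k, rfl⟩ := hv
  exact ⟨g * k, by simp only [map_mul, MulAut.mul_apply]⟩

theorem orb_le : h.orb.ncard ≤ 7 := by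
  have hf : Set.Finite h.orb := Set.toFinite _
  obtain ⟨f, hf⟩ : ∃ f : L ⧸ normalizer (B : Set L) → V, ∀ g : L, f g = ρ g p := by
    refine ⟨fun q => Quotient.liftOn' q (fun g => ρ g p) ?_, fun g => rfl⟩
    intro a b hab
    rw [QuotientGroup.leftRel_apply] at hab
    have h1 := h.par.cent _ hab p h.pT
    show ρ a p = ρ b p
    rw [map_mul, MulAut.mul_apply, map_inv] at h1
    have h2 : ρ a ((ρ a)⁻¹ (ρ b p)) = ρ b p := by rw [← MulAut.mul_apply, mul_inv_cancel, MulAut.one_apply]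
    rw [h1] at h2
    exact h2
  have h1 : h.orb = Set.range f := by
    ext v
    constructor
    · rintro ⟨g, rfl⟩
      exact ⟨g, hf g⟩
    · rintro ⟨q, rfl⟩
      obtain ⟨g, rfl⟩ := QuotientGroup.mk_surjective q
      exact ⟨g, (hf g).symm⟩
  have h2 : Nat.card (L ⧸ normalizer (B : Set L)) = 7 := by
    have h3 := (normalizer (B : Set L)).card_mul_index
    rw [card_normalizer h.l32 T h.par.four h.par.le, h.l32.card] at h3
    rw [← Subgroup.index_eq_card]
    omega
  rw [h1, ← Set.image_univ]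
  refine (Set.ncard_image_le (Set.toFinite _)).trans ?_
  rw [Set.ncard_univ, h2]

/-- the seven points -/
theorem orb_eq {x : L} (hx : x ∈ normalizer (B : Set L)) (hx3 : orderOf x = 3) :
    h.orb = {p, ρ y p, p * ρ y p, ρ x (ρ y p), p * ρ x (ρ y p), ρ (x * x) (ρ y p), p * ρ (x * x) (ρ y p)} ∧
      h.orb.ncard = 7 := by
  classical
  obtain ⟨q, hq⟩ : ∃ q, q = ρ y p := ⟨_, rfl⟩
  have hxp : ρ x p = p := h.par.cent x hx p h.pT
  have hxx : x * x * x = 1 := by
    have := pow_orderOf_eq_one x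
    rwa [hx3, pow_succ, pow_two] at this
  have hsub : ∀ v, v ∈ h.fourV.sub ↔ v = 1 ∨ v = p ∨ v = q ∨ v = p * q := by
    intro v; rw [hq]; exact Iff.rfl
  have hqS : q ∈ h.fourV.sub := (hsub q).2 (Or.inr (Or.inr (Or.inl rfl)))
  have hpS : p ∈ h.fourV.sub := (hsub p).2 (Or.inr (Or.inl rfl))
  have hq1 : ρ x q ∉ h.fourV.sub := by rw [hq]; exact h.not_mem hx hx3
  have hq11 : ρ (x * x) q = ρ x (ρ x q) := by rw [map_mul, MulAut.mul_apply]
  have hx4 : ρ x (ρ (x * x) q) = q := by
    rw [← MulAut.mul_apply, ← map_mul, ← mul_assoc, hxx, map_one, MulAut.one_apply]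
  have hq2 : ρ (x * x) q ∉ h.fourV.sub := by
    intro h1
    rcases (hsub _).1 h1 with h2 | h2 | h2 | h2
    · rw [h2, map_one] at hx4
      exact h.q1 (hq.symm.trans hx4.symm)
    · rw [h2, hxp] at hx4
      exact h.q_ne (hq.symm.trans hx4.symm)
    · rw [h2] at hx4
      exact hq1 (by rw [hx4]; exact hqS)
    · rw [h2, map_mul, hxp] at hx4
      apply hq1
      have h3 : ρ x q = p * q := by
        calc ρ x q = p * p * ρ x q := by rw [h.sq, one_mul]
          _ = p * (p * ρ x q) := mul_assoc _ _ _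
          _ = p * q := by rw [hx4]
      rw [h3]; exact mul_mem hpS hqS
  have hpm : ∀ {v : V}, v ∉ h.fourV.sub → p * v ∉ h.fourV.sub := fun {v} hv h1 => hv (by
    have := mul_mem hpS h1
    rwa [← mul_assoc, h.sq, one_mul] at this)
  have hq12 : ρ (x * x) q ≠ ρ x q := by
    intro h1
    rw [hq11] at h1
    have h2 := (ρ x).injective h1
    exact hq1 (by rw [h2]; exact hqS)
  have hq12' : ρ (x * x) q ≠ p * ρ x q := by
    intro h1
    rw [hq11] at h1
    have h2 : ρ x (ρ x q) = ρ x (p * q) := by rw [h1, map_mul, hxp]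
    have h3 := (ρ x).injective h2
    exact hq1 (by rw [h3]; exact mul_mem hpS hqS)
  have hpinj : ∀ {v w : V}, p * v = p * w → v = w := fun {v w} h1 => mul_left_cancel h1
  have hpne : ∀ v : V, v ≠ p * v := fun v h1 => h.p1 (by
    have := mul_eq_right.1 h1.symm
    exact this)
  have hpp : ∀ {v w : V}, v = p * w → w = p * v := fun {v w} h1 => by
    rw [h1, ← mul_assoc, h.sq, one_mul]
  obtain ⟨F, hF⟩ : ∃ F : Finset V, F = {p, q, p * q, ρ x q, p * ρ x q, ρ (x * x) q, p * ρ (x * x) q} := ⟨_, rfl⟩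
  have hin : ∀ {v w : V}, v ∈ h.fourV.sub → w ∉ h.fourV.sub → v ≠ w := fun {v w} hv hw h1 => hw (h1 ▸ hv)
  have hpqS : p * q ∈ h.fourV.sub := mul_mem hpS hqS
  have hqp : p ≠ q := by rw [hq]; exact h.q_ne.symm
  have hq1' : q ≠ 1 := by rw [hq]; exact h.q1
  have hcard : F.card = 7 := by
    rw [hF]
    rw [Finset.card_insert_of_notMem, Finset.card_insert_of_notMem, Finset.card_insert_of_notMem,
      Finset.card_insert_of_notMem, Finset.card_insert_of_notMem, Finset.card_insert_of_notMem,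
      Finset.card_singleton]
    · rw [Finset.mem_singleton]; exact hpne _
    · simp only [Finset.mem_insert, Finset.mem_singleton, not_or]
      exact ⟨fun h1 => hq12' h1.symm, fun h1 => hq12 (hpinj h1).symm⟩
    · simp only [Finset.mem_insert, Finset.mem_singleton, not_or]
      exact ⟨hpne _, fun h1 => hq12 h1.symm, fun h1 => hq12' (hpp h1)⟩
    · simp only [Finset.mem_insert, Finset.mem_singleton, not_or]
      exact ⟨hin hpqS hq1, hin hpqS (hpm hq1), hin hpqS hq2, hin hpqS (hpm hq2)⟩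
    · simp only [Finset.mem_insert, Finset.mem_singleton, not_or]
      exact ⟨hpne _, hin hqS hq1, hin hqS (hpm hq1), hin hqS hq2, hin hqS (hpm hq2)⟩
    · simp only [Finset.mem_insert, Finset.mem_singleton, not_or]
      exact ⟨hqp, fun h1 => hq1' (mul_eq_left.1 h1.symm), hin hpS hq1, hin hpS (hpm hq1), hin hpS hq2,
        hin hpS (hpm hq2)⟩
  have hpO : p ∈ h.orb := ⟨1, by simp⟩
  have hqO : q ∈ h.orb := ⟨y, hq.symm⟩
  have hpqO : p * q ∈ h.orb := ⟨y * y, by rw [hq]; exact h.y2⟩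
  have hFO : (F : Set V) ⊆ h.orb := by
    rw [hF]
    intro v hv
    simp only [Finset.coe_insert, Finset.coe_singleton, Set.mem_insert_iff, Set.mem_singleton_iff] at hv
    rcases hv with rfl | rfl | rfl | rfl | rfl | rfl | rfl
    · exact hpO
    · exact hqO
    · exact hpqO
    · exact h.orb_apply hqO _
    · have := h.orb_apply hpqO x
      rwa [map_mul, hxp] at this
    · exact h.orb_apply hqO _
    · have := h.orb_apply hpqO (x * x)
      have h2 : ρ (x * x) p = p := by rw [map_mul, MulAut.mul_apply, hxp, hxp]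
      rwa [map_mul, h2] at this
  have hFn : (F : Set V).ncard = 7 := by rw [Set.ncard_coe_finset, hcard]
  have heq : (F : Set V) = h.orb := Set.eq_of_subset_of_ncard_le hFO (by rw [hFn]; exact h.orb_le) (Set.toFinite _)
  refine ⟨?_, by rw [← heq, hFn]⟩
  rw [← heq, hF, hq]
  simp only [Finset.coe_insert, Finset.coe_singleton]

theorem p_mul {c : V} (hc : c ∈ h.orb) (hcp : c ≠ p) : p * c ∈ h.orb := by
  obtain ⟨x, hx, hx3⟩ := h.exists_x
  have h1 := (h.orb_eq hx hx3).1
  have hxx : ∀ v, p * (p * v) = v := fun v => by rw [← mul_assoc, h.sq, one_mul]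
  rw [h1] at hc ⊢
  simp only [Set.mem_insert_iff, Set.mem_singleton_iff] at hc ⊢
  rcases hc with rfl | rfl | rfl | rfl | rfl | rfl | rfl
  · exact absurd rfl hcp
  · simp
  · rw [hxx]; simp
  · simp
  · rw [hxx]; simp
  · simp
  · rw [hxx]; simp

/-- the natural module generated by `p` -/
def nat : Subgroup V where
  carrier := {v | v = 1 ∨ v ∈ h.orb}
  one_mem' := Or.inl rfl
  inv_mem' := fun {a} ha => by
    have h1 : a⁻¹ = a := inv_eq_of_mul_eq_one_left (h.sq a)
    rw [h1]; exact ha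
  mul_mem' := fun {a b} ha hb => by
    rcases ha with rfl | ha
    · rw [one_mul]; exact hb
    rcases hb with rfl | hb
    · rw [mul_one]; exact Or.inr ha
    by_cases hab : a = b
    · left; rw [hab]; exact h.sq b
    right
    obtain ⟨g, rfl⟩ := ha
    have h1 := h.orb_apply hb g⁻¹
    have h2 : ρ g⁻¹ b ≠ p := by
      intro h3
      apply hab
      simp only
      rw [← h3, ← MulAut.mul_apply, ← map_mul, mul_inv_cancel, map_one, MulAut.one_apply]
    have h3 := h.orb_apply (h.p_mul h1 h2) g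
    have h4 : ρ g (ρ g⁻¹ b) = b := by rw [← MulAut.mul_apply, ← map_mul, mul_inv_cancel, map_one, MulAut.one_apply]
    rwa [map_mul, h4] at h3

theorem mem_nat {v : V} : v ∈ h.nat ↔ v = 1 ∨ ∃ g : L, ρ g p = v := Iff.rfl

theorem p_mem : p ∈ h.nat := Or.inr ⟨1, by simp⟩

theorem nat_apply {v : V} (hv : v ∈ h.nat) (g : L) : ρ g v ∈ h.nat := by
  rcases hv with rfl | hv
  · rw [map_one]; exact one_mem _
  · exact Or.inr (h.orb_apply hv g)

theorem card_nat : Nat.card h.nat = 8 := by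
  obtain ⟨x, hx, hx3⟩ := h.exists_x
  have h1 := (h.orb_eq hx hx3).2
  have h2 : (h.nat : Set V) = insert 1 h.orb := by
    ext v
    exact Iff.rfl
  have h3 : (1 : V) ∉ h.orb := by
    rintro ⟨g, hg⟩
    exact h.p1 ((ρ g).injective (hg.trans (map_one _).symm))
  have h4 : (h.nat : Set V).ncard = 8 := by
    rw [h2, Set.ncard_insert_of_notMem h3, h1]
  rw [← h4]; rfl

/-- `p` is the only point of `nat` fixed by `T` -/
theorem eq_p {c : V} (hc : c ∈ h.nat) (hcT : c ∈ CS ρ (T : Subgroup L)) (hc1 : c ≠ 1) : c = p := by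
  obtain ⟨x, hx, hx3⟩ := h.exists_x
  have h1 := (h.orb_eq hx hx3).1
  have hxp : ρ x p = p := h.par.cent x hx p h.pT
  have hxx : x * x * x = 1 := by
    have := pow_orderOf_eq_one x
    rwa [hx3, pow_succ, pow_two] at this
  have hq1 := h.not_mem hx hx3
  have hqS : ρ y p ∈ h.fourV.sub := Or.inr (Or.inr (Or.inl rfl))
  have hcO : c ∈ h.orb := hc.resolve_left hc1
  rw [h1] at hcO
  have hfix : ρ x c = c := h.par.cent x hx c hcT
  have key : ρ x (ρ y p) = ρ y p → c = p := fun h2 => absurd (by rw [h2]; exact hqS) hq1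
  have hcan : ∀ v w : V, p * v = p * w → v = w := fun v w => mul_left_cancel
  simp only [Set.mem_insert_iff, Set.mem_singleton_iff] at hcO
  rcases hcO with h2 | h2 | h2 | h2 | h2 | h2 | h2
  · exact h2
  · rw [h2] at hfix; exact key hfix
  · rw [h2, map_mul, hxp] at hfix; exact key (hcan _ _ hfix)
  · rw [h2] at hfix; exact key ((ρ x).injective hfix)
  · rw [h2, map_mul, hxp] at hfix; exact key ((ρ x).injective (hcan _ _ hfix))
  · rw [h2, map_mul, MulAut.mul_apply] at hfix
    exact key ((ρ x).injective ((ρ x).injective hfix))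
  · rw [h2, map_mul, hxp, map_mul, MulAut.mul_apply] at hfix
    exact key ((ρ x).injective ((ρ x).injective (hcan _ _ hfix)))

theorem H_le : h.fourV.sub ≤ h.nat := by
  rintro v (rfl | rfl | rfl | rfl)
  · exact one_mem _
  · exact h.p_mem
  · exact h.nat_apply h.p_mem y
  · exact mul_mem h.p_mem (h.nat_apply h.p_mem y)

theorem H_le_CS : h.fourV.sub ≤ CS ρ A := by
  have hp : p ∈ CS ρ A := CS_anti h.le h.pT
  rintro v (rfl | rfl | rfl | rfl)
  · exact one_mem _
  · exact hp
  · exact CS_stable h.yN hp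
  · exact mul_mem hp (CS_stable h.yN hp)

/-- `L` acts faithfully on `nat` -/
theorem faith {x : L} (hx : ∀ n ∈ h.nat, ρ x n = n) : x = 1 := by
  have hs := h.simp
  have hinv : ∀ n ∈ (⊤ : Subgroup L), ∀ w ∈ h.nat, ρ n w ∈ h.nat := fun n _ w hw => h.nat_apply hw n
  rcases (inferInstance : ((res ρ ⊤ h.nat hinv).comp (Subgroup.topEquiv (G := L)).symm.toMonoidHom).ker.Normal).eq_bot_or_eq_top with h4 | h4
  · rw [← mem_bot, ← h4, MonoidHom.mem_ker]
    apply MulEquiv.ext
    intro n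
    exact Subtype.ext (hx n n.2)
  · exfalso
    have h5 : y ∈ ((res ρ ⊤ h.nat hinv).comp (Subgroup.topEquiv (G := L)).symm.toMonoidHom).ker := by
      rw [h4]; exact mem_top y
    rw [MonoidHom.mem_ker] at h5
    have h6 := congrArg (fun φ : MulAut h.nat => ((φ ⟨p, h.p_mem⟩ : h.nat) : V)) h5
    exact h.q_ne h6

/-- all automorphisms of `nat` are induced by `L` -/
theorem full (φ : MulAut h.nat) : ∃ x : L, ∀ n : h.nat, ((φ n : h.nat) : V) = ρ x n := by
  have hinv' : ∀ n ∈ (⊤ : Subgroup L), ∀ w ∈ h.nat, ρ n w ∈ h.nat := fun n _ w hw => h.nat_apply hw n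
  have hinj : Function.Injective (res ρ ⊤ h.nat hinv') := by
    rw [injective_iff_map_eq_one]
    intro x hx
    apply Subtype.ext
    apply h.faith
    intro n hn
    exact congrArg (fun φ : MulAut h.nat => ((φ ⟨n, hn⟩ : h.nat) : V)) hx
  have h168 : Nat.card (MulAut h.nat) = 168 :=
    Cfsg.Agent.GH.EFrameAct.card_mulAut_eight (fun x => by rw [pow_two]; exact Subtype.ext (h.sq x)) h.card_nat
  have hfin : Finite (MulAut h.nat) := Nat.finite_of_card_ne_zero (by omega)
  have hbij := (Nat.bijective_iff_injective_and_card (res ρ ⊤ h.nat hinv')).2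
    ⟨hinj, by rw [h168, Subgroup.card_top, h.l32.card]⟩
  obtain ⟨x, hx⟩ := hbij.2 φ
  refine ⟨x, fun n => ?_⟩
  rw [← hx]
  rfl

/-- `C_nat(A)` is the plane -/
theorem inf_CS : h.nat ⊓ CS ρ A = h.fourV.sub := by
  symm
  apply Subgroup.eq_of_le_of_card_ge (le_inf h.H_le h.H_le_CS)
  rw [card_sub h.fourV]
  have h1 : Nat.card (h.nat ⊓ CS ρ A : Subgroup V) ∣ 8 := by
    rw [← h.card_nat]; exact Subgroup.card_dvd_of_le inf_le_left
  have h2 : Nat.card (h.nat ⊓ CS ρ A : Subgroup V) ≠ 8 := by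
    intro h2
    have h3 : h.nat ⊓ CS ρ A = h.nat := Subgroup.eq_of_le_of_card_ge inf_le_left (by rw [h2, h.card_nat])
    obtain ⟨a, ha, ha1, -⟩ := h.four.exists_third 1
    apply ha1
    apply h.faith
    intro n hn
    rw [← h3] at hn
    exact hn.2 a ha
  have h3 : Nat.card (h.nat ⊓ CS ρ A : Subgroup V) ∈ Nat.divisors 8 := Nat.mem_divisors.2 ⟨h1, by norm_num⟩
  have h4 : Nat.divisors 8 = {1, 2, 4, 8} := by decide
  rw [h4] at h3
  simp only [Finset.mem_insert, Finset.mem_singleton] at h3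
  omega

theorem inf_fx {a : L} (ha : a ∈ A) (ha1 : a ≠ 1) : h.nat ⊓ fx ρ a = h.fourV.sub := by
  rw [h.fix a ha ha1, h.inf_CS]

/-- the centre of the transvection `z` -/
theorem mem_range {z : L} (hzA : z ∈ A) (hz1 : z ≠ 1) (hzT : ∀ t ∈ T, t * z = z * t) : p ∈ (cm ρ z).range := by
  obtain ⟨n, hn, hnH⟩ : ∃ n ∈ h.nat, n ∉ h.fourV.sub := by
    by_contra hcon
    push Not at hcon
    have h1 : h.nat ≤ h.fourV.sub := hcon
    have h2 := Subgroup.card_le_of_le h1
    rw [h.card_nat, card_sub h.fourV] at h2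
    omega
  have hnz : ρ z n ≠ n := by
    intro h1
    apply hnH
    rw [← h.inf_fx hzA hz1]
    exact ⟨hn, h1⟩
  -- `[n', z] = [n, z]` for `n' ∉ H`
  have hrel : h.fourV.sub.relIndex h.nat = 2 := by
    have h1 := ZN.Block.card_mul_relIndex' h.H_le
    rw [card_sub h.fourV, h.card_nat] at h1
    omega
  have hcm : ∀ n' ∈ h.nat, n' ∉ h.fourV.sub → cm ρ z n' = cm ρ z n := by
    intro n' hn' hn'H
    have h1 : n'⁻¹ * n ∈ h.fourV.sub := by
      rw [Subgroup.relIndex] at hrel
      have h2 := (Subgroup.mul_mem_iff_of_index_two hrel (a := (⟨n'⁻¹, inv_mem hn'⟩ : h.nat)) (b := ⟨n, hn⟩)).2 (by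
        rw [mem_subgroupOf, mem_subgroupOf]
        constructor
        · intro h4; exact absurd (inv_mem_iff.1 h4) hn'H
        · intro h4; exact absurd h4 hnH)
      exact h2
    have h2 : cm ρ z (n'⁻¹ * n) = 1 := by
      rw [cm_apply, mul_inv_eq_one]
      rw [← h.inf_fx hzA hz1] at h1
      exact h1.2
    rw [map_mul, map_inv] at h2
    exact (inv_mul_eq_one.1 h2)
  have hw : cm ρ z n = p := by
    refine h.eq_p ?_ ?_ ?_
    · rw [cm_apply]; exact mul_mem (h.nat_apply hn z) (inv_mem hn)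
    · intro t ht
      have h1 : ρ t (cm ρ z n) = cm ρ z (ρ t n) := by
        rw [cm_apply, cm_apply, map_mul, map_inv, ← MulAut.mul_apply, ← MulAut.mul_apply, ← map_mul, ← map_mul, hzT t ht]
      rw [h1]
      refine hcm _ (h.nat_apply hn t) fun h2 => hnH ?_
      have h3 := h.N_H (h.T_le (inv_mem ht)) h2
      rwa [← MulAut.mul_apply, ← map_mul, inv_mul_cancel, map_one, MulAut.one_apply] at h3
    · rw [cm_apply, Ne, mul_inv_eq_one]; exact hnz
  exact ⟨n, hw⟩

end Pt

end Cfsg.Agent.OddCyclic.L32
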