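import Cfsg.Agent.OddCyclic.L32.Ex
import Cfsg.Agent.OddCyclic.L32.Mod
import Cfsg.Agent.OddCyclic.RedSevenX
import Cfsg.Agent.OddCyclic.RedAct
import Cfsg.Agent.Lib.SylowNormalInf

/-!
# S0342, (C2), [Bc] section 1: the action of `L` on `Y`

`Lev S X T Y L₀ L`: `X` of type `bc` with component `L`. `QR`: the group `H` induced by `X` on `Y`, its normal subgroup
`K = L₃(2)`, the Sylow 2-subgroup `TQ` of `K` and its four-groups `A` (image of `J`) and `B`.
-/

set_option autoImplicit false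
set_option linter.unusedSectionVars false

namespace Cfsg.Agent.OddCyclic.L32

open Subgroup Cfsg Cfsg.Agent.ZN Cfsg.Agent.MinSimple Cfsg.Agent.OddCyclic.UniStruct
open Cfsg.Agent.ZN.Block (o2_isPGroup conj_mem_of_normalizer conj_mem_of_normalizer' le_normalizer_of_forall)
open Cfsg.Agent.OddCyclic.T1Defs (OddCyc)
open Cfsg.Agent.OddCyclic.RedTy Cfsg.Agent.OddCyclic.RedRep Cfsg.Agent.OddCyclic.RedSevenX
open Cfsg.Agent.OddCyclic.FFBasic Cfsg.Agent.OddCyclic.FFRed Cfsg.Agent.OddCyclic.FFSl2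
open Cfsg.Agent.OddCyclic.FFThree Cfsg.Agent.OddCyclic.RedSevenA Cfsg.Agent.OddCyclic.T1Module

universe u

variable {G : Type u} [Group G]

/-- `X` of type `bc` with component `L` -/
structure Lev [Finite G] (S : Sylow 2 G) (X T Y L₀ L : Subgroup G) : Prop where
  yc : YC X T Y
  bc : BcY X T Y L₀
  bau : bau (S : Subgroup G) ≤ T
  cmp : Cmp S X Y L₀ L

structure QR [Finite G] (S : Sylow 2 G) (X T Y L : Subgroup G) {H V : Type u} [Group H] [CommGroup V] (r : X →* H)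
    (ρ : H →* MulAut V) (ι : V →* G) (K : Subgroup H) (TQ : Sylow 2 K) (A B : Subgroup K) : Prop where
  rep : Rep X Y r ρ ι
  sq : ∀ v : V, v * v = 1
  norm : K.Normal
  K_eq : K = img r L
  ker : ∀ l : X, (l : G) ∈ L → r l = 1 → (l : G) ∈ o2 L
  l32 : L32 K
  simp : IsSimpleGroup K
  TQ_mem : ∀ k : K, k ∈ TQ ↔ (k : H) ∈ img r T
  J_le : img r (jj (S : Subgroup G)) ≤ K
  A_mem : ∀ k : K, k ∈ A ↔ (k : H) ∈ img r (jj (S : Subgroup G))
  four : IsFour A
  le : A ≤ TQ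
  fix : ∀ a ∈ A, a ≠ 1 → fx (ρ.comp K.subtype) a = CS (ρ.comp K.subtype) A
  par : Par (ρ.comp K.subtype) TQ A B

variable [Finite G] {S : Sylow 2 G} {X T Y L₀ L : Subgroup G}

theorem Lev.jj_eq (h : Lev S X T Y L₀ L) : jj T = jj (S : Subgroup G) := SamePt.jj_eq S h.yc.two h.bau

theorem Lev.exists_qr (h : Lev S X T Y L₀ L) :
    ∃ (H V : Type u) (_ : Group H) (_ : CommGroup V) (_ : Finite H) (_ : Finite V) (r : X →* H)
      (ρ : H →* MulAut V) (ι : V →* G) (K : Subgroup H) (TQ : Sylow 2 K) (A B : Subgroup K),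
      QR S X T Y L r ρ ι K TQ A B := by
  have hf2 : Fact (Nat.Prime 2) := ⟨Nat.prime_two⟩
  obtain ⟨H, V, i1, i2, i3, i4, ρ, r, ι, had⟩ := RedAct.exists_ad h.yc
  have hr : Rep X Y r ρ ι :=
    { surj := had.surj
      inj := had.inj
      iinj := had.ιinj
      range := by
        ext g
        constructor
        · rintro ⟨w, rfl⟩; exact had.mem w
        · intro hg
          obtain ⟨w, hw⟩ := had.ex g hg
          exact ⟨w, hw⟩
      act := had.act }
  have hLX := h.cmp.cp.le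
  have hLn : X ≤ normalizer (L : Set G) := h.cmp.cp.norm
  have hJT := h.jj_eq
  have hTX := h.yc.TX
  have hJX : jj (S : Subgroup G) ≤ X := by rw [← hJT]; exact (jj_le T).trans hTX
  obtain ⟨K, hK⟩ : ∃ K : Subgroup H, K = img r L := ⟨_, rfl⟩
  have hKn : K.Normal := by
    rw [hK]
    have h1 : (L.subgroupOf X).Normal := normal_subgroupOf_of_le_normalizer hLn
    exact h1.map r hr.surj
  have hker : ∀ l : X, (l : G) ∈ L → r l = 1 → (l : G) ∈ o2 L := by
    intro l hl h1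
    rw [← h.cmp.inf]
    exact ⟨hl, (cent_iff hr).1 h1⟩
  have hL₀K : img r L₀ ≤ K := by
    intro k hk
    obtain ⟨x, hx, rfl⟩ := mem_img.1 hk
    obtain ⟨l, hl, c, hc, he⟩ := h.cmp.sup x hx
    rw [hK]
    refine mem_img.2 ⟨⟨l, hLX hl⟩, hl, ?_⟩
    have h1 : x = ⟨l, hLX hl⟩ * ⟨c, hc.1⟩ := Subtype.ext he
    have h2 : r ⟨c, hc.1⟩ = 1 := (cent_iff hr (x := ⟨c, hc.1⟩)).2 hc.2
    rw [h1, map_mul, h2, mul_one]
  have hJK : img r (jj (S : Subgroup G)) ≤ K := by
    refine le_trans ?_ hL₀K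
    intro k hk
    obtain ⟨x, hx, rfl⟩ := mem_img.1 hk
    exact mem_img.2 ⟨x, h.bc.jj_le (by rw [hJT]; exact hx), rfl⟩
  -- `L → K`
  obtain ⟨f, hf⟩ : ∃ f : L →* K, ∀ l : L, ((f l : K) : H) = r ⟨l, hLX l.2⟩ := by
    refine ⟨(r.comp (Subgroup.inclusion hLX)).codRestrict K fun l => ?_, fun l => rfl⟩
    rw [hK]
    exact mem_img.2 ⟨⟨l, hLX l.2⟩, l.2, rfl⟩
  have hfs : Function.Surjective f := by
    rintro ⟨k, hk⟩
    rw [hK] at hk
    obtain ⟨x, hx, hxk⟩ := mem_img.1 hk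
    exact ⟨⟨x, hx⟩, Subtype.ext (by rw [hf]; exact hxk)⟩
  have hfk : f.ker = pCore 2 L := by
    ext l
    rw [MonoidHom.mem_ker]
    constructor
    · intro h8
      have h9 : r ⟨l, hLX l.2⟩ = 1 := by rw [← hf, h8]; rfl
      obtain ⟨m, hm, hml⟩ := hker _ l.2 h9
      rwa [← Subtype.ext (show (m : G) = l from hml)]
    · intro h8
      have h9 : (l : G) ∈ o2 L := ⟨l, h8, rfl⟩
      rw [← h.cmp.inf] at h9
      apply Subtype.ext
      rw [hf]
      exact (cent_iff hr (x := ⟨(l : G), hLX l.2⟩)).2 h9.2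
  have e : L ⧸ pCore 2 L ≃* K := (QuotientGroup.quotientMulEquivOfEq hfk.symm).trans
    (QuotientGroup.quotientKerEquivOfSurjective f hfs)
  have hKs : IsSimpleGroup K := by
    have h1 : IsSimpleGroup (L ⧸ pCore 2 L) := h.cmp.sev.simp
    exact e.symm.isSimpleGroup
  have hKc : Nat.card K = 168 := by rw [← h.cmp.sev.card]; exact (Nat.card_congr e.toEquiv).symm
  have hl32 : L32 K := COneSeven.l32 hKs hKc
  -- the Sylow subgroup
  have hTp : IsPGroup 2 (img r T) := (h.yc.two.comap_subtype (K := X)).map r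
  have hTi : ¬ 2 ∣ (img r T).index := fun h3 => h.yc.syl (h3.trans (Subgroup.index_map_dvd _ hr.surj))
  obtain ⟨TH, hTH⟩ : ∃ TH : Sylow 2 H, (TH : Subgroup H) = img r T := ⟨hTp.toSylow hTi, rfl⟩
  obtain ⟨TQ, hTQ⟩ : ∃ TQ : Sylow 2 K, ∀ k : K, k ∈ TQ ↔ (k : H) ∈ img r T := by
    refine ⟨(Lib.SylowNormalInf.isPGroup_subgroupOf TH K).toSylow (Lib.SylowNormalInf.not_dvd_relIndex TH K), ?_⟩
    intro k
    rw [← hTH]
    exact Iff.rfl
  obtain ⟨A, hA⟩ : ∃ A : Subgroup K, ∀ k : K, k ∈ A ↔ (k : H) ∈ img r (jj (S : Subgroup G)) :=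
    ⟨(img r (jj (S : Subgroup G))).subgroupOf K, fun k => Iff.rfl⟩
  have hfour : IsFour A := by
    refine ⟨?_, ?_⟩
    · have h1 := relIndex_cent hr hJX
      rw [← hJT, h.bc.four, hJT] at h1
      have h2 : A = (img r (jj (S : Subgroup G))).subgroupOf K := by
        ext k; exact hA k
      rw [h2, Nat.card_congr (Subgroup.subgroupOfEquivOfLe hJK).toEquiv, ← h1]
    · intro a ha
      obtain ⟨x, hx, hxa⟩ := mem_img.1 ((hA a).1 ha)
      -- `J = A₀ C`
      obtain ⟨A₀, hA₀, hA₀Y⟩ : ∃ A₀ ∈ ChoiceBase.AA T, ¬ A₀ ≤ centralizer (Y : Set G) := by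
        by_contra hcon
        push Not at hcon
        have h1 : jj T ≤ centralizer (Y : Set G) := by
          rw [ChoiceBase.jj_eq]
          exact sSup_le hcon
        have h2 := h.bc.four
        rw [inf_eq_left.2 h1, Subgroup.relIndex_self] at h2
        norm_num at h2
      have h1 := (h.bc.img A₀ hA₀).resolve_left hA₀Y
      have hA₀X : A₀ ≤ X := (ChoiceBase.le_jj hA₀).trans ((jj_le T).trans hTX)
      have hn : A₀ ≤ normalizer ((X ⊓ centralizer (Y : Set G) : Subgroup G) : Set G) := by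
        refine le_normalizer_of_forall fun g hg c hc => ⟨X.mul_mem (X.mul_mem (hA₀X hg) hc.1) (X.inv_mem (hA₀X hg)), ?_⟩
        refine mem_centralizer_iff.2 fun y hy => ?_
        have h9 := mem_centralizer_iff.1 hc.2 _ (conj_mem_of_normalizer' h.yc.nor (hA₀X hg) hy)
        calc y * (g * c * g⁻¹) = g * ((g⁻¹ * y * g) * c) * g⁻¹ := by group
          _ = g * (c * (g⁻¹ * y * g)) * g⁻¹ := by rw [h9]
          _ = g * c * g⁻¹ * y := by group
      obtain ⟨b, hb, c, hc, he⟩ := exists_mul_of_mem_sup hn (h1 (by rw [hJT]; exact hx))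
      have h2 : r x = r ⟨b, hA₀X hb⟩ := by
        have h3 : x = ⟨b, hA₀X hb⟩ * ⟨c, hc.1⟩ := Subtype.ext he
        have h4 : r ⟨c, hc.1⟩ = 1 := (cent_iff hr (x := ⟨c, hc.1⟩)).2 hc.2
        rw [h3, map_mul, h4, mul_one]
      have h3 : b * b = 1 := by
        have := (ChoiceBase.mem_AA_iff.1 hA₀).1
        have h4 := this.2 b hb
        rwa [pow_two] at h4
      apply Subtype.ext
      show (a : H) * a = 1
      rw [← hxa, h2, ← map_mul]
      have h4 : (⟨b, hA₀X hb⟩ * ⟨b, hA₀X hb⟩ : X) = 1 := Subtype.ext h3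
      rw [h4, map_one]
  have hle : A ≤ TQ := by
    intro a ha
    rw [SetLike.mem_coe.symm]
    refine (hTQ a).2 ?_
    obtain ⟨x, hx, hxa⟩ := mem_img.1 ((hA a).1 ha)
    exact mem_img.2 ⟨x, jj_le T (by rw [hJT]; exact hx), hxa⟩
  have hfix : ∀ a ∈ A, a ≠ 1 → fx (ρ.comp K.subtype) a = CS (ρ.comp K.subtype) A := by
    intro a ha ha1
    apply le_antisymm
    · intro v hv b hb
      obtain ⟨x, hx, hxa⟩ := mem_img.1 ((hA a).1 ha)
      obtain ⟨z, hz, hzb⟩ := mem_img.1 ((hA b).1 hb)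
      show ρ (b : H) v = v
      rw [← hzb, hr.fix]
      refine h.bc.fix x (by rw [hJT]; exact hx) ?_ _ (hr.mem v) ?_ z (by rw [hJT]; exact hz)
      · intro h1
        apply ha1
        apply Subtype.ext
        rw [← hxa]
        exact (cent_iff hr).2 h1
      · rw [← hr.fix, hxa]; exact hv
    · exact CS_le_fx ha
  obtain ⟨B, hB⟩ := FFThree.par hl32 TQ hfour hle hfix
  exact ⟨H, V, i1, i2, i3, i4, r, ρ, ι, K, TQ, A, B,
    { rep := hr, sq := had.sq, norm := hKn, K_eq := hK, ker := hker, l32 := hl32, simp := hKs, TQ_mem := hTQ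
      J_le := hJK, A_mem := hA, four := hfour, le := hle, fix := hfix, par := hB }⟩

end Cfsg.Agent.OddCyclic.L32
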