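import Cfsg.Agent.OddCyclic.L32.LevX
import Cfsg.Agent.OddCyclic.L32.FixP
import Cfsg.Agent.OddCyclic.T1Structure

/-!
# S0342, (C2), [Bc] section 1: the natural module `N ⊴ X`

`Lev.exists_nt`: `X` of type `bc`, `L` its component, `z ∈ Ω₁Z(T)` not centralised by `L`, `x ∈ N_L(J)` of order 3: there
are `p`, `w ∈ Ω₁Z(T)` with `z = p w`, `[L, w] = 1` and `N = {1} ∪ p^L ≤ Y` of order 8, normal in `X`.
-/

set_option autoImplicit false
set_option linter.unusedSectionVars false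

namespace Cfsg.Agent.OddCyclic.L32

open Subgroup Cfsg Cfsg.Agent.ZN Cfsg.Agent.MinSimple Cfsg.Agent.OddCyclic.UniStruct
open Cfsg.Agent.ZN.Block (o2_isPGroup conj_mem_of_normalizer conj_mem_of_normalizer' le_normalizer_of_forall)
open Cfsg.Agent.OddCyclic.T1Defs (OddCyc)
open Cfsg.Agent.OddCyclic.RedTy Cfsg.Agent.OddCyclic.RedRep Cfsg.Agent.OddCyclic.RedSevenX
open Cfsg.Agent.OddCyclic.FFBasic Cfsg.Agent.OddCyclic.FFRed Cfsg.Agent.OddCyclic.FFSl2
open Cfsg.Agent.OddCyclic.FFThree Cfsg.Agent.OddCyclic.RedSevenA Cfsg.Agent.OddCyclic.T1Module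

universe u

/-- the natural module `N` of `X`, its point `p`, the element `x` of order 3 of `N_L(J)` -/
structure Nt {G : Type u} [Group G] [Finite G] (S : Sylow 2 G) (X T Y L N : Subgroup G) (p x : G) : Prop where
  card : Nat.card N = 8
  sq : ∀ n ∈ N, n * n = 1
  comm : ∀ n ∈ N, ∀ m ∈ N, n * m = m * n
  le : N ≤ Y
  norm : X ≤ normalizer (N : Set G)
  full : ∀ φ : MulAut N, ∃ l ∈ L, ∀ n : N, ((φ n : N) : G) = l * n * l⁻¹
  faith : L ⊓ centralizer (N : Set G) = o2 L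
  mem : ∀ n, n ∈ N ↔ n = 1 ∨ ∃ l ∈ L, n = l * p * l⁻¹
  pN : p ∈ N
  p1 : p ≠ 1
  pT : ∀ t ∈ T, t * p = p * t
  eq_p : ∀ n ∈ N, n ≠ 1 → (∀ t ∈ T, t * n = n * t) → n = p
  xL : x ∈ L
  x3 : x ^ 3 = 1
  xJ : x ∈ normalizer (jj (S : Subgroup G) : Set G)
  xp : x * p ≠ p * x
  sum : p * (x * p * x⁻¹) * (x * x * p * (x * x)⁻¹) = 1
  plane : ∀ n ∈ N, (∀ j ∈ jj (S : Subgroup G), j * n = n * j) ↔
    n = 1 ∨ n = p ∨ n = x * p * x⁻¹ ∨ n = p * (x * p * x⁻¹)
  ax : ∀ j ∈ jj (S : Subgroup G), (∃ n ∈ N, j * n ≠ n * j) → ∀ n ∈ N, j * n = n * j →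
    ∀ i ∈ jj (S : Subgroup G), i * n = n * i
  jc : jj (S : Subgroup G) ⊓ centralizer (N : Set G) ≤ centralizer (Y : Set G)

variable {G : Type u} [Group G] [Finite G] {S : Sylow 2 G} {X T Y L₀ L : Subgroup G}
variable {H V : Type u} [Group H] [CommGroup V] [Finite H] [Finite V] {r : X →* H} {ρ : H →* MulAut V} {ι : V →* G}
  {K : Subgroup H} {TQ : Sylow 2 K} {A B : Subgroup K}

theorem QR.mem_K (h : Lev S X T Y L₀ L) (q : QR S X T Y L r ρ ι K TQ A B) {l : G} (hl : l ∈ L) :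
    r ⟨l, h.cmp.cp.le hl⟩ ∈ K := by rw [q.K_eq]; exact mem_img.2 ⟨_, hl, rfl⟩

theorem QR.exists_l (q : QR S X T Y L r ρ ι K TQ A B) (k : K) : ∃ l : X, (l : G) ∈ L ∧ r l = k :=
  mem_img.1 (q.K_eq ▸ k.2 : (k : H) ∈ img r L)

theorem mem_normalizer_map {H : Type*} [Group H] {K : Subgroup H} {A : Subgroup K} {k : K} :
    (k : H) ∈ normalizer ((A.map K.subtype : Subgroup H) : Set H) ↔ k ∈ normalizer (A : Set K) := by
  have hmemF : ∀ k : K, (k : H) ∈ A.map K.subtype ↔ k ∈ A := by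
    intro k
    constructor
    · rintro ⟨a, ha, hak⟩
      have : a = k := Subtype.ext hak
      rw [← this]; exact ha
    · exact fun hk => ⟨k, hk, rfl⟩
  constructor
  · intro hk
    rw [mem_normalizer_iff]
    intro a
    rw [← hmemF, ← hmemF]
    exact mem_normalizer_iff.1 hk a
  · intro hk
    rw [mem_normalizer_iff]
    intro f
    constructor
    · rintro ⟨a, ha, rfl⟩
      exact ⟨k * a * k⁻¹, (mem_normalizer_iff.1 hk a).1 ha, rfl⟩
    · rintro ⟨a, ha, hae⟩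
      have h1 := (mem_normalizer_iff.1 (inv_mem hk) a).1 ha
      refine ⟨_, h1, ?_⟩
      show (k : H)⁻¹ * (a : H) * (k : H)⁻¹⁻¹ = f
      have h2 : (a : H) = k * f * (k : H)⁻¹ := hae
      rw [h2]; group

/-- `Bs` for all elements of order 3 of `N_L(J)` -/
theorem QR.bs_of (h : Lev S X T Y L₀ L) (q : QR S X T Y L r ρ ι K TQ A B) {x : G} (hxL : x ∈ L) (hx3 : x ^ 3 = 1)
    (hx1 : x ≠ 1) (hxJ : x ∈ normalizer (jj (S : Subgroup G) : Set G)) :
    Bs (ρ.comp K.subtype) TQ A B ⟨r ⟨x, h.cmp.cp.le hxL⟩, q.mem_K h hxL⟩ := by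
  have hf3 : Fact (Nat.Prime 3) := ⟨Nat.prime_three⟩
  obtain ⟨y, hy⟩ : ∃ y : K, y = ⟨r ⟨x, h.cmp.cp.le hxL⟩, q.mem_K h hxL⟩ := ⟨_, rfl⟩
  rw [← hy]
  have hyv : (y : H) = r ⟨x, h.cmp.cp.le hxL⟩ := by rw [hy]
  have hN : y ∈ normalizer (A : Set K) := by
    rw [mem_normalizer_iff]
    intro a
    rw [q.A_mem, q.A_mem]
    constructor
    · intro ha
      obtain ⟨j, hj, hja⟩ := mem_img.1 ha
      refine mem_img.2 ⟨⟨x, h.cmp.cp.le hxL⟩ * j * ⟨x, h.cmp.cp.le hxL⟩⁻¹,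
        (mem_normalizer_iff.1 hxJ j).1 hj, ?_⟩
      rw [map_mul, map_mul, map_inv, hja, ← hyv]; rfl
    · intro ha
      obtain ⟨j, hj, hja⟩ := mem_img.1 ha
      refine mem_img.2 ⟨⟨x, h.cmp.cp.le hxL⟩⁻¹ * j * ⟨x, h.cmp.cp.le hxL⟩, ?_, ?_⟩
      · have := (mem_normalizer_iff.1 (inv_mem hxJ) j).1 hj
        rwa [inv_inv] at this
      · rw [map_mul, map_mul, map_inv, hja, ← hyv]
        show (y : H)⁻¹ * ((y : H) * a * (y : H)⁻¹) * y = a
        group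
  have hy1 : y ≠ 1 := by
    intro h1
    have h2 : r ⟨x, h.cmp.cp.le hxL⟩ = 1 := by rw [← hyv, h1]; rfl
    have h3 := q.ker _ hxL h2
    obtain ⟨n, hn⟩ := o2_isPGroup L ⟨x, h3⟩
    have h4 : x ^ 2 ^ n = 1 := congrArg Subtype.val hn
    have h5 : orderOf x = 3 := orderOf_eq_prime hx3 hx1
    have h6 : 3 ∣ 2 ^ n := h5 ▸ orderOf_dvd_of_pow_eq_one h4
    have := (Nat.prime_dvd_prime_iff_eq Nat.prime_three Nat.prime_two).1 (Nat.prime_three.dvd_of_dvd_pow h6)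
    norm_num at this
  have hy3 : orderOf y = 3 := by
    refine orderOf_eq_prime ?_ hy1
    apply Subtype.ext
    show (y : H) ^ 3 = 1
    rw [hyv, ← map_pow]
    have : (⟨x, h.cmp.cp.le hxL⟩ : X) ^ 3 = 1 := Subtype.ext hx3
    rw [this, map_one]
  exact { l32 := q.l32, simp := q.simp, sq := q.sq, four := q.four, le := q.le, fix := q.fix, par := q.par
          yN := hN, y3 := hy3 }

/-- an element of order 3 of `N_L(J)` -/
theorem Lev.exists_x (h : Lev S X T Y L₀ L) :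
    ∃ x : G, x ∈ L ∧ x ^ 3 = 1 ∧ x ≠ 1 ∧ x ∈ normalizer (jj (S : Subgroup G) : Set G) := by
  obtain ⟨H, V, _, _, _, _, r, ρ, ι, K, TQ, A, B, q⟩ := h.exists_qr
  obtain ⟨x, y, hxL, hx3, hxJ, hy, hb⟩ := q.exists_x h
  refine ⟨x, hxL, hx3, ?_, hxJ⟩
  intro h1
  have h2 : x = 1 := Subtype.ext h1
  rw [h2, map_one] at hy
  have h3 := hb.y3
  have h4 : y = 1 := Subtype.ext hy
  rw [h4, orderOf_one] at h3
  norm_num at h3

theorem Lev.exists_nt (h : Lev S X T Y L₀ L) (hc : OddCyc G) {x : G} (hxL : x ∈ L) (hx3 : x ^ 3 = 1) (hx1 : x ≠ 1)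
    (hxJ : x ∈ normalizer (jj (S : Subgroup G) : Set G)) {z : G} (hz : z ∈ zc T) (hzL : ∃ l ∈ L, l * z ≠ z * l) :
    ∃ (N : Subgroup G) (p w : G), Nt S X T Y L N p x ∧ w ∈ Y ∧ z = p * w ∧ (∀ l ∈ L, l * w = w * l) ∧
      ∀ t ∈ T, t * w = w * t := by
  have hf3 : Fact (Nat.Prime 3) := ⟨Nat.prime_three⟩
  obtain ⟨H, V, i1, i2, i3, i4, r, ρ, ι, K, TQ, A, B, q⟩ := h.exists_qr
  have hLX : L ≤ X := h.cmp.cp.le
  have hTX := h.yc.TX
  have hJT := h.jj_eq
  have hJX : jj (S : Subgroup G) ≤ X := by rw [← hJT]; exact (jj_le T).trans hTX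
  obtain ⟨y, hy⟩ : ∃ y : K, y = ⟨r ⟨x, h.cmp.cp.le hxL⟩, q.mem_K h hxL⟩ := ⟨_, rfl⟩
  have hyv : (y : H) = r ⟨x, hLX hxL⟩ := by rw [hy]
  have hb : Bs (ρ.comp K.subtype) TQ A B y := by rw [hy]; exact q.bs_of h hxL hx3 hx1 hxJ
  -- `z = ι v`
  obtain ⟨v, hv⟩ := q.rep.exists_v (h.yc.zc_le hz)
  have hzT : ∀ t ∈ T, t * z = z * t := fun t ht => Block.zc_comm ht hz
  have hvT : ∀ t : X, (t : G) ∈ T → ρ (r t) v = v := by
    intro t ht
    rw [q.rep.fix, hv]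
    exact hzT t ht
  have hvQ : v ∈ CS (ρ.comp K.subtype) (TQ : Subgroup K) := by
    intro k hk
    obtain ⟨t, ht, htk⟩ := mem_img.1 ((q.TQ_mem k).1 hk)
    show ρ (k : H) v = v
    rw [← htk]
    exact hvT t ht
  have hvL : v ∉ CS (ρ.comp K.subtype) (⊤ : Subgroup K) := by
    intro h1
    obtain ⟨l, hl, hlz⟩ := hzL
    apply hlz
    have h2 : ρ (r ⟨l, hLX hl⟩) v = v := h1 ⟨_, q.mem_K h hl⟩ (mem_top _)
    rw [q.rep.fix, hv] at h2
    exact h2
  -- `N_X(J)` induces `N_H(A)`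
  have hNJ : ∀ g : X, (g : G) ∈ normalizer (jj (S : Subgroup G) : Set G) →
      r g ∈ normalizer ((A.map K.subtype : Subgroup H) : Set H) := by
    intro g hg
    rw [← q.img_eq, mem_normalizer_iff]
    intro b
    constructor
    · intro hb
      obtain ⟨j, hj, rfl⟩ := mem_img.1 hb
      exact mem_img.2 ⟨g * j * g⁻¹, (mem_normalizer_iff.1 hg j).1 hj, by rw [map_mul, map_mul, map_inv]⟩
    · intro hb
      obtain ⟨j, hj, hjb⟩ := mem_img.1 hb
      refine mem_img.2 ⟨g⁻¹ * j * g, ?_, ?_⟩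
      · have := (mem_normalizer_iff.1 (inv_mem hg) j).1 hj
        rwa [inv_inv] at this
      · rw [map_mul, map_mul, map_inv, hjb]; group
  have hTN : T ≤ normalizer (jj (S : Subgroup G) : Set G) :=
    EmptyTI.le_normalizer_jj S h.yc.two (by rw [← hJT]; exact jj_le T)
  have hTF : img r T ≤ normalizer ((A.map K.subtype : Subgroup H) : Set H) := by
    intro b hb
    obtain ⟨t, ht, rfl⟩ := mem_img.1 hb
    exact hNJ t (hTN ht)
  have hTp : IsPGroup 2 (img r T) := (h.yc.two.comap_subtype (K := X)).map r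
  have hTi : ¬ 2 ∣ (img r T).index := fun h3 => h.yc.syl (h3.trans (Subgroup.index_map_dvd _ q.rep.surj))
  -- `p`
  obtain ⟨pp, hpp⟩ : ∃ pp, pp = pv (ρ.comp K.subtype) y v := ⟨_, rfl⟩
  have hpp1 : pp ≠ 1 := by
    rw [hpp]
    intro h1
    exact hvL ((hb.pv_eq_one hvQ).1 h1)
  have hpt : Pt (ρ.comp K.subtype) TQ A B y pp :=
    hb.pt (by rw [hpp]; exact hb.pv_mem hvQ) hpp1 (by rw [hpp]; exact hb.pv_sum v)
  have hppT : ∀ b ∈ img r T, ρ b pp = pp := by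
    intro b hb'
    obtain ⟨t, ht, rfl⟩ := mem_img.1 hb'
    have h1 : r t * (y : H) * (r t)⁻¹ ∈ K := q.norm.conj_mem _ y.2 _
    rw [hpp]
    refine hb.pv_fix (g := ⟨_, h1⟩) ?_ ?_ (τ := ρ (r t)) ?_ (CS_anti hb.le hvQ) (hvT t ht)
    · rw [← mem_normalizer_map]
      exact mul_mem (mul_mem (hTF hb') (mem_normalizer_map.2 hb.yN))
        ((normalizer ((A.map K.subtype : Subgroup H) : Set H)).inv_mem (hTF hb'))
    · rw [← Subgroup.orderOf_coe, ← hb.y3, ← Subgroup.orderOf_coe]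
      show orderOf (r t * (y : H) * (r t)⁻¹) = _
      rw [← MulAut.conj_apply]
      exact orderOf_injective (MulAut.conj (r t)).toMonoidHom (MulAut.conj (r t)).injective _
    · intro w
      show ρ (r t) (ρ (y : H) w) = ρ (r t * (y : H) * (r t)⁻¹) (ρ (r t) w)
      rw [← MulAut.mul_apply, ← map_mul, ← MulAut.mul_apply, ← map_mul, inv_mul_cancel_right]
  obtain ⟨p, hp⟩ : ∃ p, p = ι pp := ⟨_, rfl⟩
  obtain ⟨w, hw⟩ : ∃ w, w = ι (rv (ρ.comp K.subtype) y v) := ⟨_, rfl⟩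
  obtain ⟨N, hN⟩ : ∃ N, N = hpt.nat.map ι := ⟨_, rfl⟩
  have hmN : ∀ m, ι m ∈ N ↔ m ∈ hpt.nat := by
    intro m
    rw [hN]
    exact ⟨fun ⟨a, ha, hae⟩ => q.rep.iinj hae ▸ ha, fun hm => ⟨m, hm, rfl⟩⟩
  have hNex : ∀ n ∈ N, ∃ m ∈ hpt.nat, ι m = n := by
    intro n hn
    rw [hN] at hn
    exact hn
  have hpT : ∀ t ∈ T, t * p = p * t := by
    intro t ht
    have h1 := hppT (r ⟨t, hTX ht⟩) (mem_img.2 ⟨_, ht, rfl⟩)
    rw [q.rep.fix, ← hp] at h1
    exact h1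
  have hppp : pp * rv (ρ.comp K.subtype) y v = v := by rw [hpp]; exact hb.mul_eq v
  have hpY : p ∈ Y := by rw [hp]; exact q.rep.mem _
  have hp2 : p ^ 2 = 1 := by rw [hp, ← map_pow, pow_two, q.sq, map_one]
  have hpzc : p ∈ zc T := by
    refine Block.mem_zc ?_ hpT hp2
    exact h.yc.toLoc.o2_le ((Block.zc_le _) (h.yc.le hpY))
  -- `N ⊴ X`
  have hacc : ∀ g : X, ρ (r g) pp ∈ hpt.nat → ∀ n ∈ N, (g : G) * n * (g : G)⁻¹ ∈ N := by
    intro g hg n hn
    obtain ⟨m, hm, rfl⟩ := hNex n hn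
    rw [← q.rep.act, hmN]
    exact natV_of_mem q.norm hpt hg hm
  have h3K : ∀ g : H, orderOf g = 3 → g ∈ K := by
    intro g hg
    have hcX : OddCyc X := CompBasic.oddCyc_subgroup hc X
    have hcH : OddCyc H := Cfsg.Agent.OddCyclic.T1Structure.oddCyc_of_surjective hcX r q.rep.surj
    exact CompBasic.mem_of_orderOf hcH Nat.prime_three (by norm_num) q.norm (by rw [q.l32.card]; norm_num) hg
  have hCA : (CS (ρ.comp K.subtype) A).index ≤ 4 := by
    have h1 : CS (ρ.comp K.subtype) A = (Y ⊓ centralizer (jj T : Set G)).comap ι := by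
      ext m
      rw [mem_comap, mem_inf, mem_centralizer_iff]
      constructor
      · intro hm
        refine ⟨q.rep.mem m, fun j hj => ?_⟩
        have hj' : j ∈ jj (S : Subgroup G) := by rw [← hJT]; exact hj
        have h2 : r ⟨j, hJX hj'⟩ ∈ img r (jj (S : Subgroup G)) := mem_img.2 ⟨_, hj', rfl⟩
        have h3 := hm ⟨_, q.J_le h2⟩ ((q.A_mem _).2 h2)
        exact (q.rep.fix (x := ⟨j, hJX hj'⟩)).1 h3
      · rintro ⟨-, hm⟩ a ha
        obtain ⟨j, hj, hja⟩ := mem_img.1 ((q.A_mem a).1 ha)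
        show ρ (a : H) m = m
        rw [← hja, q.rep.fix]
        exact hm j (by rw [hJT]; exact hj)
    rw [h1, Subgroup.index_comap, q.rep.range]
    rcases h.bc.index with h2 | h2 <;> omega
  have hidx : ∀ a ∈ A, a ≠ 1 → (fx (ρ.comp K.subtype) a).index ≤ 4 := by
    intro a ha ha1
    rw [q.fix a ha ha1]; exact hCA
  have hnorm : X ≤ normalizer (N : Set G) := by
    refine h.bc.gen.trans (sup_le ?_ ?_)
    · rw [le_normalizer_iff]
      intro g hg n hn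
      refine hacc ⟨g, hg.1⟩ ?_ n hn
      have h1 : ρ (r ⟨g, hg.1⟩) pp = pp := by
        rw [q.rep.fix, ← hp]
        exact (mem_centralizer_iff.1 hg.2 p hpzc).symm
      rw [h1]; exact hpt.p_mem
    · rw [le_normalizer_iff]
      intro g hg n hn
      refine hacc ⟨g, hg.1⟩ ?_ n hn
      refine apply_mem_nat q.norm hTp hTi q.TQ_mem hb h3K hidx hTF hppT hpt ?_
      exact hNJ ⟨g, hg.1⟩ (by rw [← hJT]; exact hg.2)
  have hact : ∀ {l : G} (hl : l ∈ L) (m : V), ι ((ρ.comp K.subtype) ⟨_, q.mem_K h hl⟩ m) = l * ι m * l⁻¹ := by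
    intro l hl m
    exact q.rep.act ⟨l, hLX hl⟩ m
  have hyact : ∀ m : V, ι ((ρ.comp K.subtype) y m) = x * ι m * x⁻¹ := by
    intro m
    rw [hy]
    exact hact hxL m
  have hyyact : ∀ m : V, ι ((ρ.comp K.subtype) (y * y) m) = x * x * ι m * (x * x)⁻¹ := by
    intro m
    rw [map_mul, MulAut.mul_apply, hyact, hyact]
    group
  have hmove : ∀ {g : X} {m : V}, (g : G) * ι m = ι m * g ↔ ρ (r g) m = m := fun {g m} => q.rep.fix.symm
  have hmemA : ∀ {j : G} (hj : j ∈ jj (S : Subgroup G)), ∃ a ∈ A, (a : H) = r ⟨j, hJX hj⟩ := by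
    intro j hj
    have h2 : r ⟨j, hJX hj⟩ ∈ img r (jj (S : Subgroup G)) := mem_img.2 ⟨_, hj, rfl⟩
    exact ⟨⟨_, q.J_le h2⟩, (q.A_mem _).2 h2, rfl⟩
  have hJfix : ∀ m : V, (∀ j ∈ jj (S : Subgroup G), j * ι m = ι m * j) ↔ m ∈ CS (ρ.comp K.subtype) A := by
    intro m
    constructor
    · intro h1 a ha
      obtain ⟨j, hj, hja⟩ := mem_img.1 ((q.A_mem a).1 ha)
      show ρ (a : H) m = m
      rw [← hja, ← hmove]
      exact h1 j hj
    · intro h1 j hj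
      obtain ⟨a, ha, haj⟩ := hmemA hj
      have h2 : ρ (a : H) m = m := h1 a ha
      rw [haj] at h2
      exact (hmove (g := ⟨j, hJX hj⟩)).2 h2
  have hnfix : ∀ {g : X}, (∀ n ∈ N, (g : G) * n = n * g) → r g ∈ K → r g = 1 := by
    intro g h1 hgK
    have h2 : (⟨r g, hgK⟩ : K) = 1 := by
      apply hpt.faith
      intro n hn
      exact hmove.1 (h1 _ ((hmN n).2 hn))
    exact congrArg Subtype.val h2
  refine ⟨N, p, w,
    { card := ?_, sq := ?_, comm := ?_, le := ?_, norm := hnorm, full := ?_, faith := ?_, mem := ?_, pN := ?_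
      p1 := ?_, pT := hpT, eq_p := ?_, xL := hxL, x3 := hx3, xJ := hxJ, xp := ?_, sum := ?_, plane := ?_
      ax := ?_, jc := ?_ }, ?_, ?_, ?_, ?_⟩
  · rw [hN, Subgroup.card_map_of_injective q.rep.iinj, hpt.card_nat]
  · intro n hn
    obtain ⟨m, hm, rfl⟩ := hNex n hn
    rw [← map_mul, q.sq, map_one]
  · intro n hn m hm
    obtain ⟨n, hn, rfl⟩ := hNex n hn
    obtain ⟨m, hm, rfl⟩ := hNex m hm
    rw [← map_mul, mul_comm, map_mul]
  · rw [hN]
    rintro _ ⟨m, hm, rfl⟩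
    exact q.rep.mem m
  · -- full
    intro φ
    have e : ∀ n : hpt.nat, ι n ∈ N := fun n => (hmN _).2 n.2
    obtain ⟨f, hf⟩ : ∃ f : hpt.nat ≃* N, ∀ n : hpt.nat, ((f n : N) : G) = ι n := by
      refine ⟨(hpt.nat.equivMapOfInjective ι q.rep.iinj).trans (MulEquiv.subgroupCongr hN.symm), fun n => rfl⟩
    obtain ⟨k, hk⟩ := hpt.full ((f.trans φ).trans f.symm)
    obtain ⟨l, hl, hlk⟩ := q.exists_l k
    refine ⟨l, hl, fun n => ?_⟩
    obtain ⟨m, rfl⟩ := f.surjective n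
    have h1 := hk m
    have h2 : f (((f.trans φ).trans f.symm) m) = φ (f m) := by
      show f (f.symm (φ (f m))) = φ (f m)
      exact f.apply_symm_apply _
    rw [← h2, hf, h1, hf]
    show ι (ρ (k : H) m) = _
    rw [← hlk, q.rep.act]
  · -- faith
    apply le_antisymm
    · intro l hl
      refine q.ker ⟨l, hLX hl.1⟩ hl.1 ?_
      exact hnfix (g := ⟨l, hLX hl.1⟩) (fun n hn => (mem_centralizer_iff.1 hl.2 n hn).symm) (q.mem_K h hl.1)
    · rw [← h.cmp.inf]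
      refine inf_le_inf le_rfl (centralizer_le ?_)
      rw [hN]
      rintro _ ⟨m, hm, rfl⟩
      exact q.rep.mem m
  · -- mem
    intro n
    constructor
    · intro hn
      obtain ⟨m, hm, rfl⟩ := hNex n hn
      rcases hpt.mem_nat.1 hm with h1 | ⟨k, rfl⟩
      · left; rw [h1, map_one]
      · right
        obtain ⟨l, hl, hlk⟩ := q.exists_l k
        refine ⟨l, hl, ?_⟩
        show ι (ρ (k : H) pp) = _
        rw [← hlk, q.rep.act, hp]
    · rintro (rfl | ⟨l, hl, rfl⟩)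
      · exact one_mem _
      · rw [hp, ← hact hl, hmN]
        exact hpt.nat_apply hpt.p_mem _
  · rw [hp, hmN]; exact hpt.p_mem
  · rw [hp]
    intro h1
    exact hpp1 (q.rep.iinj (by rw [h1, map_one]))
  · -- eq_p
    intro n hn hn1 hnT
    obtain ⟨m, hm, rfl⟩ := hNex n hn
    rw [hp]
    congr 1
    refine hpt.eq_p hm ?_ fun h1 => hn1 (by rw [h1, map_one])
    intro k hk
    obtain ⟨t, ht, htk⟩ := mem_img.1 ((q.TQ_mem k).1 hk)
    show ρ (k : H) m = m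
    rw [← htk, ← hmove]
    exact hnT t ht
  · -- xp
    intro h1
    apply hpt.q_ne
    apply q.rep.iinj
    rw [hyact, ← hp, h1, mul_inv_cancel_right]
  · -- sum
    have h1 := congrArg ι hpt.sum
    rw [map_mul, map_mul, hyact, hyyact, map_one, ← hp] at h1
    exact h1
  · -- plane
    intro n hn
    obtain ⟨m, hm, rfl⟩ := hNex n hn
    rw [hJfix]
    have h1 : m ∈ CS (ρ.comp K.subtype) A ↔ m ∈ hpt.fourV.sub := by
      rw [← hpt.inf_CS]
      exact ⟨fun h2 => ⟨hm, h2⟩, fun h2 => h2.2⟩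
    rw [h1, mem_sub hpt.fourV, hp, ← hyact, ← map_mul]
    constructor
    · rintro (h2 | h2 | h2 | h2)
      · left; rw [h2, map_one]
      · right; left; rw [h2]
      · right; right; left; rw [h2]
      · right; right; right; rw [h2]
    · rintro (h2 | h2 | h2 | h2)
      · left; exact q.rep.iinj (by rw [h2, map_one])
      · right; left; exact q.rep.iinj h2
      · right; right; left; exact q.rep.iinj h2
      · right; right; right; exact q.rep.iinj h2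
  · -- ax
    rintro j hj ⟨n', hn', hjn'⟩ n hn hjn
    obtain ⟨m, hm, rfl⟩ := hNex n hn
    obtain ⟨m', hm', rfl⟩ := hNex n' hn'
    rw [hJfix]
    obtain ⟨a, ha, haj⟩ := hmemA hj
    have ha1 : a ≠ 1 := by
      intro h1
      apply hjn'
      refine (hmove (g := ⟨j, hJX hj⟩)).2 ?_
      rw [← haj, h1]
      show ρ 1 m' = m'
      rw [map_one, MulAut.one_apply]
    rw [← q.fix a ha ha1]
    show ρ (a : H) m = m
    rw [haj]
    exact (hmove (g := ⟨j, hJX hj⟩)).1 hjn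
  · -- jc
    intro j hj
    have h1 : r ⟨j, hJX hj.1⟩ = 1 := by
      refine hnfix (g := ⟨j, hJX hj.1⟩) (fun n hn => (mem_centralizer_iff.1 hj.2 n hn).symm) ?_
      exact q.J_le (mem_img.2 ⟨_, hj.1, rfl⟩)
    exact (cent_iff q.rep).1 h1
  · rw [hw]; exact q.rep.mem _
  · rw [hp, hw, ← map_mul, hppp, hv]
  · intro l hl
    have h1 : ρ (r ⟨l, hLX hl⟩) (rv (ρ.comp K.subtype) y v) = rv (ρ.comp K.subtype) y v :=
      hb.rv_mem hvQ ⟨_, q.mem_K h hl⟩ (mem_top _)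
    rw [q.rep.fix, ← hw] at h1
    exact h1
  · intro t ht
    have h1 : ρ (r ⟨t, hTX ht⟩) (rv (ρ.comp K.subtype) y v) = rv (ρ.comp K.subtype) y v := by
      rw [rv, ← hpp, map_mul, hvT _ ht, hppT _ (mem_img.2 ⟨_, ht, rfl⟩)]
    rw [q.rep.fix, ← hw] at h1
    exact h1

end Cfsg.Agent.OddCyclic.L32
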