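import Cfsg.Agent.OddCyclic.L32.Mod

/-!
# S0342, (C2), [Bc] section 1: fixed points of the Sylow 2-subgroup of `L₃(2)`

`Bs ρ T A B y`: as `Pt`, without the point. For `v` fixed by `T`: `v = pv v · rv v`, `pv v = y v · y² v` is fixed by `T`
and `pv v · y (pv v) · y² (pv v) = 1`, `rv v` is fixed by `L`.
-/

set_option autoImplicit false
set_option linter.unusedSectionVars false

namespace Cfsg.Agent.OddCyclic.L32

open Subgroup
open Cfsg.Agent.GH.L2Aut Cfsg.Agent.OddCyclic.T1Module Cfsg.Agent.OddCyclic.FFBasic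
  Cfsg.Agent.OddCyclic.FFRed Cfsg.Agent.OddCyclic.FFSl2 Cfsg.Agent.OddCyclic.FFThree
  Cfsg.Agent.OddCyclic.COneSeven Cfsg.Agent.OddCyclic.RedSevenA Cfsg.Agent.OddCyclic.RedFam

variable {L : Type*} [Group L] [Finite L] {V : Type*} [CommGroup V] [Finite V] {ρ : L →* MulAut V}

structure Bs (ρ : L →* MulAut V) (T : Sylow 2 L) (A B : Subgroup L) (y : L) : Prop where
  l32 : L32 L
  simp : IsSimpleGroup L
  sq : ∀ v : V, v * v = 1
  four : IsFour A
  le : A ≤ T
  fix : ∀ a ∈ A, a ≠ 1 → fx ρ a = CS ρ A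
  par : Par ρ T A B
  yN : y ∈ normalizer (A : Set L)
  y3 : orderOf y = 3

theorem Bs.pt {T : Sylow 2 L} {A B : Subgroup L} {y : L} (h : Bs ρ T A B y) {p : V}
    (pT : p ∈ CS ρ (T : Subgroup L)) (p1 : p ≠ 1) (sum : p * ρ y p * ρ (y * y) p = 1) : Pt ρ T A B y p where
  l32 := h.l32
  simp := h.simp
  sq := h.sq
  four := h.four
  le := h.le
  fix := h.fix
  par := h.par
  yN := h.yN
  y3 := h.y3
  pT := pT
  p1 := p1
  sum := sum

/-- the part of `v` moved by `y` -/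
def pv (ρ : L →* MulAut V) (y : L) (v : V) : V := ρ y v * ρ (y * y) v

/-- the part of `v` fixed by `y` -/
def rv (ρ : L →* MulAut V) (y : L) (v : V) : V := v * pv ρ y v

namespace Bs

variable {T : Sylow 2 L} {A B : Subgroup L} {y : L} (h : Bs ρ T A B y)

include h

theorem yy3 : y * y * y = 1 := by
  have := pow_orderOf_eq_one y
  rwa [h.y3, pow_succ, pow_two] at this

theorem card_W : Nat.card (zpowers y ⊔ A : Subgroup L) = 12 := by
  have h1 := ZN.Block.card_sup_mul_card_inf (H := zpowers y) (N := A) (zpowers_le.2 h.yN)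
  rw [Nat.card_zpowers, h.y3, h.four.card] at h1
  have h2 : Nat.card (zpowers y ⊓ A : Subgroup L) ∣ 3 := by
    rw [← h.y3, ← Nat.card_zpowers]
    exact Subgroup.card_dvd_of_le inf_le_left
  have h3 : Nat.card (zpowers y ⊓ A : Subgroup L) ∣ 4 := by
    rw [← h.four.card]
    exact Subgroup.card_dvd_of_le inf_le_right
  have h4 : Nat.card (zpowers y ⊓ A : Subgroup L) = 1 := Nat.eq_one_of_dvd_coprimes (by norm_num) h2 h3
  rw [h4, mul_one] at h1
  omega

theorem index_W : (zpowers y ⊔ A).relIndex (normalizer (A : Set L)) = 2 := by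
  have h1 := ZN.Block.card_mul_relIndex' (sup_le (zpowers_le.2 h.yN) le_normalizer : zpowers y ⊔ A ≤ normalizer (A : Set L))
  rw [h.card_W, card_normalizer h.l32 T h.four h.le] at h1
  omega

theorem T_le : (T : Subgroup L) ≤ normalizer (A : Set L) := sylow_le_normalizer h.l32 T h.four h.le

/-- elements of order 3 of `N(A)` act on `C(A)` as `y` or `y²` -/
theorem act_three {g : L} (hg : g ∈ normalizer (A : Set L)) (hg3 : orderOf g = 3) :
    (∀ v ∈ CS ρ A, ρ g v = ρ y v) ∨ ∀ v ∈ CS ρ A, ρ g v = ρ (y * y) v := by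
  have hggg : g * g * g = 1 := by
    have := pow_orderOf_eq_one g
    rwa [hg3, pow_succ, pow_two] at this
  have h1 : g * g ∈ zpowers y ⊔ A := by
    have h2 := h.index_W
    rw [Subgroup.relIndex] at h2
    exact (Subgroup.mul_mem_iff_of_index_two h2 (a := (⟨g, hg⟩ : normalizer (A : Set L))) (b := ⟨g, hg⟩)).2 Iff.rfl
  have h2 : g ∈ zpowers y ⊔ A := by
    have h3 := mul_mem h1 h1
    have e : g * g * (g * g) = g := by rw [← mul_assoc, hggg, one_mul]
    rwa [e] at h3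
  obtain ⟨b, ⟨i, rfl⟩, a, ha, hgb⟩ := exists_mul_of_mem_sup (zpowers_le.2 h.yN) h2
  simp only at hgb
  have hact : ∀ v ∈ CS ρ A, ρ g v = ρ (y ^ i) v := by
    intro v hv
    rw [hgb, map_mul, MulAut.mul_apply, hv a ha]
  have h3 : y ^ i = y ^ (i % 3) := by
    have := zpow_mod_orderOf y i
    rw [h.y3] at this
    exact this.symm
  have h4 : i % 3 = 0 ∨ i % 3 = 1 ∨ i % 3 = 2 := by omega
  rcases h4 with h4 | h4 | h4
  · exfalso
    rw [h4, zpow_zero] at h3
    rw [h3, one_mul] at hgb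
    have h5 := h.four.sq a ha
    rw [← hgb] at h5
    have h6 : orderOf g ∣ 2 := orderOf_dvd_of_pow_eq_one (by rw [pow_two]; exact h5)
    rw [hg3] at h6
    norm_num at h6
  · left
    intro v hv
    rw [hact v hv, h3, h4, zpow_one]
  · right
    intro v hv
    have e : y ^ (2 : ℤ) = y * y := by rw [zpow_ofNat, pow_two]
    rw [hact v hv, h3, h4, e]

theorem yv_mem {v : V} (hv : v ∈ CS ρ A) : ρ y v ∈ CS ρ A := CS_stable h.yN hv

/-- an automorphism `τ` of `V` which maps `y` to an element of order 3 of `N(A)` -/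
theorem pv_fix {g : L} (hg : g ∈ normalizer (A : Set L)) (hg3 : orderOf g = 3) {τ : MulAut V}
    (hτ : ∀ v, τ (ρ y v) = ρ g (τ v)) {v : V} (hv : v ∈ CS ρ A) (hτv : τ v = v) : τ (pv ρ y v) = pv ρ y v := by
  have h2 : ∀ w, τ (ρ (y * y) w) = ρ g (ρ g (τ w)) := by
    intro w
    rw [map_mul, MulAut.mul_apply, hτ, hτ]
  have hyy : y * y * (y * y) = y := by rw [← mul_assoc, h.yy3, one_mul]
  rw [pv, map_mul, hτ, h2, hτv]
  rcases h.act_three hg hg3 with h3 | h3
  · rw [h3 v hv, h3 _ (h.yv_mem hv), map_mul, MulAut.mul_apply]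
  · have h4 : ρ (y * y) v ∈ CS ρ A := by
      rw [map_mul, MulAut.mul_apply]; exact h.yv_mem (h.yv_mem hv)
    rw [h3 v hv, h3 _ h4, ← MulAut.mul_apply, ← map_mul, hyy, mul_comm]

theorem orderOf_conj (t : L) : orderOf (t * y * t⁻¹) = 3 := by
  rw [← h.y3, ← MulAut.conj_apply]
  exact orderOf_injective (MulAut.conj t).toMonoidHom (MulAut.conj t).injective y

theorem pv_mem {v : V} (hv : v ∈ CS ρ (T : Subgroup L)) : pv ρ y v ∈ CS ρ (T : Subgroup L) := by
  intro t ht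
  refine h.pv_fix (g := t * y * t⁻¹) ?_ (h.orderOf_conj t) (τ := ρ t) ?_ (CS_anti h.le hv) (hv t ht)
  · exact mul_mem (mul_mem (h.T_le ht) h.yN) (inv_mem (h.T_le ht))
  · intro w
    rw [← MulAut.mul_apply, ← map_mul, ← MulAut.mul_apply, ← map_mul, inv_mul_cancel_right]

theorem pv_sum (v : V) : pv ρ y v * ρ y (pv ρ y v) * ρ (y * y) (pv ρ y v) = 1 := by
  have hy3 : ∀ w, ρ y (ρ (y * y) w) = w := by
    intro w
    rw [← MulAut.mul_apply, ← map_mul, ← mul_assoc, h.yy3, map_one, MulAut.one_apply]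
  have hy4 : ∀ w, ρ (y * y) (ρ (y * y) w) = ρ y w := by
    intro w
    rw [← MulAut.mul_apply, ← map_mul, ← mul_assoc, h.yy3, one_mul]
  have hy5 : ∀ w, ρ y (ρ y w) = ρ (y * y) w := by intro w; rw [map_mul, MulAut.mul_apply]
  have hy6 : ∀ w, ρ (y * y) (ρ y w) = w := by
    intro w
    rw [← MulAut.mul_apply, ← map_mul, h.yy3, map_one, MulAut.one_apply]
  have e1 : ρ y (pv ρ y v) = ρ (y * y) v * v := by
    show ρ y (ρ y v * ρ (y * y) v) = _
    rw [(ρ y).map_mul, hy5, hy3]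
  have e2 : ρ (y * y) (pv ρ y v) = v * ρ y v := by
    show ρ (y * y) (ρ y v * ρ (y * y) v) = _
    rw [(ρ (y * y)).map_mul, hy6, hy4]
  rw [e1, e2, pv]
  calc ρ y v * ρ (y * y) v * (ρ (y * y) v * v) * (v * ρ y v)
      = (ρ y v * ρ y v) * (ρ (y * y) v * ρ (y * y) v) * (v * v) := by
        simp only [mul_assoc, mul_comm, mul_left_comm]
    _ = 1 := by rw [h.sq (ρ y v), h.sq (ρ (y * y) v), h.sq v, one_mul, one_mul]

theorem rv_fix (v : V) : ρ y (rv ρ y v) = rv ρ y v := by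
  have hy3 : ρ y (ρ (y * y) v) = v := by
    rw [← MulAut.mul_apply, ← map_mul, ← mul_assoc, h.yy3, map_one, MulAut.one_apply]
  have hy5 : ρ y (ρ y v) = ρ (y * y) v := by rw [map_mul, MulAut.mul_apply]
  show ρ y (v * (ρ y v * ρ (y * y) v)) = v * (ρ y v * ρ (y * y) v)
  rw [(ρ y).map_mul, (ρ y).map_mul, hy3, hy5]
  simp only [mul_comm, mul_left_comm]

theorem rv_mem {v : V} (hv : v ∈ CS ρ (T : Subgroup L)) : rv ρ y v ∈ CS ρ (⊤ : Subgroup L) := by
  have h1 : rv ρ y v ∈ CS ρ (T : Subgroup L) := mul_mem hv (h.pv_mem hv)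
  have h2 : (T : Subgroup L) ⊔ zpowers y = normalizer (A : Set L) := by
    apply Subgroup.eq_of_le_of_card_ge (sup_le h.T_le (zpowers_le.2 h.yN))
    rw [card_normalizer h.l32 T h.four h.le]
    exact Nat.le_of_dvd Nat.card_pos (dvd_card_of h.l32 T le_sup_left h.y3 (mem_sup_right (mem_zpowers y)))
  rw [mem_CS_iff, ← h.par.gen]
  refine sup_le ?_ ?_
  · rw [← h2]
    refine sup_le h1 (zpowers_le.2 (h.rv_fix v))
  · exact fun x hx => h.par.cent x hx _ h1

theorem mul_eq (v : V) : pv ρ y v * rv ρ y v = v := by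
  rw [rv, mul_comm v, ← mul_assoc, h.sq, one_mul]

/-- `pv v = 1` iff `v` is fixed by `L` -/
theorem pv_eq_one {v : V} (hv : v ∈ CS ρ (T : Subgroup L)) : pv ρ y v = 1 ↔ v ∈ CS ρ (⊤ : Subgroup L) := by
  constructor
  · intro h1
    have h2 := h.mul_eq v
    rw [h1, one_mul] at h2
    rw [← h2]; exact h.rv_mem hv
  · intro h1
    rw [pv, h1 y (mem_top y), h1 (y * y) (mem_top _), h.sq]

end Bs

end Cfsg.Agent.OddCyclic.L32
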