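import Cfsg.Agent.OddCyclic.L32.Lev
import Cfsg.Agent.OddCyclic.L32.Pts

/-!
# S0342, (C2), [Bc] section 1: the element `x` of order 3 of `N_L(J)`, natural submodules
-/

set_option autoImplicit false
set_option linter.unusedSectionVars false

namespace Cfsg.Agent.OddCyclic.L32

open Subgroup Cfsg Cfsg.Agent.ZN Cfsg.Agent.MinSimple Cfsg.Agent.OddCyclic.UniStruct
open Cfsg.Agent.ZN.Block (o2_isPGroup conj_mem_of_normalizer conj_mem_of_normalizer' le_normalizer_of_forall)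
open Cfsg.Agent.OddCyclic.T1Defs (OddCyc)
open Cfsg.Agent.OddCyclic.RedTy Cfsg.Agent.OddCyclic.RedRep Cfsg.Agent.OddCyclic.RedSevenX
open Cfsg.Agent.OddCyclic.FFBasic Cfsg.Agent.OddCyclic.FFRed Cfsg.Agent.OddCyclic.FFSl2
open Cfsg.Agent.OddCyclic.FFThree Cfsg.Agent.OddCyclic.RedSevenA Cfsg.Agent.OddCyclic.T1Module

universe u

variable {G : Type u} [Group G] [Finite G] {S : Sylow 2 G} {X T Y L₀ L : Subgroup G}
variable {H V : Type u} [Group H] [CommGroup V] [Finite H] [Finite V] {r : X →* H} {ρ : H →* MulAut V} {ι : V →* G}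
  {K : Subgroup H} {TQ : Sylow 2 K} {A B : Subgroup K}

theorem QR.img_eq (q : QR S X T Y L r ρ ι K TQ A B) : img r (jj (S : Subgroup G)) = A.map K.subtype := by
  ext b
  constructor
  · intro hb
    exact ⟨⟨b, q.J_le hb⟩, (q.A_mem _).2 hb, rfl⟩
  · rintro ⟨k, hk, rfl⟩
    exact (q.A_mem k).1 hk

/-- elements of `X` inducing an element of `N(A)` -/
theorem QR.lift (h : Lev S X T Y L₀ L) (q : QR S X T Y L r ρ ι K TQ A B) {x : X}
    (hx : r x ∈ normalizer (img r (jj (S : Subgroup G)) : Set H)) :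
    ∃ l n : X, r l ∈ img r (jj (S : Subgroup G)) ∧ (n : G) ∈ normalizer (jj (S : Subgroup G) : Set G) ∧ x = l * n := by
  have hJT := h.jj_eq
  have hTX := h.yc.TX
  have hJX : jj (S : Subgroup G) ≤ X := by rw [← hJT]; exact (jj_le T).trans hTX
  obtain ⟨F, hF⟩ : ∃ F, F = img r (jj (S : Subgroup G)) := ⟨_, rfl⟩
  rw [← hF] at hx ⊢
  have hTN : T ≤ normalizer (jj (S : Subgroup G) : Set G) :=
    EmptyTI.le_normalizer_jj S h.yc.two (by rw [← hJT]; exact jj_le T)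
  have h1 : T ≤ pre r (normalizer (F : Set H)) := by
    intro t ht
    refine mem_pre.2 ⟨hTX ht, ?_⟩
    rw [hF, mem_normalizer_iff]
    intro b
    constructor
    · intro hb
      obtain ⟨z, hz, rfl⟩ := mem_img.1 hb
      refine mem_img.2 ⟨⟨t, hTX ht⟩ * z * ⟨t, hTX ht⟩⁻¹, ?_, by rw [map_mul, map_mul, map_inv]⟩
      exact (mem_normalizer_iff.1 (hTN ht) z).1 hz
    · intro hb
      obtain ⟨z, hz, hzb⟩ := mem_img.1 hb
      refine mem_img.2 ⟨⟨t, hTX ht⟩⁻¹ * z * ⟨t, hTX ht⟩, ?_, ?_⟩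
      · have := (mem_normalizer_iff.1 (inv_mem (hTN ht)) z).1 hz
        rwa [inv_inv] at this
      · rw [map_mul, map_mul, map_inv, hzb]; group
  have h2 : pre r (normalizer (F : Set H)) ≤ normalizer ((pre r F : Subgroup G) : Set G) := by
    rw [le_normalizer_iff]
    intro g hg y hy
    obtain ⟨hgX, hg1⟩ := mem_pre.1 hg
    obtain ⟨hyX, hy1⟩ := mem_pre.1 hy
    refine mem_pre.2 ⟨X.mul_mem (X.mul_mem hgX hyX) (X.inv_mem hgX), ?_⟩
    have h3 : (⟨g * y * g⁻¹, X.mul_mem (X.mul_mem hgX hyX) (X.inv_mem hgX)⟩ : X) =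
        ⟨g, hgX⟩ * ⟨y, hyX⟩ * ⟨g, hgX⟩⁻¹ := rfl
    rw [h3, map_mul, map_mul, map_inv]
    exact (mem_normalizer_iff.1 hg1 _).1 hy1
  obtain ⟨l, hl, n, hn, he⟩ := LemXPerm.exists_frattini h1 h.yc.two
    (DBlkReduce.not_dvd_of_le h.yc.syl h1 (pre_le _)) h2 (x := (x : G)) (mem_pre.2 ⟨x.2, hx⟩)
  obtain ⟨hlX, hl1⟩ := mem_pre.1 hl
  have hnX : n ∈ X := pre_le _ hn.1
  have h4 : jj (T ⊓ pre r F) = jj T :=
    ZN.jj_eq_of_le (le_inf (ZN.jj_le T) ((img_le_iff (by rw [hJT]; exact hJX)).1 (by rw [hJT, hF]))) inf_le_left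
  refine ⟨⟨l, hlX⟩, ⟨n, hnX⟩, hl1, ?_, Subtype.ext he⟩
  have h5 := normalizer_le_normalizer_jj _ hn.2
  rwa [h4, hJT] at h5

/-- **an element of order 3 of `N_L(J)`** -/
theorem QR.exists_x (h : Lev S X T Y L₀ L) (q : QR S X T Y L r ρ ι K TQ A B) :
    ∃ (x : X) (y : K), (x : G) ∈ L ∧ (x : G) ^ 3 = 1 ∧ (x : G) ∈ normalizer (jj (S : Subgroup G) : Set G) ∧
      (y : H) = r x ∧ Bs (ρ.comp K.subtype) TQ A B y := by
  obtain ⟨s, hs, t, ht, hst, hmem⟩ := q.four.exists_four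
  obtain ⟨y₀, hyN, hy3, hy1, -⟩ := fuse_mem q.l32 hst hmem
  have hyo : orderOf y₀ = 3 := orderOf_three hy3 hy1 hst.ne
  obtain ⟨x₀, hx₀⟩ := q.rep.surj (y₀ : H)
  have hN : (y₀ : H) ∈ normalizer (img r (jj (S : Subgroup G)) : Set H) := by
    rw [q.img_eq, mem_normalizer_iff]
    intro b
    constructor
    · rintro ⟨k, hk, rfl⟩
      exact ⟨y₀ * k * y₀⁻¹, (mem_normalizer_iff.1 hyN k).1 hk, rfl⟩
    · rintro ⟨k, hk, hkb⟩
      have h1 := (mem_normalizer_iff.1 (inv_mem hyN) k).1 hk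
      refine ⟨_, h1, ?_⟩
      show (y₀ : H)⁻¹ * (k : H) * (y₀ : H)⁻¹⁻¹ = b
      have h2 : (k : H) = y₀ * b * (y₀ : H)⁻¹ := hkb
      rw [h2]; group
  obtain ⟨l, n, hl, hn, he⟩ := q.lift h (x := x₀) (by rw [hx₀]; exact hN)
  -- `r n = a y₀`
  obtain ⟨a, ha, hna⟩ : ∃ a ∈ A, r n = (a : H) * y₀ := by
    rw [q.img_eq] at hl
    obtain ⟨k, hk, hkl⟩ := hl
    refine ⟨k⁻¹, inv_mem hk, ?_⟩
    have h1 : r x₀ = r l * r n := by rw [he, map_mul]
    rw [hx₀, ← hkl] at h1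
    rw [h1]
    show r n = (k : H)⁻¹ * ((k : H) * r n)
    group
  -- powers of `a y₀`
  have hpow : ∀ m : ℕ, ∃ b ∈ A, (r n) ^ m = (b : H) * (y₀ : H) ^ m := by
    intro m
    induction m with
    | zero => exact ⟨1, one_mem _, by simp⟩
    | succ m ih =>
      obtain ⟨b, hb, hbm⟩ := ih
      refine ⟨b * (y₀ ^ m * a * (y₀ ^ m)⁻¹), mul_mem hb ((mem_normalizer_iff.1 (pow_mem hyN m) a).1 ha), ?_⟩
      rw [pow_succ, hbm, hna]
      push_cast
      group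
  obtain ⟨c, m, hm, hnm⟩ := Nat.exists_eq_pow_mul_and_not_dvd (orderOf_pos n).ne' 3 (by norm_num)
  have hm0 : 0 < m := Nat.pos_of_ne_zero (by rintro rfl; exact (orderOf_pos n).ne' (by rw [hnm, mul_zero]))
  have h2 : orderOf (n ^ m) = 3 ^ c := by
    rw [orderOf_pow, hnm, Nat.gcd_eq_right (dvd_mul_left m _), Nat.mul_div_cancel _ hm0]
  obtain ⟨x, hx⟩ : ∃ x : X, x = n ^ m := ⟨_, rfl⟩
  obtain ⟨hxL, hx3⟩ := h.cmp.el3 x x.2 ⟨c, by
    have h5 : x ^ 3 ^ c = 1 := by rw [hx, ← h2]; exact pow_orderOf_eq_one _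
    exact congrArg Subtype.val h5⟩
  have hxN : (x : G) ∈ normalizer (jj (S : Subgroup G) : Set G) := by
    rw [hx]; exact pow_mem hn m
  obtain ⟨b, hb, hbm⟩ := hpow m
  have hrx : r x = (b : H) * (y₀ : H) ^ m := by rw [hx, map_pow, hbm]
  have hrxK : r x ∈ K := by rw [q.K_eq]; exact mem_img.2 ⟨x, hxL, rfl⟩
  obtain ⟨y, hy⟩ : ∃ y : K, y = ⟨r x, hrxK⟩ := ⟨_, rfl⟩
  have hyb : y = b * y₀ ^ m := Subtype.ext (by rw [hy]; exact hrx)
  have hyN' : y ∈ normalizer (A : Set K) := by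
    rw [hyb]; exact mul_mem (le_normalizer hb) (pow_mem hyN m)
  have hyA : y ∉ A := by
    intro h3
    have h4 : y₀ ^ m ∈ A := by
      have := mul_mem (inv_mem hb) h3
      rwa [hyb, inv_mul_cancel_left] at this
    have h5 := q.four.sq _ h4
    rw [← pow_two, ← pow_mul] at h5
    have h6 := orderOf_dvd_of_pow_eq_one h5
    rw [hyo] at h6
    rcases (Nat.Prime.dvd_mul Nat.prime_three).1 h6 with h7 | h7
    · exact hm h7
    · norm_num at h7
  have hy3' : orderOf y = 3 := by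
    have hf3 : Fact (Nat.Prime 3) := ⟨Nat.prime_three⟩
    refine orderOf_eq_prime ?_ ?_
    · apply Subtype.ext
      rw [hy]
      show (r x) ^ 3 = 1
      rw [← map_pow, show x ^ 3 = 1 from Subtype.ext hx3, map_one]
    · rintro rfl; exact hyA (one_mem _)
  exact ⟨x, y, hxL, hx3, hxN, by rw [hy],
    { l32 := q.l32, simp := q.simp, sq := q.sq, four := q.four, le := q.le, fix := q.fix, par := q.par
      yN := hyN', y3 := hy3' }⟩

end Cfsg.Agent.OddCyclic.L32
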