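import Cfsg.Agent.OddCyclic.L32.ParX

/-!
# S0342, (C2), [Bc] section 1: `O₁`, generation, transvections
-/

set_option autoImplicit false
set_option linter.unusedSectionVars false

namespace Cfsg.Agent.OddCyclic.L32.Par

open Subgroup

universe u

variable {G : Type u} [Group G] [Finite G]

/-- `ξ ∈ N_M(J)` of order 3 -/
structure Fz (M T J N : Subgroup G) (p q x ξ : G) : Prop extends Fx M T J N p q x where
  zM : ξ ∈ M
  zp : cj ξ p = q
  zq : cj ξ q = p * q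

namespace Fz

variable {M T J N : Subgroup G} {p q x ξ : G} (f : Fz M T J N p q x ξ)

include f

theorem zpq : cj ξ (p * q) = p := by
  rw [cj_mul, f.zp, f.zq, f.comm p f.pN q f.qN, f.qmul]

theorem pln_z {n : G} (hn : Pln p q n) : Pln p q (cj ξ n) := by
  rcases hn with rfl | rfl | rfl | rfl
  · exact Or.inl (cj_one _)
  · rw [f.zp]; exact f.pln_q
  · rw [f.zq]; exact f.pln_pq
  · rw [f.zpq]; exact f.pln_p

theorem pln_zi {n : G} (hn : Pln p q n) : Pln p q (cj ξ⁻¹ n) := by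
  rcases hn with rfl | rfl | rfl | rfl
  · exact Or.inl (cj_one _)
  · rw [cj_inv_eq f.zpq]; exact f.pln_pq
  · rw [cj_inv_eq f.zp]; exact f.pln_p
  · rw [cj_inv_eq f.zq]; exact f.pln_q

/-! ### `O₁` -/

omit f in
theorem exists_O₁ (M : Subgroup G) (p q : G) : ∃ O₁ : Subgroup G, ∀ g, g ∈ O₁ ↔ g ∈ M ∧ cj g p = p ∧ cj g q = q := by
  refine ⟨M ⊓ centralizer {p, q}, fun g => ?_⟩
  rw [mem_inf, mem_centralizer_iff, cj_eq_self, cj_eq_self]
  constructor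
  · rintro ⟨h1, h2⟩
    exact ⟨h1, (h2 p (Or.inl rfl)).symm, (h2 q (Or.inr rfl)).symm⟩
  · rintro ⟨h1, h2, h3⟩
    refine ⟨h1, ?_⟩
    rintro h (rfl | rfl)
    · exact h2.symm
    · exact h3.symm

variable {O₁ : Subgroup G} (hO₁ : ∀ g, g ∈ O₁ ↔ g ∈ M ∧ cj g p = p ∧ cj g q = q)

include hO₁

theorem O₁_pln {g : G} (hg : g ∈ O₁) {n : G} (hn : Pln p q n) : cj g n = n := by
  obtain ⟨-, h1, h2⟩ := (hO₁ g).1 hg
  rcases hn with rfl | rfl | rfl | rfl
  · exact cj_one _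
  · exact h1
  · exact h2
  · rw [cj_mul, h1, h2]

theorem O₁_le : O₁ ≤ T := fun g hg => by
  obtain ⟨h1, h2, h3⟩ := (hO₁ g).1 hg
  exact f.mem_T h1 h2 (Or.inl h3)

theorem O₁_not {t : G} (ht : t ∈ T) (h : t ∉ O₁) : cj t q = p * q := by
  rcases f.q_T ht with h1 | h1
  · exact (h ((hO₁ t).2 ⟨f.TM ht, f.pT t ht, h1⟩)).elim
  · exact h1

theorem O₁_rel : O₁.relIndex T = 2 := by
  rw [relIndex_eq_two_iff_exists_notMem_and']
  obtain ⟨t, ht, htO⟩ : ∃ t ∈ T, t ∉ O₁ := by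
    by_contra hcon
    push Not at hcon
    exact f.qp (f.eq_p q f.qN f.q1 fun t ht => ((hO₁ t).1 (hcon t ht)).2.2)
  refine ⟨t, ht, htO, fun b hb => ?_⟩
  by_cases hbO : b ∈ O₁
  · exact Or.inr hbO
  · left
    refine (hO₁ _).2 ⟨f.TM (mul_mem ht hb), f.pT _ (mul_mem ht hb), ?_⟩
    rw [cj_cj, f.O₁_not hO₁ hb hbO, cj_mul, f.pT t ht, f.O₁_not hO₁ ht htO, f.pmul]

theorem O₁_nor {y : G} (hy : y ∈ M) (h1 : ∀ n, Pln p q n → Pln p q (cj y n)) (h2 : ∀ n, Pln p q n → Pln p q (cj y⁻¹ n)) :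
    y ∈ normalizer (O₁ : Set G) := by
  have key : ∀ y ∈ M, (∀ n, Pln p q n → Pln p q (cj y⁻¹ n)) → ∀ g ∈ O₁, y * g * y⁻¹ ∈ O₁ := by
    intro y hy h2 g hg
    refine (hO₁ _).2 ⟨mul_mem (mul_mem hy ((hO₁ g).1 hg).1) (inv_mem hy), ?_, ?_⟩
    · rw [cj_cj, cj_cj, O₁_pln f hO₁ hg (h2 _ f.pln_p), cj_cj_inv]
    · rw [cj_cj, cj_cj, O₁_pln f hO₁ hg (h2 _ f.pln_q), cj_cj_inv]
  rw [mem_normalizer_iff]
  intro g
  refine ⟨key y hy h2 g, fun h => ?_⟩
  have h3 := key y⁻¹ (inv_mem hy) (by rw [inv_inv]; exact h1) _ h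
  have h4 : y⁻¹ * (y * g * y⁻¹) * y⁻¹⁻¹ = g := by group
  rwa [h4] at h3

theorem O₁_inv {t : G} (ht : t ∈ T) (htO : t ∉ O₁) : t * ξ * t⁻¹ * ξ ∈ O₁ := by
  have htM := f.TM ht
  have h1 := f.O₁_not hO₁ ht htO
  have h2 := cj_inv_eq h1
  have hti : cj t⁻¹ p = p := f.pT _ (inv_mem ht)
  have htp : cj t p = p := f.pT _ ht
  have h3 : cj t⁻¹ q = p * q := by
    have h4 : cj t (p * q) = q := by rw [cj_mul, htp, h1, f.pmul]
    exact cj_inv_eq h4
  refine (hO₁ _).2 ⟨mul_mem (mul_mem (mul_mem htM f.zM) (inv_mem htM)) f.zM, ?_, ?_⟩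
  · rw [cj_cj, cj_cj, cj_cj, f.zp, h3, f.zpq, htp]
  · rw [cj_cj, cj_cj, cj_cj, f.zq, h2, f.zq, cj_mul, htp, h1, f.pmul]

theorem J_le : J ≤ O₁ := fun j hj => by
  refine (hO₁ j).2 ⟨f.TM (f.JT hj), f.pT j (f.JT hj), ?_⟩
  rw [cj_eq_self]
  exact (f.plane q f.qN).2 f.pln_q j hj

/-- `O₁` in terms of `C_M(p)` -/
theorem O₁_iff {g : G} (hg : g ∈ M) : g ∈ O₁ ↔ cj g p = p ∧ cj (ξ⁻¹ * g * ξ) p = p := by
  rw [hO₁]
  have h1 : cj (ξ⁻¹ * g * ξ) p = p ↔ cj g q = q := by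
    rw [cj_cj, cj_cj, f.zp]
    constructor
    · intro h
      have h2 := cj_cj_inv ξ (cj g q)
      rw [h, f.zp] at h2
      exact h2.symm
    · intro h
      rw [h]
      exact cj_inv_eq f.zp
  rw [h1]
  exact ⟨fun h => h.2, fun h => ⟨hg, h⟩⟩

omit hO₁

/-! ### generation -/

theorem trans_D {n : G} (hn : n ∈ N) (hn1 : n ≠ 1) : ∃ d ∈ T ⊔ zpowers ξ ⊔ zpowers x, cj d p = n := by
  obtain ⟨D, hD⟩ : ∃ D, D = T ⊔ zpowers ξ ⊔ zpowers x := ⟨_, rfl⟩
  rw [← hD]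
  have hx : x ∈ D := by rw [hD]; exact (le_sup_right : zpowers x ≤ _) (mem_zpowers x)
  have hz : ξ ∈ D := by
    rw [hD]; exact ((le_sup_right : zpowers ξ ≤ _).trans le_sup_left) (mem_zpowers ξ)
  have hxp : ∀ a, cj x (p * a) = p * cj x a := fun a => by rw [cj_mul, f.xp]
  rcases f.cases f.rN f.r_not hn with h | h | h | h
  · rcases h with h | h
    · exact (hn1 h).elim
    · exact ⟨1, one_mem _, by rw [one_cj, h, mul_one]⟩
  · rcases h with h | h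
    · exact ⟨ξ, hz, by rw [f.zp, h]⟩
    · exact ⟨ξ * ξ, mul_mem hz hz, by rw [cj_cj, f.zp, f.zq, h]⟩
  · rcases h with h | h
    · exact ⟨x * ξ, mul_mem hx hz, by rw [cj_cj, f.zp, h]⟩
    · exact ⟨x * (ξ * ξ), mul_mem hx (mul_mem hz hz), by rw [cj_cj, cj_cj, f.zp, f.zq, hxp, h]⟩
  · have h2 := f.etrans h (f.esymm f.s_eq)
    rcases h2 with h | h
    · exact ⟨x * (x * ξ), mul_mem hx (mul_mem hx hz), by rw [cj_cj, cj_cj, f.zp, h]⟩
    · exact ⟨x * (x * (ξ * ξ)), mul_mem hx (mul_mem hx (mul_mem hz hz)), by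
        rw [cj_cj, cj_cj, cj_cj, f.zp, f.zq, hxp, hxp, h]⟩

theorem M_le : M ≤ T ⊔ zpowers ξ ⊔ zpowers x := by
  intro g hg
  obtain ⟨d, hd, hdg⟩ := f.trans_D (f.nor g hg p f.pN) (f.cj_ne_one f.p1)
  obtain ⟨D, hD⟩ : ∃ D, D = T ⊔ zpowers ξ ⊔ zpowers x := ⟨_, rfl⟩
  rw [← hD] at hd ⊢
  have hx : x ∈ D := by rw [hD]; exact (le_sup_right : zpowers x ≤ _) (mem_zpowers x)
  have hT : T ≤ D := by rw [hD]; exact le_sup_left.trans le_sup_left
  have hDM : D ≤ M := by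
    rw [hD]
    exact sup_le (sup_le f.TM (zpowers_le.2 f.zM)) (zpowers_le.2 f.xM)
  have h1 : cj (d⁻¹ * g) p = p := by rw [cj_cj, ← hdg, cj_inv_cj]
  have h2 : d⁻¹ * g ∈ D := by
    rcases (f.P_iff (mul_mem (inv_mem (hDM hd)) hg)).1 h1 with h | h | h
    · exact hT h
    · have := mul_mem hx (hT h)
      rwa [mul_inv_cancel_left] at this
    · have := mul_mem (inv_mem hx) (hT h)
      rwa [inv_mul_cancel_left] at this
  have := mul_mem hd h2
  rwa [mul_inv_cancel_left] at this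

end Fz

/-! ### transvections -/

namespace Fr

variable {M T J N : Subgroup G} {p q : G} (f : Fr M T J N p q)

include f

/-- `J` induces all transvections with axis `C_N(J)` -/
theorem tr_J (h4 : (J ⊓ centralizer (N : Set G)).relIndex J = 4) {h : G} (hh : Pln p q h) :
    ∃ j ∈ J, ∀ n ∈ N, ¬ Pln p q n → cj j n = h * n := by
  obtain ⟨r, hr, hrp⟩ := f.exists_not
  have hJM : J ≤ M := f.JT.trans f.TM
  have hrr := f.sq r hr
  have hJp : ∀ j ∈ J, ∀ n, Pln p q n → cj j n = n := fun j hj n hn =>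
    cj_eq_self.2 ((f.plane n (f.pln_mem hn)).2 hn j hj)
  have hnot : ∀ j ∈ J, ∀ n ∈ N, ¬ Pln p q n → ¬ Pln p q (cj j n) := by
    intro j hj n _ hn h
    have h1 := hJp j⁻¹ (inv_mem hj) _ h
    rw [cj_inv_cj] at h1
    exact hn (by rw [h1]; exact h)
  have hval : ∀ j ∈ J, Pln p q (cj j r * r) := fun j hj =>
    f.mul_of_not (f.nor j (hJM hj) r hr) hr (hnot j hj r hr hrp) hrp
  obtain ⟨φ, hφ⟩ : ∃ φ : J →* G, ∀ j : J, φ j = cj (j : G) r * r := by
    refine ⟨MonoidHom.mk' (fun j : J => cj (j : G) r * r) ?_, fun j => rfl⟩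
    intro j k
    show cj ((j : G) * k) r * r = (cj (j : G) r * r) * (cj (k : G) r * r)
    have h1 : cj (k : G) r = (cj (k : G) r * r) * r := by rw [mul_assoc, hrr, mul_one]
    rw [cj_cj, h1, cj_mul, hJp j j.2 _ (hval k k.2), mul_assoc,
      f.comm _ (f.pln_mem (hval k k.2)) _ (f.pln_mem (hval j j.2)), mul_assoc (cj (k : G) r) r r, hrr, mul_one]
  have hker : φ.ker = (J ⊓ centralizer (N : Set G)).subgroupOf J := by
    ext j
    rw [MonoidHom.mem_ker, hφ, mem_subgroupOf, Subgroup.mem_inf]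
    constructor
    · intro h1
      have h2 : cj (j : G) r = r := by
        calc cj (j : G) r = (cj (j : G) r * r) * r := by rw [mul_assoc, hrr, mul_one]
          _ = r := by rw [h1, one_mul]
      refine ⟨j.2, mem_centralizer_iff.2 fun n hn => ?_⟩
      have h3 : cj (j : G) n = n := by
        by_cases hnp : Pln p q n
        · exact hJp j j.2 n hnp
        · have h4 := hJp j j.2 _ (f.mul_of_not hn hr hnp hrp)
          rw [cj_mul, h2] at h4
          exact mul_right_cancel h4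
      exact (cj_eq_self.1 h3).symm
    · rintro ⟨-, h1⟩
      rw [cj_eq_self.2 (mem_centralizer_iff.1 h1 r hr).symm, hrr]
  have hrange : φ.range = N ⊓ centralizer (J : Set G) := by
    refine Subgroup.eq_of_le_of_card_ge ?_ ?_
    · rintro _ ⟨j, rfl⟩
      rw [hφ, f.mem_inf]
      exact hval j j.2
    · rw [f.card_inf, ← Subgroup.index_ker, hker]
      exact h4.symm.le
  obtain ⟨j, hj⟩ : h ∈ φ.range := by rw [hrange, f.mem_inf]; exact hh
  rw [hφ] at hj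
  refine ⟨j, j.2, fun n hn hnp => ?_⟩
  have h1 : cj (j : G) r = h * r := by rw [← hj, mul_assoc, hrr, mul_one]
  have h2 := hJp j j.2 _ (f.mul_of_not hn hr hnp hrp)
  rw [cj_mul, h1] at h2
  -- `cj n * (h * r) = n * r`
  have h3 : cj (j : G) n * h = n := by
    have : cj (j : G) n * h * r = n * r := by rw [mul_assoc]; exact h2
    exact mul_right_cancel this
  have hhN := f.pln_mem hh
  have hjn := f.nor j (hJM j.2) n hn
  calc cj (j : G) n = cj (j : G) n * (h * h) := by rw [f.sq h hhN, mul_one]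
    _ = n * h := by rw [← mul_assoc, h3]
    _ = h * n := f.comm n hn h hhN

end Fr

end Cfsg.Agent.OddCyclic.L32.Par
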