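import Cfsg.Agent.OddCyclic.L32.Conf
import Cfsg.Agent.OddCyclic.L32.ParZ

/-!
# S0342, (C2), [Bc] section 1: the two parabolics of `L T`

`Lev.exists_par`: from one natural module `Nt … N p ξ`: the subgroups `O₁`, `O`, `A` and the element `x` with all the
properties of `Conf`, and the fields of `Np` for all natural modules `Nt … N' p' ξ`.
-/

set_option autoImplicit false
set_option linter.unusedSectionVars false

namespace Cfsg.Agent.OddCyclic.L32.Par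

open Subgroup Cfsg Cfsg.Agent.ZN Cfsg.Agent.MinSimple Cfsg.Agent.OddCyclic.UniStruct
open Cfsg.Agent.ZN.Block (o2_isPGroup conj_mem_of_normalizer conj_mem_of_normalizer' le_normalizer_of_forall)
open Cfsg.Agent.OddCyclic.RedTy Cfsg.Agent.OddCyclic.RedRep Cfsg.Agent.OddCyclic.RedSevenX Cfsg.Agent.OddCyclic.FFBasic Cfsg.Agent.OddCyclic.FFRed
open Cfsg.Agent.OddCyclic.FFSl2 Cfsg.Agent.OddCyclic.FFThree Cfsg.Agent.OddCyclic.RedSevenA
open Cfsg.Agent.OddCyclic.T1Module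

universe u

variable {G : Type u} [Group G] [Finite G] {S : Sylow 2 G} {X T Y L₀ L O₁ O A : Subgroup G} {ξ x : G}

/-- the output -/
structure Out (S : Sylow 2 G) (X T Y L O₁ O A : Subgroup G) (ξ x : G) : Prop where
  O₁_le : O₁ ≤ T
  O₁_rel : O₁.relIndex T = 2
  O₁_T : T ≤ normalizer (O₁ : Set G)
  O₁_ξ : ξ ∈ normalizer (O₁ : Set G)
  inv₁ : ∀ t ∈ T, t ∉ O₁ → t * ξ * t⁻¹ * ξ ∈ O₁
  J_le : jj (S : Subgroup G) ≤ O₁
  xL : x ∈ L
  x3 : orderOf x = 3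
  xZ : ∀ z ∈ zc T, x * z = z * x
  O_le : O ≤ T
  O_rel : O.relIndex T = 2
  O_T : T ≤ normalizer (O : Set G)
  O_x : x ∈ normalizer (O : Set G)
  inv : ∀ t ∈ T, t ∉ O → t * x * t⁻¹ * x ∈ O
  A_mem : A ∈ ChoiceBase.AA (S : Subgroup G)
  A_not : ¬ A ≤ O
  gen_x : x ∈ A ⊔ A.map (MulAut.conj x).toMonoidHom
  E_not : ¬ A.map (MulAut.conj x).toMonoidHom ⊓ O ≤ O₁
  gen : L ≤ T ⊔ zpowers ξ ⊔ zpowers x
  memO₁ : ∀ (N : Subgroup G) (p : G), Nt S X T Y L N p ξ →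
    ∀ g ∈ L ⊔ T, (g ∈ O₁ ↔ g * p = p * g ∧ g * (ξ * p * ξ⁻¹) = (ξ * p * ξ⁻¹) * g)
  memO : ∀ (N : Subgroup G) (p : G), Nt S X T Y L N p ξ →
    ∀ g ∈ L ⊔ T, (g ∈ O ↔ ∀ n ∈ N, g * n * g⁻¹ = n ∨ g * n * g⁻¹ = p * n)
  xfix : ∀ (N : Subgroup G) (p : G), Nt S X T Y L N p ξ → ∀ n ∈ N, (x * n = n * x ↔ n = 1 ∨ n = p)
  tr : ∀ (N : Subgroup G) (p : G), Nt S X T Y L N p ξ →
    ∀ h ∈ N, (∀ j ∈ jj (S : Subgroup G), j * h = h * j) →
    ∃ a ∈ A, ∀ n ∈ N, ¬ (∀ j ∈ jj (S : Subgroup G), j * n = n * j) → a * n * a⁻¹ = h * n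

/-! ### tools -/

theorem AA_of_jj {T U A : Subgroup G} (h : jj T = jj U) (hA : A ∈ ChoiceBase.AA T) : A ∈ ChoiceBase.AA U := by
  rw [ChoiceBase.mem_AA_iff]
  refine ⟨hA.1, (ChoiceBase.le_jj hA).trans (by rw [h]; exact jj_le U), ?_⟩
  obtain ⟨B, hB⟩ := ChoiceBase.AA_nonempty U
  rw [ChoiceBase.mm_eq hB]
  exact hA.2.2 B hB.1 ((ChoiceBase.le_jj hB).trans (by rw [← h]; exact jj_le T))

theorem TN (h : Lev S X T Y L₀ L) : T ≤ normalizer (L : Set G) := h.yc.TX.trans h.cmp.cp.norm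

theorem M_le (h : Lev S X T Y L₀ L) : L ⊔ T ≤ X := sup_le h.cmp.cp.le h.yc.TX

/-- `g^(2^k) ∈ L` for `g ∈ L T` -/
theorem pow_mem_L (h : Lev S X T Y L₀ L) {g : G} (hg : g ∈ L ⊔ T) : ∃ k : ℕ, g ^ 2 ^ k ∈ L := by
  rw [sup_comm] at hg
  obtain ⟨t, ht, l, hl, rfl⟩ := exists_mul_of_mem_sup (TN h) hg
  have key : ∀ n : ℕ, ∃ m ∈ L, (t * l) ^ n = t ^ n * m := by
    intro n
    induction n with
    | zero => exact ⟨1, one_mem _, by simp⟩
    | succ n ih =>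
      obtain ⟨m, hm, he⟩ := ih
      have h1 : t⁻¹ * m * t ∈ L := by
        have := conj_mem_of_normalizer' (TN h) ht hm
        exact this
      refine ⟨(t⁻¹ * m * t) * l, mul_mem h1 hl, ?_⟩
      rw [pow_succ, he, pow_succ]
      group
  obtain ⟨k, hk⟩ := h.yc.two ⟨t, ht⟩
  have h1 : t ^ 2 ^ k = 1 := congrArg Subtype.val hk
  obtain ⟨m, hm, he⟩ := key (2 ^ k)
  refine ⟨k, ?_⟩
  rw [he, h1, one_mul]
  exact hm

theorem le_of_two (h : Lev S X T Y L₀ L) {F : Subgroup G} (h1 : T ≤ F) (h2 : F ≤ X) (h3 : IsPGroup 2 F) : F ≤ T := by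
  have h4 := DBlkReduce.not_dvd_of_le h.yc.syl h1 h2
  rw [← Subgroup.relIndex_eq_one]
  have hf2 : Fact (Nat.Prime 2) := ⟨Nat.prime_two⟩
  obtain ⟨n, hn⟩ := IsPGroup.iff_card.1 h3
  have h5 : T.relIndex F ∣ 2 ^ n := by rw [← hn]; exact Subgroup.relIndex_dvd_card _ _
  obtain ⟨m, -, hm⟩ := (Nat.dvd_prime_pow Nat.prime_two).1 h5
  rcases m with _ | m
  · rw [hm, pow_zero]
  · exact (h4 (by rw [hm, pow_succ]; exact dvd_mul_left _ _)).elim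

theorem fr (h : Lev S X T Y L₀ L) {N : Subgroup G} {p : G} (n : Nt S X T Y L N p ξ) :
    Fr (L ⊔ T) T (jj (S : Subgroup G)) N p (cj ξ p) where
  TM := le_sup_right
  two := h.yc.two
  TJ := EmptyTI.le_normalizer_jj S h.yc.two (by rw [← h.jj_eq]; exact jj_le T)
  JT := by rw [← h.jj_eq]; exact jj_le T
  nor := fun g hg m hm => conj_mem_of_normalizer n.norm (M_le h hg) hm
  card := n.card
  sq := n.sq
  comm := n.comm
  pN := n.pN
  p1 := n.p1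
  pT := fun t ht => cj_eq_self.2 (n.pT t ht)
  eq_p := fun m hm h1 h2 => n.eq_p m hm h1 fun t ht => cj_eq_self.1 (h2 t ht)
  qN := conj_mem_of_normalizer n.norm (h.cmp.cp.le n.xL) n.pN
  q1 := fun h1 => n.p1 (cj_inj (g := ξ) (by rw [h1, cj_one]))
  qp := fun h1 => n.xp (cj_eq_self.1 h1)
  plane := n.plane
  big := fun F h1 h2 h3 => le_of_two h h1 (h2.trans (M_le h)) h3
  cent := by
    intro g hg h1
    obtain ⟨k, hk⟩ := pow_mem_L h hg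
    have h2 : g ∈ centralizer (N : Set G) := mem_centralizer_iff.2 fun m hm => (cj_eq_self.1 (h1 m hm)).symm
    have h3 : g ^ 2 ^ k ∈ o2 L := by rw [← n.faith]; exact ⟨hk, Subgroup.pow_mem _ h2 _⟩
    obtain ⟨j, hj⟩ := o2_isPGroup L ⟨_, h3⟩
    have h4 : (g ^ 2 ^ k) ^ 2 ^ j = 1 := congrArg Subtype.val hj
    refine ⟨k + j, ?_⟩
    rw [pow_add, pow_mul, h4]

theorem p_zc (h : Lev S X T Y L₀ L) {N : Subgroup G} {p : G} (n : Nt S X T Y L N p ξ) : p ∈ zc T := by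
  have hpY := n.le n.pN
  refine Block.mem_zc ?_ n.pT (by rw [pow_two]; exact n.sq p n.pN)
  exact h.yc.toLoc.o2_le ((Block.zc_le _) (h.yc.le hpY))

/-- `x ∈ L` of order 3 centralising `Ω₁Z(T)` -/
structure Gd (L T : Subgroup G) (x : G) : Prop where
  xL : x ∈ L
  x3 : orderOf x = 3
  xZ : ∀ z ∈ zc T, x * z = z * x

theorem exists_gd (h : Lev S X T Y L₀ L) : ∃ x, Gd L T x := by
  have hf3 : Fact (Nat.Prime 3) := ⟨Nat.prime_three⟩
  obtain ⟨H, V, i1, i2, i3, i4, r, ρ, ι, K, TQ, A, B, q⟩ := h.exists_qr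
  have hLX := h.cmp.cp.le
  obtain ⟨s, hs, t, ht, hst, hmem⟩ := q.par.four.exists_four
  obtain ⟨y₀, hyN, hy3, hy1, -⟩ := fuse_mem q.l32 hst hmem
  have hyo : orderOf y₀ = 3 := orderOf_three hy3 hy1 hst.ne
  obtain ⟨x₀, hx₀L, hx₀⟩ := q.exists_l y₀
  obtain ⟨c, m, hm, hnm⟩ := Nat.exists_eq_pow_mul_and_not_dvd (orderOf_pos x₀).ne' 3 (by norm_num)
  have hm0 : 0 < m := Nat.pos_of_ne_zero (by rintro rfl; exact (orderOf_pos x₀).ne' (by rw [hnm, mul_zero]))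
  have h2 : orderOf (x₀ ^ m) = 3 ^ c := by
    rw [orderOf_pow, hnm, Nat.gcd_eq_right (dvd_mul_left m _), Nat.mul_div_cancel _ hm0]
  obtain ⟨x, hx⟩ : ∃ x : X, x = x₀ ^ m := ⟨_, rfl⟩
  obtain ⟨hxL, hx3⟩ := h.cmp.el3 x x.2 ⟨c, by
    have h5 : x ^ 3 ^ c = 1 := by rw [hx, ← h2]; exact pow_orderOf_eq_one _
    exact congrArg Subtype.val h5⟩
  have hrx : r x = ((y₀ ^ m : K) : H) := by rw [hx, map_pow, hx₀]; rfl
  have hx1 : (x : G) ≠ 1 := by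
    intro h1
    have h3 : x = 1 := Subtype.ext h1
    rw [h3, map_one] at hrx
    have h4 : y₀ ^ m = 1 := Subtype.ext hrx.symm
    exact hm (by rw [← hyo]; exact orderOf_dvd_of_pow_eq_one h4)
  refine ⟨x, hxL, orderOf_eq_prime hx3 hx1, fun z hz => ?_⟩
  obtain ⟨v, rfl⟩ := q.rep.exists_v (h.yc.zc_le hz)
  have hvQ : v ∈ CS (ρ.comp K.subtype) (TQ : Subgroup K) := by
    intro k hk
    obtain ⟨t, ht, htk⟩ := mem_img.1 ((q.TQ_mem k).1 hk)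
    show ρ (k : H) v = v
    rw [← htk, q.rep.fix]
    exact Block.zc_comm ht hz
  rw [← q.rep.fix, hrx]
  exact q.par.cent (y₀ ^ m) (Subgroup.pow_mem _ hyN m) v hvQ

theorem fz (h : Lev S X T Y L₀ L) {N : Subgroup G} {p : G} (n : Nt S X T Y L N p ξ) (hx : Gd L T x) :
    Fz (L ⊔ T) T (jj (S : Subgroup G)) N p (cj ξ p) x ξ where
  toFr := fr h n
  xM := (le_sup_left : L ≤ L ⊔ T) hx.xL
  x3 := hx.x3
  xp := cj_eq_self.2 (hx.xZ p (p_zc h n))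
  zM := (le_sup_left : L ≤ L ⊔ T) n.xL
  zp := rfl
  zq := by
    have f := fr h n
    have h1 : p * cj ξ p * cj ξ (cj ξ p) = 1 := by
      have := n.sum
      rw [← cj_cj]
      exact this
    have h2 : cj ξ (cj ξ p) = (p * cj ξ p)⁻¹ := eq_inv_of_mul_eq_one_right h1
    rw [h2]
    exact inv_eq_of_mul_eq_one_left (f.sq _ f.pqN)

/-- `A` induces what `J` induces -/
theorem A_of_J (h : Lev S X T Y L₀ L) {N : Subgroup G} {p : G} (n : Nt S X T Y L N p ξ)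
    (hA : A ∈ ChoiceBase.AA (S : Subgroup G)) (hAY : ¬ A ≤ centralizer (Y : Set G)) {j : G}
    (hj : j ∈ jj (S : Subgroup G)) : ∃ a ∈ A, ∀ m ∈ N, cj j m = cj a m := by
  have hAT := AA_of_jj h.jj_eq.symm hA
  have h1 := (h.bc.img A hAT).resolve_left hAY
  have hAX : A ≤ X := (ChoiceBase.le_jj hAT).trans ((jj_le T).trans h.yc.TX)
  have hn : A ≤ normalizer ((X ⊓ centralizer (Y : Set G) : Subgroup G) : Set G) := by
    refine le_normalizer_of_forall fun g hg c hc => ⟨X.mul_mem (X.mul_mem (hAX hg) hc.1) (X.inv_mem (hAX hg)), ?_⟩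
    refine mem_centralizer_iff.2 fun y hy => ?_
    have h9 := mem_centralizer_iff.1 hc.2 _ (conj_mem_of_normalizer' h.yc.nor (hAX hg) hy)
    calc y * (g * c * g⁻¹) = g * ((g⁻¹ * y * g) * c) * g⁻¹ := by group
      _ = g * (c * (g⁻¹ * y * g)) * g⁻¹ := by rw [h9]
      _ = g * c * g⁻¹ * y := by group
  obtain ⟨a, ha, c, hc, he⟩ := exists_mul_of_mem_sup hn (h1 (by rw [h.jj_eq]; exact hj))
  refine ⟨a, ha, fun m hm => ?_⟩
  have h2 : cj c m = m := cj_eq_self.2 (mem_centralizer_iff.1 hc.2 m (n.le hm)).symm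
  rw [he, cj_cj, h2]

theorem relIndex_four (h : Lev S X T Y L₀ L) {N : Subgroup G} {p : G} (n : Nt S X T Y L N p ξ) :
    (jj (S : Subgroup G) ⊓ centralizer (N : Set G)).relIndex (jj (S : Subgroup G)) = 4 := by
  have h1 : jj (S : Subgroup G) ⊓ centralizer (N : Set G) = jj (S : Subgroup G) ⊓ centralizer (Y : Set G) :=
    le_antisymm (le_inf inf_le_left n.jc) (inf_le_inf le_rfl (centralizer_le n.le))
  have h2 := h.bc.four
  rw [h1]
  rwa [h.jj_eq] at h2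

theorem map_conj_le {A D : Subgroup G} {x : G} (hA : A ≤ D) (hx : x ∈ D) :
    A.map (MulAut.conj x).toMonoidHom ≤ D := by
  rintro _ ⟨a, ha, rfl⟩
  exact mul_mem (mul_mem hx (hA ha)) (inv_mem hx)

theorem coprime_pow_two (k : ℕ) : Nat.Coprime 3 (2 ^ k) := Nat.Coprime.pow_right k (by norm_num)

/-- **the choice of `x`** -/
theorem exists_choice (h : Lev S X T Y L₀ L) {N : Subgroup G} {p : G} (n : Nt S X T Y L N p ξ) {O A : Subgroup G}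
    (hO : ∀ g, g ∈ O ↔ g ∈ L ⊔ T ∧ ∀ m ∈ N, Eqp p (cj g m) m) (hA : A ∈ ChoiceBase.AA (S : Subgroup G))
    (hAO : ¬ A ≤ O) : ∃ x, Gd L T x ∧ x ∈ A ⊔ A.map (MulAut.conj x).toMonoidHom := by
  classical
  have hf3 : Fact (Nat.Prime 3) := ⟨Nat.prime_three⟩
  have hAT : A ≤ T := (ChoiceBase.le_jj hA).trans (by rw [← h.jj_eq]; exact jj_le T)
  obtain ⟨a, haA, haO⟩ := SetLike.not_le_iff_exists.1 hAO
  have haT := hAT haA
  have haa : a * a = 1 := by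
    have := hA.1.2 a haA
    rwa [pow_two] at this
  obtain ⟨x, hx, hmin⟩ : ∃ x, Gd L T x ∧ ∀ y, Gd L T y →
      Nat.card (A ⊔ A.map (MulAut.conj x).toMonoidHom : Subgroup G) ≤
      Nat.card (A ⊔ A.map (MulAut.conj y).toMonoidHom : Subgroup G) := by
    obtain ⟨x₀, hx₀⟩ := exists_gd h
    have hex : ∃ m, ∃ x, Gd L T x ∧ Nat.card (A ⊔ A.map (MulAut.conj x).toMonoidHom : Subgroup G) = m :=
      ⟨_, x₀, hx₀, rfl⟩
    obtain ⟨x, hx, hxm⟩ := Nat.find_spec hex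
    exact ⟨x, hx, fun y hy => by rw [hxm]; exact Nat.find_min' hex ⟨y, hy, rfl⟩⟩
  have f := fz h n hx
  obtain ⟨D, hD⟩ : ∃ D, D = A ⊔ A.map (MulAut.conj x).toMonoidHom := ⟨_, rfl⟩
  have hAD : A ≤ D := by rw [hD]; exact le_sup_left
  have hcD : a * (x * a * x⁻¹) ∈ D := by
    refine mul_mem (hAD haA) ?_
    rw [hD]
    exact (le_sup_right : A.map (MulAut.conj x).toMonoidHom ≤ _) ⟨a, haA, rfl⟩
  have hOT : O ≤ T := fun g hg => f.O_le ((hO g).1 hg).1 ((hO g).1 hg).2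
  obtain ⟨c, hc⟩ : ∃ c, c = a * (x * a * x⁻¹) := ⟨_, rfl⟩
  have hpow : ∀ m : ℕ, ∃ o ∈ O, c ^ m = o * x ^ m := fun m => by rw [hc]; exact f.pow_mem hO haT haO haa m
  obtain ⟨o, ho, hoc⟩ := hpow 3
  have hx3 : x ^ 3 = 1 := by rw [← hx.x3]; exact pow_orderOf_eq_one x
  rw [hx3, mul_one] at hoc
  obtain ⟨k, hk⟩ := h.yc.two ⟨o, hOT ho⟩
  have hk' : o ^ 2 ^ k = 1 := congrArg Subtype.val hk
  obtain ⟨y, hy⟩ : ∃ y, y = c ^ 2 ^ k := ⟨_, rfl⟩
  have hy3 : y ^ 3 = 1 := by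
    rw [hy, ← pow_mul, mul_comm, pow_mul, hoc, hk']
  have hy1 : y ≠ 1 := by
    intro h1
    obtain ⟨o', ho', he⟩ := hpow (2 ^ k)
    rw [← hy, h1] at he
    have h2 : x ^ 2 ^ k ∈ T := by
      have h3 : x ^ 2 ^ k = o'⁻¹ := (inv_eq_of_mul_eq_one_right he.symm).symm
      rw [h3]
      exact inv_mem (hOT ho')
    have h3 : orderOf (x ^ 2 ^ k) = 3 := by
      rw [Nat.Coprime.orderOf_pow (by rw [hx.x3]; exact coprime_pow_two k), hx.x3]
    exact f.not_T h3 h2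
  have hTX := h.yc.TX
  have hxX : x ∈ X := h.cmp.cp.le hx.xL
  have hcX : c ∈ X := by
    rw [hc]
    exact mul_mem (hTX haT) (mul_mem (mul_mem hxX (hTX haT)) (inv_mem hxX))
  have hyX : y ∈ X := by rw [hy]; exact Subgroup.pow_mem _ hcX _
  have hgy : Gd L T y := by
    refine ⟨(h.cmp.el3 y hyX ⟨1, by rw [pow_one]; exact hy3⟩).1, orderOf_eq_prime hy3 hy1, fun z hz => ?_⟩
    have h1 : a ∈ centralizer {z} := mem_centralizer_singleton_iff.2 (Block.zc_comm haT hz)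
    have h2 : x ∈ centralizer {z} := mem_centralizer_singleton_iff.2 (hx.xZ z hz)
    have h3 : y ∈ centralizer {z} := by
      rw [hy, hc]
      exact Subgroup.pow_mem _ (mul_mem h1 (mul_mem (mul_mem h2 h1) (inv_mem h2))) _
    exact mem_centralizer_singleton_iff.1 h3
  have hyD : y ∈ D := by rw [hy, hc]; exact Subgroup.pow_mem _ hcD _
  have hle : A ⊔ A.map (MulAut.conj y).toMonoidHom ≤ D := sup_le hAD (map_conj_le hAD hyD)
  have heq : A ⊔ A.map (MulAut.conj y).toMonoidHom = D :=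
    Subgroup.eq_of_le_of_card_ge hle (by rw [hD]; exact hmin y hgy)
  exact ⟨y, hgy, by rw [heq]; exact hyD⟩

/-- **the parabolics** -/
theorem exists_par (h : Lev S X T Y L₀ L) {N : Subgroup G} {p : G} (n : Nt S X T Y L N p ξ) :
    ∃ (O₁ O A : Subgroup G) (x : G), Out S X T Y L O₁ O A ξ x := by
  have f₀ := fr h n
  obtain ⟨O, hO⟩ := f₀.exists_O
  obtain ⟨O₁, hO₁⟩ := Fz.exists_O₁ (L ⊔ T) p (cj ξ p)
  have h4 := relIndex_four h n
  obtain ⟨j, hj, hjn⟩ := f₀.tr_J h4 f₀.pln_q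
  have hjO : j ∉ O := by
    obtain ⟨r, hr, hrp⟩ := f₀.exists_not
    intro hjO
    have h5 := ((hO j).1 hjO).2 r hr
    rw [hjn r hr hrp] at h5
    rcases h5 with h5 | h5
    · exact f₀.q1 (mul_eq_right.1 h5)
    · exact f₀.qp (mul_right_cancel h5)
  obtain ⟨A, hA, hAO⟩ : ∃ A ∈ ChoiceBase.AA (S : Subgroup G), ¬ A ≤ O := by
    by_contra hcon
    push Not at hcon
    have h5 : jj (S : Subgroup G) ≤ O := by rw [ChoiceBase.jj_eq]; exact sSup_le hcon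
    exact hjO (h5 hj)
  have hAT : A ≤ T := (ChoiceBase.le_jj hA).trans f₀.JT
  have hAY : ¬ A ≤ centralizer (Y : Set G) := fun hle => hAO fun a ha =>
    (hO a).2 ⟨f₀.TM (hAT ha), fun m hm => Or.inl (cj_eq_self.2 (mem_centralizer_iff.1 (hle ha) m (n.le hm)).symm)⟩
  obtain ⟨x, hx, hgx⟩ := exists_choice h n hO hA hAO
  have f := fz h n hx
  have hOT : O ≤ T := fun g hg => f.O_le ((hO g).1 hg).1 ((hO g).1 hg).2
  have hTnor : ∀ t ∈ T, t ∈ normalizer (O₁ : Set G) := fun t ht =>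
    f.O₁_nor hO₁ (f.TM ht) (fun m hm => f.pln_T ht hm) fun m hm => f.pln_T (inv_mem ht) hm
  refine ⟨O₁, O, A, x,
    { O₁_le := f.O₁_le hO₁, O₁_rel := f.O₁_rel hO₁, O₁_T := hTnor
      O₁_ξ := f.O₁_nor hO₁ f.zM (fun m hm => f.pln_z hm) fun m hm => f.pln_zi hm
      inv₁ := fun t ht htO => f.O₁_inv hO₁ ht htO, J_le := f.J_le hO₁
      xL := hx.xL, x3 := hx.x3, xZ := hx.xZ, O_le := hOT, O_rel := f.O_rel hO (f.JT hj) hjO
      O_T := fun t ht => f.O_nor hO (f.TM ht) (f.pT t ht), O_x := f.O_nor hO f.xM f.xp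
      inv := fun t ht htO => f.O_inv hO ht htO, A_mem := hA, A_not := hAO, gen_x := hgx
      E_not := ?_, gen := (le_sup_left : L ≤ L ⊔ T).trans f.M_le, memO₁ := ?_, memO := ?_, xfix := ?_, tr := ?_ }⟩
  · -- `E_not`
    obtain ⟨j, hj, hjn⟩ := f.tr_J h4 f.pln_p
    obtain ⟨a, ha, haj⟩ := A_of_J h n hA hAY hj
    have ha1 : ∀ m ∈ N, ¬ Pln p (cj ξ p) m → cj a m = p * m := fun m hm hmp => by rw [← haj m hm, hjn m hm hmp]
    have ha2 : ∀ m ∈ N, Pln p (cj ξ p) m → cj a m = m := fun m hm hmp => by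
      rw [← haj m hm]
      exact cj_eq_self.2 ((f.plane m hm).2 hmp j hj)
    intro hle
    have hxi : ∀ m ∈ N, cj x⁻¹ m ∈ N := fun m hm => f.nor _ (inv_mem f.xM) m hm
    have he : x * a * x⁻¹ ∈ O := by
      refine (hO _).2 ⟨mul_mem (mul_mem f.xM (f.TM (hAT ha))) (inv_mem f.xM), fun m hm => ?_⟩
      rw [cj_cj, cj_cj]
      by_cases hmp : Pln p (cj ξ p) (cj x⁻¹ m)
      · rw [ha2 _ (hxi m hm) hmp, cj_cj_inv]; exact Or.inl rfl
      · rw [ha1 _ (hxi m hm) hmp, cj_mul, cj_cj_inv, f.xp]; exact Or.inr rfl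
    have h5 := (hO₁ _).1 (hle ⟨⟨a, ha, rfl⟩, he⟩)
    have h6 : cj (x * a * x⁻¹) (cj ξ p) = cj ξ p := h5.2.2
    have h7 : ¬ Pln p (cj ξ p) (cj x⁻¹ (cj ξ p)) := by
      intro h8
      rw [f.xinv, cj_cj] at h8
      exact f.not_mul f.qN f.rN f.pln_q f.r_not (f.epln (f.esymm f.s_eq) h8)
    rw [cj_cj, cj_cj, ha1 _ (hxi _ f.qN) h7, cj_mul, cj_cj_inv, f.xp] at h6
    exact f.p1 (mul_eq_right.1 h6)
  · -- `memO₁`
    intro N' p' n' g hg
    have f' := fz h n' hx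
    obtain ⟨O₂, hO₂⟩ := Fz.exists_O₁ (L ⊔ T) p' (cj ξ p')
    have hgξ : ξ⁻¹ * g * ξ ∈ L ⊔ T := mul_mem (mul_mem (inv_mem f.zM) hg) f.zM
    have h5 : cj g p' = p' ∧ cj g (cj ξ p') = cj ξ p' ↔ g ∈ O₂ := by
      rw [hO₂]
      exact ⟨fun h => ⟨hg, h⟩, fun h => h.2⟩
    rw [← cj_eq_self]
    have h6 : g * (ξ * p' * ξ⁻¹) = ξ * p' * ξ⁻¹ * g ↔ cj g (cj ξ p') = cj ξ p' := by
      rw [cj_eq_self]; exact Iff.rfl
    rw [h6, h5, f.O₁_iff hO₁ hg, f'.O₁_iff hO₂ hg, f.P_iff hg, f'.P_iff hg, f.P_iff hgξ, f'.P_iff hgξ]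
  · -- `memO`
    intro N' p' n' g hg
    have f' := fz h n' hx
    have h5 := f'.O_iff hg
    have h6 : g ∈ O ↔ ∀ m ∈ N, Eqp p (cj g m) m := by
      rw [hO]
      exact ⟨fun h => h.2, fun h => ⟨hg, h⟩⟩
    rw [h6, f.O_iff hg]
    exact h5.symm
  · intro N' p' n' m hm
    exact (fz h n' hx).fix_iff hm
  · intro N' p' n' m hm hmJ
    have f' := fz h n' hx
    obtain ⟨j, hj, hjn⟩ := f'.tr_J (relIndex_four h n') ((n'.plane m hm).1 hmJ)
    obtain ⟨a, ha, haj⟩ := A_of_J h n' hA hAY hj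
    refine ⟨a, ha, fun b hb hbJ => ?_⟩
    have h5 := haj b hb
    rw [hjn b hb (fun h6 => hbJ ((n'.plane b hb).2 h6))] at h5
    exact h5.symm

end Cfsg.Agent.OddCyclic.L32.Par
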