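import Mathlib

/-!
# S0342, (C2), [Bc] section 1: the flag of the natural module `N`

`Fr M T J N p q`: `M` acts on the elementary abelian group `N` of order 8, the kernel is a 2-group, `T` is a maximal
2-subgroup of `M`, `J ≤ T` is normal in `T`, `C_N(T) = ⟨p⟩`, `C_N(J) = {1, p, q, pq}`. Then `T` is the stabiliser of the
flag (`Fr.mem_T`), and for `x ∈ C_M(p)` of order 3: `O = C_M(N/⟨p⟩) = T ∩ T^x`, `C_M(p) = T ∪ x T ∪ x⁻¹ T`.
-/

set_option autoImplicit false
set_option linter.unusedSectionVars false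

namespace Cfsg.Agent.OddCyclic.L32.Par

open Subgroup

universe u

variable {G : Type u} [Group G]

/-- conjugation -/
def cj (g n : G) : G := g * n * g⁻¹

theorem cj_mul (g a b : G) : cj g (a * b) = cj g a * cj g b := by unfold cj; group

theorem cj_cj (g h n : G) : cj (g * h) n = cj g (cj h n) := by unfold cj; group

theorem cj_one (g : G) : cj g 1 = 1 := by unfold cj; group

theorem one_cj (n : G) : cj 1 n = n := by unfold cj; group

theorem cj_inv_cj (g n : G) : cj g⁻¹ (cj g n) = n := by unfold cj; group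

theorem cj_cj_inv (g n : G) : cj g (cj g⁻¹ n) = n := by unfold cj; group

theorem cj_inj {g a b : G} (h : cj g a = cj g b) : a = b := by
  rw [← cj_inv_cj g a, h, cj_inv_cj]

theorem cj_eq_self {g n : G} : cj g n = n ↔ g * n = n * g := by
  unfold cj
  exact mul_inv_eq_iff_eq_mul

theorem cj_inv_eq {g a b : G} (h : cj g a = b) : cj g⁻¹ b = a := by rw [← h, cj_inv_cj]

/-- the plane `{1, p, q, pq}` -/
def Pln (p q n : G) : Prop := n = 1 ∨ n = p ∨ n = q ∨ n = p * q

/-- equality modulo `⟨p⟩` -/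
def Eqp (p a b : G) : Prop := a = b ∨ a = p * b

theorem Eqp.refl (p a : G) : Eqp p a a := Or.inl rfl

variable [Finite G]

structure Fr (M T J N : Subgroup G) (p q : G) : Prop where
  TM : T ≤ M
  two : IsPGroup 2 T
  TJ : T ≤ normalizer (J : Set G)
  JT : J ≤ T
  nor : ∀ g ∈ M, ∀ n ∈ N, cj g n ∈ N
  card : Nat.card N = 8
  sq : ∀ n ∈ N, n * n = 1
  comm : ∀ n ∈ N, ∀ m ∈ N, n * m = m * n
  pN : p ∈ N
  p1 : p ≠ 1
  pT : ∀ t ∈ T, cj t p = p
  eq_p : ∀ n ∈ N, n ≠ 1 → (∀ t ∈ T, cj t n = n) → n = p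
  qN : q ∈ N
  q1 : q ≠ 1
  qp : q ≠ p
  plane : ∀ n ∈ N, (∀ j ∈ J, j * n = n * j) ↔ Pln p q n
  big : ∀ F : Subgroup G, T ≤ F → F ≤ M → IsPGroup 2 F → F ≤ T
  cent : ∀ g ∈ M, (∀ n ∈ N, cj g n = n) → ∃ k : ℕ, g ^ 2 ^ k = 1

namespace Fr

variable {M T J N : Subgroup G} {p q : G} (f : Fr M T J N p q)

include f

theorem pp {n : G} (hn : n ∈ N) : n * n = 1 := f.sq n hn

theorem pmul (a : G) : p * (p * a) = a := by rw [← mul_assoc, f.sq p f.pN, one_mul]

theorem qmul (a : G) : q * (q * a) = a := by rw [← mul_assoc, f.sq q f.qN, one_mul]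

theorem pqN : p * q ∈ N := mul_mem f.pN f.qN

theorem pln_mem {n : G} (h : Pln p q n) : n ∈ N := by
  rcases h with rfl | rfl | rfl | rfl
  · exact one_mem _
  · exact f.pN
  · exact f.qN
  · exact f.pqN

theorem pln_p : Pln p q p := Or.inr (Or.inl rfl)

theorem pln_q : Pln p q q := Or.inr (Or.inr (Or.inl rfl))

theorem pln_pq : Pln p q (p * q) := Or.inr (Or.inr (Or.inr rfl))

theorem pq1 : p * q ≠ 1 := by
  intro h
  apply f.qp
  calc q = p * (p * q) := (f.pmul q).symm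
    _ = p := by rw [h, mul_one]

theorem mem_inf {n : G} : n ∈ N ⊓ centralizer (J : Set G) ↔ Pln p q n := by
  constructor
  · rintro ⟨h1, h2⟩
    exact (f.plane n h1).1 fun j hj => mem_centralizer_iff.1 h2 j hj
  · intro h1
    have h2 := f.pln_mem h1
    exact ⟨h2, mem_centralizer_iff.2 fun j hj => (f.plane n h2).2 h1 j hj⟩

theorem card_inf : Nat.card (N ⊓ centralizer (J : Set G) : Subgroup G) = 4 := by
  have h1 : ((N ⊓ centralizer (J : Set G) : Subgroup G) : Set G) = {1, p, q, p * q} := by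
    ext n
    rw [SetLike.mem_coe, f.mem_inf]
    simp only [Set.mem_insert_iff, Set.mem_singleton_iff]
    exact Iff.rfl
  rw [← SetLike.coe_sort_coe, h1, Nat.card_coe_set_eq]
  have hpq : p ≠ p * q := fun h => f.q1 (by
    have := mul_left_cancel (a := p) (b := 1) (c := q) (by rw [mul_one]; exact h)
    exact this.symm)
  have hqq : q ≠ p * q := fun h => f.p1 (by
    have := mul_right_cancel (a := 1) (b := q) (c := p) (by rw [one_mul]; exact h)
    exact this.symm)
  rw [Set.ncard_insert_of_notMem, Set.ncard_insert_of_notMem, Set.ncard_pair hqq]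
  · simp only [Set.mem_insert_iff, Set.mem_singleton_iff, not_or]
    exact ⟨f.qp.symm, hpq⟩
  · simp only [Set.mem_insert_iff, Set.mem_singleton_iff, not_or]
    exact ⟨f.p1.symm, f.q1.symm, f.pq1.symm⟩

theorem mul_iff {a b : G} (ha : a ∈ N) (hb : b ∈ N) : Pln p q (a * b) ↔ (Pln p q a ↔ Pln p q b) := by
  obtain ⟨C, hC⟩ : ∃ C : Subgroup G, C = N ⊓ centralizer (J : Set G) := ⟨_, rfl⟩
  have hm : ∀ n, Pln p q n ↔ n ∈ C := fun n => by rw [hC, f.mem_inf]
  have hCN : C ≤ N := by rw [hC]; exact inf_le_left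
  have h1 : (C.subgroupOf N).index = 2 := by
    have h2 := Subgroup.card_mul_index (C.subgroupOf N)
    rw [Nat.card_congr (Subgroup.subgroupOfEquivOfLe hCN).toEquiv, f.card, hC, f.card_inf] at h2
    rw [hC]
    omega
  have h3 := Subgroup.mul_mem_iff_of_index_two h1 (a := ⟨a, ha⟩) (b := ⟨b, hb⟩)
  rw [hm, hm, hm]
  exact h3

theorem mul_of_not {a b : G} (ha : a ∈ N) (hb : b ∈ N) (h1 : ¬ Pln p q a) (h2 : ¬ Pln p q b) : Pln p q (a * b) :=
  (f.mul_iff ha hb).2 ⟨fun h => (h1 h).elim, fun h => (h2 h).elim⟩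

theorem not_mul {a b : G} (ha : a ∈ N) (hb : b ∈ N) (h1 : Pln p q a) (h2 : ¬ Pln p q b) : ¬ Pln p q (a * b) :=
  fun h => h2 (((f.mul_iff ha hb).1 h).1 h1)

theorem exists_not : ∃ n ∈ N, ¬ Pln p q n := by
  by_contra hcon
  push Not at hcon
  have h1 : N ≤ N ⊓ centralizer (J : Set G) := fun n hn => f.mem_inf.2 (hcon n hn)
  have h2 : N = N ⊓ centralizer (J : Set G) := le_antisymm h1 inf_le_left
  have h3 := f.card
  rw [h2, f.card_inf] at h3
  norm_num at h3

/-! ### `T` -/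

theorem pln_T {t n : G} (ht : t ∈ T) (hn : Pln p q n) : Pln p q (cj t n) := by
  refine (f.plane _ (f.nor t (f.TM ht) n (f.pln_mem hn))).1 fun j hj => ?_
  have h1 := (f.plane n (f.pln_mem hn)).2 hn (t⁻¹ * j * t) (by
    have := (mem_normalizer_iff.1 (inv_mem (f.TJ ht)) j).1 hj
    rwa [inv_inv] at this)
  unfold cj
  calc j * (t * n * t⁻¹) = t * ((t⁻¹ * j * t) * n) * t⁻¹ := by group
    _ = t * (n * (t⁻¹ * j * t)) * t⁻¹ := by rw [h1]
    _ = t * n * t⁻¹ * j := by group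

theorem ne_of_fix {g a : G} (hg : cj g p = p) (ha : a ≠ p) : cj g a ≠ p := fun h => ha (cj_inj (by rw [h, hg]))

theorem cj_ne_one {g a : G} (ha : a ≠ 1) : cj g a ≠ 1 := fun h => ha (cj_inj (g := g) (by rw [h, cj_one]))

theorem q_T {t : G} (ht : t ∈ T) : Eqp p (cj t q) q := by
  rcases f.pln_T ht f.pln_q with h | h | h | h
  · exact (f.cj_ne_one f.q1 h).elim
  · exact (f.ne_of_fix (f.pT t ht) f.qp h).elim
  · exact Or.inl h
  · exact Or.inr h

/-- **`T` is the stabiliser of the flag** -/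
theorem mem_T {g : G} (hg : g ∈ M) (hp : cj g p = p) (hq : Eqp p (cj g q) q) : g ∈ T := by
  obtain ⟨F, hF⟩ : ∃ F : Subgroup G, ∀ g, g ∈ F ↔ g ∈ M ∧ cj g p = p ∧ Eqp p (cj g q) q := by
    refine ⟨{ carrier := {g | g ∈ M ∧ cj g p = p ∧ Eqp p (cj g q) q}, mul_mem' := ?_, one_mem' := ?_,
              inv_mem' := ?_ }, fun g => Iff.rfl⟩
    · rintro a b ⟨ha, hap, haq⟩ ⟨hb, hbp, hbq⟩
      refine ⟨mul_mem ha hb, by rw [cj_cj, hbp, hap], ?_⟩
      rw [cj_cj]
      rcases hbq with h | h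
      · rw [h]; exact haq
      · rw [h, cj_mul, hap]
        rcases haq with h2 | h2
        · rw [h2]; exact Or.inr rfl
        · rw [h2, f.pmul]; exact Or.inl rfl
    · exact ⟨one_mem _, one_cj _, Or.inl (one_cj _)⟩
    · rintro a ⟨ha, hap, haq⟩
      have h1 := cj_inv_eq hap
      refine ⟨inv_mem ha, h1, ?_⟩
      rcases haq with h | h
      · exact Or.inl (cj_inv_eq h)
      · right
        have h2 := cj_inv_eq h
        rw [cj_mul, h1] at h2
        calc cj a⁻¹ q = p * (p * cj a⁻¹ q) := (f.pmul _).symm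
          _ = p * q := by rw [h2]
  have hTF : T ≤ F := fun t ht => (hF t).2 ⟨f.TM ht, f.pT t ht, f.q_T ht⟩
  have hFM : F ≤ M := fun g hg => ((hF g).1 hg).1
  have h2 : IsPGroup 2 F := by
    rintro ⟨g, hg⟩
    obtain ⟨hgM, hgp, hgq⟩ := (hF g).1 hg
    have h1 : cj (g * g) p = p := by rw [cj_cj, hgp, hgp]
    have h2 : cj (g * g) q = q := by
      rw [cj_cj]
      rcases hgq with h | h
      · rw [h, h]
      · rw [h, cj_mul, hgp, h, f.pmul]
    have h3 : ∀ n, Pln p q n → cj (g * g) n = n := by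
      rintro n (rfl | rfl | rfl | rfl)
      · exact cj_one _
      · exact h1
      · exact h2
      · rw [cj_mul, h1, h2]
    have hggM : g * g ∈ M := mul_mem hgM hgM
    have h4 : ∀ n ∈ N, cj (g * g * (g * g)) n = n := by
      intro n hn
      by_cases hnp : Pln p q n
      · rw [cj_cj, h3 n hnp, h3 n hnp]
      · have h5 : ¬ Pln p q (cj (g * g) n) := fun h6 => by
          have h7 := h3 _ h6
          exact hnp (by rw [← cj_inj h7]; exact h6)
        have h6 := f.mul_of_not hn (f.nor _ hggM n hn) hnp h5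
        have h7 := h3 _ h6
        rw [cj_mul] at h7
        have h8 : cj (g * g) (cj (g * g) n) = (cj (g * g) n)⁻¹ * (n * cj (g * g) n) := by
          rw [← h7]; group
        rw [cj_cj, h8, f.comm n hn _ (f.nor _ hggM n hn)]
        group
    obtain ⟨k, hk⟩ := f.cent _ (mul_mem hggM hggM) h4
    refine ⟨k + 2, Subtype.ext ?_⟩
    show g ^ 2 ^ (k + 2) = 1
    rw [pow_add, mul_comm, pow_mul]
    have h9 : g ^ 2 ^ 2 = g * g * (g * g) := by rw [show (2 : ℕ) ^ 2 = 2 + 2 from rfl, pow_add, pow_two]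
    rw [h9, hk]
  exact f.big F hTF hFM h2 ((hF g).2 ⟨hg, hp, hq⟩)

theorem not_T {x : G} (hx : orderOf x = 3) : x ∉ T := by
  intro h
  obtain ⟨k, hk⟩ := f.two ⟨x, h⟩
  have h1 : x ^ 2 ^ k = 1 := congrArg Subtype.val hk
  have h2 : 3 ∣ 2 ^ k := by rw [← hx]; exact orderOf_dvd_of_pow_eq_one h1
  have h3 := (Nat.prime_dvd_prime_iff_eq Nat.prime_three Nat.prime_two).1 (Nat.prime_three.dvd_of_dvd_pow h2)
  norm_num at h3

/-! ### equality modulo `⟨p⟩` -/

theorem esymm {a b : G} (h : Eqp p a b) : Eqp p b a := by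
  rcases h with rfl | rfl
  · exact Or.inl rfl
  · exact Or.inr (f.pmul b).symm

theorem etrans {a b c : G} (h : Eqp p a b) (h' : Eqp p b c) : Eqp p a c := by
  rcases h with rfl | rfl
  · exact h'
  · rcases h' with rfl | rfl
    · exact Or.inr rfl
    · exact Or.inl (f.pmul c)

theorem emul {a b c d : G} (ha : a ∈ N) (hc : c ∈ N) (h : Eqp p a b) (h' : Eqp p c d) : Eqp p (a * c) (b * d) := by
  rcases h with rfl | rfl
  · rcases h' with rfl | rfl
    · exact Or.inl rfl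
    · right
      rw [← mul_assoc, f.comm a ha p f.pN, mul_assoc]
  · have hb : b ∈ N := by
      have := mul_mem f.pN ha
      rwa [f.pmul] at this
    rcases h' with rfl | rfl
    · right; rw [mul_assoc]
    · left
      rw [mul_assoc, ← mul_assoc b p d, f.comm b hb p f.pN, mul_assoc, f.pmul]

theorem ecj {g a b : G} (hg : cj g p = p) (h : Eqp p a b) : Eqp p (cj g a) (cj g b) := by
  rcases h with rfl | rfl
  · exact Or.inl rfl
  · right; rw [cj_mul, hg]

theorem epln {a b : G} (h : Eqp p a b) (hb : Pln p q b) : Pln p q a := by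
  rcases h with rfl | rfl
  · exact hb
  · exact (f.mul_iff f.pN (f.pln_mem hb)).2 ⟨fun _ => hb, fun _ => f.pln_p⟩

theorem eq_of_pln {a : G} (h : Pln p q a) : Eqp p a 1 ∨ Eqp p a q := by
  rcases h with rfl | rfl | rfl | rfl
  · exact Or.inl (Or.inl rfl)
  · exact Or.inl (Or.inr (mul_one _).symm)
  · exact Or.inr (Or.inl rfl)
  · exact Or.inr (Or.inr rfl)

theorem eN {a b : G} (h : Eqp p a b) (hb : b ∈ N) : a ∈ N := by
  rcases h with rfl | rfl
  · exact hb
  · exact mul_mem f.pN hb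

/-- `N = H ∪ r H` -/
theorem cases {r n : G} (hr : r ∈ N) (hrp : ¬ Pln p q r) (hn : n ∈ N) :
    Eqp p n 1 ∨ Eqp p n q ∨ Eqp p n r ∨ Eqp p n (q * r) := by
  by_cases h : Pln p q n
  · rcases f.eq_of_pln h with h1 | h1
    · exact Or.inl h1
    · exact Or.inr (Or.inl h1)
  · have h1 := f.mul_of_not hn hr h hrp
    have h2 : n = n * r * r := by rw [mul_assoc, f.sq r hr, mul_one]
    rcases f.eq_of_pln h1 with h3 | h3
    · right; right; left
      have h4 := f.emul (mul_mem hn hr) hr h3 (Eqp.refl p r)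
      rwa [← h2, one_mul] at h4
    · right; right; right
      have h4 := f.emul (mul_mem hn hr) hr h3 (Eqp.refl p r)
      rwa [← h2] at h4

/-! ### `O` -/

omit f in
/-- `C_M(N/⟨p⟩)` -/
theorem exists_O (f : Fr M T J N p q) :
    ∃ O : Subgroup G, ∀ g, g ∈ O ↔ g ∈ M ∧ ∀ n ∈ N, Eqp p (cj g n) n := by
  refine ⟨{ carrier := {g | g ∈ M ∧ ∀ n ∈ N, Eqp p (cj g n) n}, mul_mem' := ?_, one_mem' := ?_,
            inv_mem' := ?_ }, fun g => Iff.rfl⟩
  · rintro a b ⟨ha, haN⟩ ⟨hb, hbN⟩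
    refine ⟨mul_mem ha hb, fun n hn => ?_⟩
    rw [cj_cj]
    exact f.etrans (haN _ (f.nor b hb n hn)) (hbN n hn)
  · exact ⟨one_mem _, fun n _ => Or.inl (one_cj n)⟩
  · rintro a ⟨ha, haN⟩
    refine ⟨inv_mem ha, fun n hn => ?_⟩
    have h1 := haN _ (f.nor a⁻¹ (inv_mem ha) n hn)
    rw [cj_cj_inv] at h1
    exact f.esymm h1

theorem O_p {g : G} (hg : ∀ n ∈ N, Eqp p (cj g n) n) : cj g p = p := by
  rcases hg p f.pN with h | h
  · exact h
  · rw [f.sq p f.pN] at h
    exact (f.cj_ne_one f.p1 h).elim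

theorem O_le {g : G} (hgM : g ∈ M) (hg : ∀ n ∈ N, Eqp p (cj g n) n) : g ∈ T := f.mem_T hgM (f.O_p hg) (hg q f.qN)

/-- `O` is determined on `q`, `r` -/
theorem O_of {r g : G} (hr : r ∈ N) (hrp : ¬ Pln p q r) (hgM : g ∈ M) (hgp : cj g p = p) (hgq : Eqp p (cj g q) q)
    (hgr : Eqp p (cj g r) r) : ∀ n ∈ N, Eqp p (cj g n) n := by
  intro n hn
  have key : ∀ m, m ∈ N → Eqp p (cj g m) m → Eqp p n m → Eqp p (cj g n) n := fun m _ h1 h2 =>
    f.etrans (f.ecj hgp h2) (f.etrans h1 (f.esymm h2))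
  rcases f.cases hr hrp hn with h | h | h | h
  · exact key 1 (one_mem _) (Or.inl (cj_one g)) h
  · exact key q f.qN hgq h
  · exact key r hr hgr h
  · refine key (q * r) (mul_mem f.qN hr) ?_ h
    rw [cj_mul]
    exact f.emul (f.nor g hgM q f.qN) (f.nor g hgM r hr) hgq hgr

end Fr

end Cfsg.Agent.OddCyclic.L32.Par
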