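import Cfsg.Agent.OddCyclic.L32.ParF

/-!
# S0342, (C2), [Bc] section 1: the element `x ∈ C_M(p)` of order 3
-/

set_option autoImplicit false
set_option linter.unusedSectionVars false

namespace Cfsg.Agent.OddCyclic.L32.Par

open Subgroup

universe u

variable {G : Type u} [Group G] [Finite G]

/-- `x ∈ C_M(p)` of order 3 -/
structure Fx (M T J N : Subgroup G) (p q x : G) : Prop extends Fr M T J N p q where
  xM : x ∈ M
  x3 : orderOf x = 3
  xp : cj x p = p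

namespace Fx

variable {M T J N : Subgroup G} {p q x : G} (f : Fx M T J N p q x)

include f

theorem xxx : x * x * x = 1 := by
  have := pow_orderOf_eq_one x
  rwa [f.x3, pow_succ, pow_two] at this

theorem xinv : x⁻¹ = x * x := inv_eq_of_mul_eq_one_left f.xxx

theorem cj3 (n : G) : cj x (cj x (cj x n)) = n := by
  rw [← cj_cj, ← cj_cj, f.xxx, one_cj]

theorem xT : x ∉ T := f.toFr.not_T f.x3

theorem rN : cj x q ∈ N := f.nor x f.xM q f.qN

theorem r_not : ¬ Pln p q (cj x q) := by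
  intro h
  rcases f.eq_of_pln h with h | h
  · rcases h with h | h
    · exact f.cj_ne_one f.q1 h
    · rw [mul_one] at h
      exact f.ne_of_fix f.xp f.qp h
  · exact f.xT (f.mem_T f.xM f.xp h)

theorem sN : cj x (cj x q) ∈ N := f.nor x f.xM _ f.rN

theorem nsr : ¬ Eqp p (cj x (cj x q)) (cj x q) := by
  intro h
  have h1 := f.ecj f.xp h
  rw [f.cj3] at h1
  exact f.r_not (f.epln (f.esymm (f.etrans h1 h)) f.pln_q)

theorem nsq : ¬ Eqp p (cj x (cj x q)) q := by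
  intro h
  have h1 := f.ecj f.xp h
  rw [f.cj3] at h1
  exact f.r_not (f.epln (f.esymm h1) f.pln_q)

theorem q_not1 : ¬ Eqp p q 1 := by
  rintro (h | h)
  · exact f.q1 h
  · rw [mul_one] at h; exact f.qp h

/-- `s = q r` modulo `⟨p⟩` -/
theorem s_eq : Eqp p (cj x (cj x q)) (q * cj x q) := by
  rcases f.cases f.rN f.r_not f.sN with h | h | h | h
  · have h1 := f.ecj f.xp h
    rw [f.cj3, cj_one] at h1
    exact (f.q_not1 h1).elim
  · exact (f.nsq h).elim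
  · exact (f.nsr h).elim
  · exact h

/-- `C_N(x) = ⟨p⟩` -/
theorem fix {n : G} (hn : n ∈ N) (h : cj x n = n) : n = 1 ∨ n = p := by
  rcases f.cases f.rN f.r_not hn with h1 | h1 | h1 | h1
  · rcases h1 with h1 | h1
    · exact Or.inl h1
    · right; rw [h1, mul_one]
  · have h2 := f.ecj f.xp h1
    rw [h] at h2
    exact (f.r_not (f.epln (f.etrans (f.esymm h2) h1) f.pln_q)).elim
  · have h2 := f.ecj f.xp h1
    rw [h] at h2
    exact (f.nsr (f.etrans (f.esymm h2) h1)).elim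
  · have h2 := f.ecj f.xp h1
    rw [h, cj_mul] at h2
    -- `q r ~ n ~ r s`
    have h3 := f.etrans (f.esymm h1) h2
    have h4 := f.emul (mul_mem f.qN f.rN) f.rN h3 (Eqp.refl p (cj x q))
    rw [mul_assoc, f.sq _ f.rN, mul_one, mul_assoc, f.comm _ f.sN _ f.rN, ← mul_assoc, f.sq _ f.rN, one_mul] at h4
    exact (f.nsq (f.esymm h4)).elim

theorem fix_iff {n : G} (hn : n ∈ N) : x * n = n * x ↔ n = 1 ∨ n = p := by
  rw [← cj_eq_self]
  constructor
  · exact f.fix hn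
  · rintro (rfl | rfl)
    · exact cj_one _
    · exact f.xp

/-! ### `O` -/

/-- `O = T ∩ T^x` -/
theorem O_iff {g : G} (hg : g ∈ M) : (∀ n ∈ N, Eqp p (cj g n) n) ↔ g ∈ T ∧ x⁻¹ * g * x ∈ T := by
  have hgx : x⁻¹ * g * x ∈ M := mul_mem (mul_mem (inv_mem f.xM) hg) f.xM
  have hxi : cj x⁻¹ p = p := cj_inv_eq f.xp
  constructor
  · intro h
    refine ⟨f.O_le hg h, f.mem_T hgx ?_ ?_⟩
    · rw [cj_cj, cj_cj, f.xp, f.O_p h, hxi]
    · rw [cj_cj, cj_cj]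
      have h1 := f.ecj hxi (h _ f.rN)
      rwa [cj_inv_cj] at h1
  · rintro ⟨h1, h2⟩
    refine f.O_of f.rN f.r_not hg (f.pT g h1) (f.q_T h1) ?_
    have h3 := f.ecj f.xp (f.q_T h2)
    rwa [← cj_cj, ← mul_assoc, ← mul_assoc, mul_inv_cancel, one_mul, cj_cj] at h3

/-- `t ∈ T∖O` moves `r` -/
theorem not_O {t r : G} (hr : r ∈ N) (hrp : ¬ Pln p q r) (ht : t ∈ T) (htO : ¬ ∀ n ∈ N, Eqp p (cj t n) n) :
    Eqp p (cj t r) (q * r) := by
  have htM := f.TM ht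
  have h0 : ¬ Pln p q (cj t r) := by
    intro h
    have h1 := f.pln_T (inv_mem ht) h
    rw [cj_inv_cj] at h1
    exact hrp h1
  rcases f.cases hr hrp (f.nor t htM r hr) with h | h | h | h
  · exact (h0 (f.epln h (Or.inl rfl))).elim
  · exact (h0 (f.epln h f.pln_q)).elim
  · exact (htO (f.O_of hr hrp htM (f.pT t ht) (f.q_T ht) h)).elim
  · exact h

/-- `T⟨x⟩` normalises `O` -/
theorem O_nor {O : Subgroup G} (hO : ∀ g, g ∈ O ↔ g ∈ M ∧ ∀ n ∈ N, Eqp p (cj g n) n) {y : G} (hy : y ∈ M)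
    (hyp : cj y p = p) : y ∈ normalizer (O : Set G) := by
  have key : ∀ y ∈ M, cj y p = p → ∀ g ∈ O, y * g * y⁻¹ ∈ O := by
    intro y hy hyp g hg
    obtain ⟨h1, h2⟩ := (hO g).1 hg
    refine (hO _).2 ⟨mul_mem (mul_mem hy h1) (inv_mem hy), fun n hn => ?_⟩
    rw [cj_cj, cj_cj]
    have h3 := f.ecj hyp (h2 _ (f.nor _ (inv_mem hy) n hn))
    rwa [cj_cj_inv] at h3
  rw [mem_normalizer_iff]
  intro g
  refine ⟨key y hy hyp g, fun h => ?_⟩
  have h1 := key y⁻¹ (inv_mem hy) (cj_inv_eq hyp) _ h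
  have h2 : y⁻¹ * (y * g * y⁻¹) * y⁻¹⁻¹ = g := by group
  rwa [h2] at h1

theorem O_inv {O : Subgroup G} (hO : ∀ g, g ∈ O ↔ g ∈ M ∧ ∀ n ∈ N, Eqp p (cj g n) n) {t : G} (ht : t ∈ T)
    (htO : t ∉ O) : t * x * t⁻¹ * x ∈ O := by
  have htM := f.TM ht
  have h1 : ¬ ∀ n ∈ N, Eqp p (cj t n) n := fun h => htO ((hO t).2 ⟨htM, h⟩)
  have h2 : ¬ ∀ n ∈ N, Eqp p (cj t⁻¹ n) n := fun h => htO (by
    have := inv_mem ((hO t⁻¹).2 ⟨inv_mem htM, h⟩)
    rwa [inv_inv] at this)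
  have h3 := f.not_O f.rN f.r_not ht h1
  have h4 := f.not_O f.rN f.r_not (inv_mem ht) h2
  have hti : cj t⁻¹ p = p := f.pT _ (inv_mem ht)
  have htp : cj t p = p := f.pT _ ht
  have hqr : q * cj x q ∈ N := mul_mem f.qN f.rN
  have hM : t * x * t⁻¹ * x ∈ M := mul_mem (mul_mem (mul_mem htM f.xM) (inv_mem htM)) f.xM
  -- `x (q r) ~ r s ~ q`
  have h5 : Eqp p (cj x (q * cj x q)) q := by
    rw [cj_mul]
    have h6 := f.emul f.rN f.sN (Eqp.refl p (cj x q)) f.s_eq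
    rwa [f.comm q f.qN _ f.rN, ← mul_assoc, f.sq _ f.rN, one_mul] at h6
  -- `t (q r) ~ r`
  have h6 : ∀ t' ∈ T, Eqp p (cj t' (cj x q)) (q * cj x q) → Eqp p (cj t' (q * cj x q)) (cj x q) := by
    intro t' ht' h
    rw [cj_mul]
    have h7 := f.emul (f.nor _ (f.TM ht') _ f.qN) (f.nor _ (f.TM ht') _ f.rN) (f.q_T ht') h
    rwa [f.qmul] at h7
  refine (hO _).2 ⟨hM, f.O_of f.rN f.r_not hM ?_ ?_ ?_⟩
  · rw [cj_cj, cj_cj, cj_cj, f.xp, hti, f.xp, htp]
  · rw [cj_cj, cj_cj, cj_cj]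
    exact f.etrans (f.ecj htp (f.etrans (f.ecj f.xp h4) h5)) (f.q_T ht)
  · rw [cj_cj, cj_cj, cj_cj]
    have h7 := f.etrans (f.ecj hti f.s_eq) (h6 _ (inv_mem ht) h4)
    exact f.etrans (f.ecj htp (f.etrans (f.ecj f.xp h7) f.s_eq)) (h6 t ht h3)

theorem O_rel {O : Subgroup G} (hO : ∀ g, g ∈ O ↔ g ∈ M ∧ ∀ n ∈ N, Eqp p (cj g n) n) {j : G} (hj : j ∈ T)
    (hjO : j ∉ O) : O.relIndex T = 2 := by
  rw [relIndex_eq_two_iff_exists_notMem_and']
  refine ⟨j, hj, hjO, fun b hb => ?_⟩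
  by_cases hbO : b ∈ O
  · exact Or.inr hbO
  · left
    have h1 : ∀ t ∈ T, t ∉ O → Eqp p (cj t (cj x q)) (q * cj x q) := fun t ht htO =>
      f.not_O f.rN f.r_not ht fun h => htO ((hO t).2 ⟨f.TM ht, h⟩)
    refine (hO _).2 ⟨f.TM (mul_mem hj hb), f.O_of f.rN f.r_not (f.TM (mul_mem hj hb)) (f.pT _ (mul_mem hj hb))
      (f.q_T (mul_mem hj hb)) ?_⟩
    rw [cj_cj]
    refine f.etrans (f.ecj (f.pT j hj) (h1 b hb hbO)) ?_
    rw [cj_mul]
    have h7 := f.emul (f.nor _ (f.TM hj) _ f.qN) (f.nor _ (f.TM hj) _ f.rN) (f.q_T hj) (h1 j hj hjO)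
    rwa [f.qmul] at h7

/-! ### `C_M(p)` -/

theorem P_iff {g : G} (hg : g ∈ M) : cj g p = p ↔ g ∈ T ∨ x⁻¹ * g ∈ T ∨ x * g ∈ T := by
  have hxi : cj x⁻¹ p = p := cj_inv_eq f.xp
  constructor
  · intro h
    rcases f.cases f.rN f.r_not (f.nor g hg q f.qN) with h1 | h1 | h1 | h1
    · rcases h1 with h1 | h1
      · exact (f.cj_ne_one f.q1 h1).elim
      · rw [mul_one] at h1
        exact (f.ne_of_fix h f.qp h1).elim
    · exact Or.inl (f.mem_T hg h h1)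
    · right; left
      refine f.mem_T (mul_mem (inv_mem f.xM) hg) (by rw [cj_cj, h, hxi]) ?_
      have h2 := f.ecj hxi h1
      rwa [cj_inv_cj, ← cj_cj] at h2
    · right; right
      refine f.mem_T (mul_mem f.xM hg) (by rw [cj_cj, h, f.xp]) ?_
      have h2 := f.ecj f.xp (f.etrans h1 (f.esymm f.s_eq))
      rwa [f.cj3, ← cj_cj] at h2
  · rintro (h | h | h)
    · exact f.pT g h
    · have h1 := f.pT _ h
      rw [cj_cj] at h1
      exact cj_inj (h1.trans hxi.symm)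
    · have h1 := f.pT _ h
      rw [cj_cj] at h1
      exact cj_inj (h1.trans f.xp.symm)

/-- the product of two involutions outside `O` -/
theorem pow_mem {O : Subgroup G} (hO : ∀ g, g ∈ O ↔ g ∈ M ∧ ∀ n ∈ N, Eqp p (cj g n) n) {a : G} (ha : a ∈ T)
    (haO : a ∉ O) (haa : a * a = 1) (n : ℕ) : ∃ o ∈ O, (a * (x * a * x⁻¹)) ^ n = o * x ^ n := by
  have h1 := f.O_inv hO ha haO
  have hx := f.O_nor hO f.xM f.xp
  induction n with
  | zero => exact ⟨1, one_mem _, by simp⟩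
  | succ n ih =>
    obtain ⟨o, ho, he⟩ := ih
    have h2 : a * (x * a * x⁻¹) = a * x * a⁻¹ * x * x := by
      rw [f.xinv, inv_eq_of_mul_eq_one_left haa]; group
    refine ⟨o * (x ^ n * (a * x * a⁻¹ * x) * (x ^ n)⁻¹),
      mul_mem ho ((mem_normalizer_iff.1 (Subgroup.pow_mem _ hx n) _).1 h1), ?_⟩
    rw [pow_succ, he, h2, pow_succ]
    generalize a * x * a⁻¹ * x = c
    generalize x ^ n = y
    group

end Fx

end Cfsg.Agent.OddCyclic.L32.Par
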