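import Cfsg.Agent.OddCyclic.L32.ConfE
import Cfsg.Agent.Lib.NormalAbelian

/-!
# S0342, (C2), [Bc] section 1: `Ω₁Z(T)` is moved by `L`, `T` a Sylow 2-subgroup of `N_G(L)`

`N ≤ Z(O₂(L))` natural, `W = ⟨N^{N_G(L)}⟩`; an element `l ∈ L` of order 7 modulo `O₂(L)` has no fixed points on `W`
(norm argument), so `L` moves `1 ≠ c ∈ C_W(T)`.
-/

set_option autoImplicit false
set_option linter.unusedSectionVars false

namespace Cfsg.Agent.OddCyclic.L32

open Subgroup Cfsg Cfsg.Agent.ZN Cfsg.Agent.MinSimple Cfsg.Agent.OddCyclic.UniStruct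
open Cfsg.Agent.ZN.Block (o2_isPGroup conj_mem_of_normalizer conj_mem_of_normalizer' le_normalizer_of_forall)
open Cfsg.Agent.OddCyclic.RedTy

universe u

section nm

variable {G : Type*} [Group G]

/-- `w · w^l ⋯ w^{l^{k-1}}` -/
def nm (l : G) : ℕ → G → G
  | 0, _ => 1
  | k + 1, w => nm l k w * (l ^ k * w * (l ^ k)⁻¹)

theorem nm_zero (l w : G) : nm l 0 w = 1 := rfl

theorem nm_succ (l : G) (k : ℕ) (w : G) : nm l (k + 1) w = nm l k w * (l ^ k * w * (l ^ k)⁻¹) := rfl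

theorem nm_mem {l : G} {Z : Subgroup G} (hl : ∀ z ∈ Z, l * z * l⁻¹ ∈ Z) {w : G} (hw : w ∈ Z) (k : ℕ) :
    l ^ k * w * (l ^ k)⁻¹ ∈ Z ∧ nm l k w ∈ Z := by
  induction k with
  | zero => exact ⟨by simpa using hw, by rw [nm_zero]; exact one_mem _⟩
  | succ k ih =>
    refine ⟨?_, by rw [nm_succ]; exact mul_mem ih.2 ih.1⟩
    have e : l ^ (k + 1) * w * (l ^ (k + 1))⁻¹ = l * (l ^ k * w * (l ^ k)⁻¹) * l⁻¹ := by rw [pow_succ']; group
    rw [e]; exact hl _ ih.1

theorem nm_mul {l : G} {Z : Subgroup G} (hl : ∀ z ∈ Z, l * z * l⁻¹ ∈ Z) (hZ : ∀ a ∈ Z, ∀ b ∈ Z, a * b = b * a)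
    {v w : G} (hv : v ∈ Z) (hw : w ∈ Z) (k : ℕ) : nm l k (v * w) = nm l k v * nm l k w := by
  induction k with
  | zero => simp [nm_zero]
  | succ k ih =>
    rw [nm_succ, nm_succ, nm_succ, ih]
    have h1 := (nm_mem hl hv k).1
    have h2 := (nm_mem hl hw k).2
    have h3 := hZ _ h1 _ h2
    have e : l ^ k * (v * w) * (l ^ k)⁻¹ = (l ^ k * v * (l ^ k)⁻¹) * (l ^ k * w * (l ^ k)⁻¹) := by group
    rw [e]
    calc nm l k v * nm l k w * ((l ^ k * v * (l ^ k)⁻¹) * (l ^ k * w * (l ^ k)⁻¹))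
        = nm l k v * (nm l k w * (l ^ k * v * (l ^ k)⁻¹)) * (l ^ k * w * (l ^ k)⁻¹) := by group
      _ = nm l k v * ((l ^ k * v * (l ^ k)⁻¹) * nm l k w) * (l ^ k * w * (l ^ k)⁻¹) := by rw [h3]
      _ = _ := by group

theorem nm_shift (l : G) (k : ℕ) (w : G) : w * (l * nm l k w * l⁻¹) = nm l (k + 1) w := by
  induction k with
  | zero => simp [nm_zero, nm_succ]
  | succ k ih =>
    have e : l * nm l (k + 1) w * l⁻¹ = (l * nm l k w * l⁻¹) * (l ^ (k + 1) * w * (l ^ (k + 1))⁻¹) := by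
      rw [nm_succ, pow_succ']; group
    rw [e, nm_succ l (k + 1), ← ih]
    group

theorem nm_fix {l w : G} (h : l * w = w * l) (k : ℕ) : nm l k w = w ^ k := by
  have hc : Commute l w := h
  induction k with
  | zero => simp [nm_zero]
  | succ k ih => rw [nm_succ, ih, (hc.pow_left k).eq, mul_inv_cancel_right, pow_succ]

end nm

variable {G : Type u} [Group G] [Finite G] {S : Sylow 2 G} {X T Y L₀ L N : Subgroup G} {p ξ : G}

/-- `N ≤ O₂(L)` -/
theorem Nt.le_o2 (n : Nt S X T Y L N p ξ) (h : Lev S X T Y L₀ L) : N ≤ o2 L := by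
  have hYX : Y ≤ X := h.yc.le.trans ((Block.zc_le _).trans (Block.o2_le X))
  have hpL : p ∈ L := by
    obtain ⟨q, hq⟩ : ∃ q, q = ξ * p * ξ⁻¹ := ⟨_, rfl⟩
    have h2 := n.x2
    have hqN := n.qN
    have hqq := n.qq
    rw [← hq] at h2 hqN hqq
    have h3 : ξ * q * ξ⁻¹ = p * q := by rw [← h2, hq]; group
    have h4 : p = ξ * (q * ξ⁻¹ * q⁻¹) := by
      have e : ξ * (q * ξ⁻¹ * q⁻¹) = (ξ * q * ξ⁻¹) * q⁻¹ := by group
      rw [e, h3, mul_inv_cancel_right]
    rw [h4]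
    refine mul_mem n.xL ?_
    exact conj_mem_of_normalizer h.cmp.cp.norm (hYX (n.le hqN)) (inv_mem n.xL)
  have hNL : N ≤ L := by
    intro m hm
    rcases (n.mem m).1 hm with rfl | ⟨l, hl, rfl⟩
    · exact one_mem _
    · exact mul_mem (mul_mem hl hpL) (inv_mem hl)
  refine Block.le_o2 ?_ hNL (h.cmp.cp.le.trans n.norm)
  exact (o2_isPGroup X).to_le (n.le.trans (h.yc.le.trans (Block.zc_le _)))

theorem Lev.o2_le (h : Lev S X T Y L₀ L) : o2 L ≤ o2 X := by
  refine Block.le_o2 (o2_isPGroup L) ((Block.o2_le L).trans h.cmp.cp.le) ?_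
  intro m hm
  rw [ChoiceBase.mem_normalizer_iff_cj, ← ChoiceSit.o2_cj, ChoiceBase.cj_eq_of_mem_normalizer (h.cmp.cp.norm hm)]

theorem Nt.le_zc (n : Nt S X T Y L N p ξ) (h : Lev S X T Y L₀ L) : N ≤ zc (o2 L) := by
  intro m hm
  refine Block.mem_zc (n.le_o2 h hm) (fun b hb => ?_) (by rw [pow_two]; exact n.sq m hm)
  exact Block.zc_comm (h.o2_le hb) (h.yc.le (n.le hm))

/-- elements of order 7 modulo `O₂(L)` have no fixed points on `N` -/
theorem Nt.fpf (n : Nt S X T Y L N p ξ) (h : Lev S X T Y L₀ L) {l : G} (hl : l ∈ L) (hl7 : l ^ 7 ∈ o2 L)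
    (hl1 : l ∉ o2 L) {w : G} (hw : w ∈ N) (hlw : l * w = w * l) : w = 1 := by
  have hf7 : Fact (Nat.Prime 7) := ⟨by norm_num⟩
  have hlN : ∀ m ∈ N, l * m * l⁻¹ ∈ N := fun m hm => n.LN h.cmp.cp.le hl hm
  have hcN : ∀ b ∈ o2 L, ∀ m ∈ N, b * m = m * b := fun b hb m hm => Block.zc_comm hb (n.le_zc h hm)
  -- the automorphism of `N`
  obtain ⟨φ, hφ⟩ : ∃ φ : MulAut N, ∀ m : N, ((φ m : N) : G) = l * m * l⁻¹ := by
    have hN : normalizer (N : Set G) = normalizer (N : Set G) := rfl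
    refine ⟨MulAut.conjNormal (H := N.subgroupOf (normalizer (N : Set G))) ⟨l, n.norm (h.cmp.cp.le hl)⟩ |> fun ψ =>
      ((Subgroup.subgroupOfEquivOfLe (le_normalizer : N ≤ normalizer (N : Set G))).symm.trans ψ).trans
        (Subgroup.subgroupOfEquivOfLe (le_normalizer : N ≤ normalizer (N : Set G))), fun m => rfl⟩
  have hpow : ∀ (k : ℕ) (m : N), (((φ ^ k) m : N) : G) = l ^ k * m * (l ^ k)⁻¹ := by
    intro k
    induction k with
    | zero => intro m; simp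
    | succ k ih =>
      intro m
      rw [pow_succ, MulAut.mul_apply, ih, hφ, pow_succ]
      group
  have h7 : φ ^ 7 = 1 := by
    apply MulEquiv.ext
    intro m
    apply Subtype.ext
    rw [hpow]
    show l ^ 7 * (m : G) * (l ^ 7)⁻¹ = m
    rw [hcN _ hl7 m m.2, mul_inv_cancel_right]
  have hne : φ ≠ 1 := by
    intro h1
    apply hl1
    rw [← n.faith]
    refine ⟨hl, mem_centralizer_iff.2 fun m hm => ?_⟩
    have h2 := hφ ⟨m, hm⟩
    rw [h1] at h2
    change m = l * m * l⁻¹ at h2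
    rw [eq_mul_inv_iff_mul_eq] at h2
    exact h2
  have ho : orderOf φ = 7 := orderOf_eq_prime h7 hne
  have hp7 : IsPGroup 7 (zpowers φ) := by
    apply IsPGroup.of_card (n := 1)
    rw [Nat.card_zpowers, ho, pow_one]
  have h8 := hp7.card_modEq_card_fixedPoints N
  rw [n.card] at h8
  have hfix : ∀ m : N, m ∈ MulAction.fixedPoints (zpowers φ) N ↔ φ m = m := by
    intro m
    constructor
    · intro hm
      have := hm ⟨φ, mem_zpowers φ⟩
      exact this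
    · rintro hm ⟨g, k, rfl⟩
      show (φ ^ k) m = m
      have : ∀ j : ℤ, (φ ^ j) m = m := by
        intro j
        have hs : φ ∈ MulAction.stabilizer (MulAut N) m := hm
        exact zpow_mem hs j
      exact this k
  have h9 : Nat.card (MulAction.fixedPoints (zpowers φ) N) ≠ 8 := by
    intro h9
    apply hne
    apply MulEquiv.ext
    intro m
    have h10 : MulAction.fixedPoints (zpowers φ) N = Set.univ := by
      apply Set.eq_of_subset_of_ncard_le (Set.subset_univ _)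
      rw [Set.ncard_univ, n.card]
      exact h9.ge
    exact (hfix m).1 (by rw [h10]; trivial)
  have h10 : Nat.card (MulAction.fixedPoints (zpowers φ) N) ≤ 8 := by
    rw [← n.card]
    exact Nat.card_le_card_of_injective _ Subtype.val_injective
  have h11 : Nat.card (MulAction.fixedPoints (zpowers φ) N) = 1 := by
    have h12 : 8 % 7 = Nat.card (MulAction.fixedPoints (zpowers φ) N) % 7 := h8
    omega
  have hw1 : (⟨w, hw⟩ : N) ∈ MulAction.fixedPoints (zpowers φ) N := by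
    rw [hfix]
    apply Subtype.ext
    rw [hφ]
    show l * w * l⁻¹ = w
    rw [hlw, mul_inv_cancel_right]
  have h12 : (1 : N) ∈ MulAction.fixedPoints (zpowers φ) N := by rw [hfix, map_one]
  have h13 := (Nat.card_eq_one_iff_unique.1 h11).1
  have h14 : (⟨_, hw1⟩ : MulAction.fixedPoints (zpowers φ) N) = ⟨_, h12⟩ := Subsingleton.elim _ _
  exact congrArg (fun z : MulAction.fixedPoints (zpowers φ) N => ((z : N) : G)) h14

theorem nm_conj {G : Type*} [Group G] (l g w : G) (k : ℕ) : nm l k (g * w * g⁻¹) = g * nm (g⁻¹ * l * g) k w * g⁻¹ := by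
  induction k with
  | zero => simp [nm_zero]
  | succ k ih =>
    have e : (g⁻¹ * l * g) ^ k = g⁻¹ * l ^ k * g := by
      have := conj_pow (i := k) (a := g⁻¹) (b := l)
      rwa [inv_inv] at this
    rw [nm_succ, ih, nm_succ, e]
    group

theorem Nt.nm_eq (n : Nt S X T Y L N p ξ) (h : Lev S X T Y L₀ L) {l : G} (hl : l ∈ L) (hl7 : l ^ 7 ∈ o2 L)
    (hl1 : l ∉ o2 L) {w : G} (hw : w ∈ N) : nm l 7 w = 1 := by
  have hlN : ∀ m ∈ N, l * m * l⁻¹ ∈ N := fun m hm => n.LN h.cmp.cp.le hl hm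
  have h1 : nm l 7 w ∈ N := (nm_mem hlN hw 7).2
  refine n.fpf h hl hl7 hl1 h1 ?_
  have h2 := nm_shift l 7 w
  have h3 : l ^ 7 * w * (l ^ 7)⁻¹ = w := by
    rw [Block.zc_comm hl7 (n.le_zc h hw), mul_inv_cancel_right]
  have h4 : nm l (7 + 1) w = nm l 7 w * (l ^ 7 * w * (l ^ 7)⁻¹) := rfl
  rw [h4, h3, n.comm _ h1 w hw] at h2
  exact mul_inv_eq_iff_eq_mul.1 (mul_left_cancel h2)

theorem exists_central' {T E : Subgroup G} (hT : IsPGroup 2 T) (hET : E ≤ T) (hn : T ≤ normalizer (E : Set G))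
    (hE : E ≠ ⊥) : ∃ c ∈ E, c ≠ 1 ∧ ∀ t ∈ T, t * c = c * t := by
  have hpf : Fact (Nat.Prime 2) := ⟨Nat.prime_two⟩
  have hN : Group.IsNilpotent T := hT.isNilpotent
  have h1 : (E.subgroupOf T).Normal := normal_subgroupOf_of_le_normalizer hn
  have hne : E.subgroupOf T ≠ ⊥ := by
    intro hb
    apply hE
    have h3 := congrArg (Subgroup.map T.subtype) hb
    rwa [Subgroup.subgroupOf_map_subtype, Subgroup.map_bot, inf_eq_left.mpr hET] at h3
  have h2 := Cfsg.Agent.Lib.NormalAbelian.normal_inf_center_ne_bot (E.subgroupOf T) hne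
  obtain ⟨c, hc1⟩ := Subgroup.ne_bot_iff_exists_ne_one.1 h2
  have hc := c.2
  refine ⟨((c : T) : G), hc.1, fun h => hc1 (Subtype.ext (Subtype.ext h)), fun t ht => ?_⟩
  exact congrArg Subtype.val (mem_center_iff.1 hc.2 ⟨t, ht⟩)

theorem normalizer_le_normalizer_zc_o2 (L : Subgroup G) :
    normalizer (L : Set G) ≤ normalizer (zc (o2 L) : Set G) :=
  (normalizer_le_normalizer_o2 L).trans (VModule.normalizer_le_normalizer_zc _)

/-- **`L` moves `Ω₁Z(T₁)`** -/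
theorem Nt.exists_moved (n : Nt S X T Y L N p ξ) (h : Lev S X T Y L₀ L) {T₁ : Subgroup G} (hT : IsPGroup 2 T₁)
    (hTM : T₁ ≤ normalizer (L : Set G)) (hoT : o2 L ≤ T₁) : ∃ z ∈ zc T₁, ∃ l ∈ L, l * z ≠ z * l := by
  have hf7 : Fact (Nat.Prime 7) := ⟨by norm_num⟩
  -- an element of order 7
  have hQn : (pCore 2 L).Normal := Lib.Cores.pCore_normal 2
  obtain ⟨q, hq⟩ := exists_prime_orderOf_dvd_card' (G := L ⧸ pCore 2 L) 7 (by rw [h.cmp.sev.card]; norm_num)
  obtain ⟨l, rfl⟩ := QuotientGroup.mk_surjective q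
  have hl7 : (l : G) ^ 7 ∈ o2 L := by
    have h1 : ((l ^ 7 : L) : L ⧸ pCore 2 L) = 1 := by
      rw [QuotientGroup.mk_pow, ← hq, pow_orderOf_eq_one]
    exact ⟨l ^ 7, (QuotientGroup.eq_one_iff _).1 h1, rfl⟩
  have hl1 : (l : G) ∉ o2 L := by
    rintro ⟨m, hm, hml⟩
    have h1 : m = l := Subtype.ext hml
    rw [h1] at hm
    have h2 : ((l : L) : L ⧸ pCore 2 L) = 1 := (QuotientGroup.eq_one_iff _).2 hm
    rw [h2, orderOf_one] at hq
    norm_num at hq
  -- `W`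
  obtain ⟨W, hW⟩ : ∃ W, W = LemX.nc (normalizer (L : Set G)) N := ⟨_, rfl⟩
  have hWZ : W ≤ zc (o2 L) := by rw [hW]; exact LemX.nc_le (n.le_zc h) (normalizer_le_normalizer_zc_o2 L)
  have hNW : N ≤ W := by rw [hW]; exact LemX.le_nc _ _
  have hMW : normalizer (L : Set G) ≤ normalizer (W : Set G) := by rw [hW]; exact LemX.le_normalizer_nc _ _
  have hlZ : ∀ z ∈ zc (o2 L), (l : G) * z * (l : G)⁻¹ ∈ zc (o2 L) := fun z hz =>
    (mem_normalizer_iff.1 (normalizer_le_normalizer_zc_o2 L (le_normalizer l.2)) z).1 hz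
  have hZc : ∀ a ∈ zc (o2 L), ∀ b ∈ zc (o2 L), a * b = b * a := fun a ha b hb => Block.zc_comm (Block.zc_le _ ha) hb
  have hZs : ∀ a ∈ zc (o2 L), a * a = 1 := fun a ha => by
    have := Block.zc_sq ha
    rwa [pow_two] at this
  obtain ⟨D, hD⟩ : ∃ D : Subgroup G, ∀ w, w ∈ D ↔ w ∈ zc (o2 L) ∧ nm (l : G) 7 w = 1 := by
    refine ⟨{ carrier := {w | w ∈ zc (o2 L) ∧ nm (l : G) 7 w = 1}
              mul_mem' := fun {a b} ha hb => ⟨mul_mem ha.1 hb.1, by
                rw [nm_mul hlZ hZc ha.1 hb.1, ha.2, hb.2, one_mul]⟩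
              one_mem' := ⟨one_mem _, by rw [nm_fix (by rw [mul_one, one_mul]), one_pow]⟩
              inv_mem' := fun {a} ha => by
                have h1 : a⁻¹ = a := sq_inv (hZs a ha.1)
                show a⁻¹ ∈ zc (o2 L) ∧ nm (l : G) 7 a⁻¹ = 1
                rw [h1]; exact ha }, fun w => Iff.rfl⟩
  have hWD : W ≤ D := by
    rw [hW]
    refine iSup_le fun g => ?_
    rintro _ ⟨m, hm, rfl⟩
    rw [hD]
    show (g : G) * m * (g : G)⁻¹ ∈ zc (o2 L) ∧ nm (l : G) 7 ((g : G) * m * (g : G)⁻¹) = 1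
    refine ⟨(mem_normalizer_iff.1 (normalizer_le_normalizer_zc_o2 L g.2) m).1 (n.le_zc h hm), ?_⟩
    have hgo := normalizer_le_normalizer_o2 L g.2
    have e : ((g : G)⁻¹ * l * g) ^ 7 = (g : G)⁻¹ * (l : G) ^ 7 * g := by
      have := conj_pow (i := 7) (a := (g : G)⁻¹) (b := (l : G))
      rwa [inv_inv] at this
    rw [nm_conj, n.nm_eq h (conj_mem_of_normalizer' le_rfl g.2 l.2) ?_ ?_ hm]
    · group
    · rw [e]; exact conj_mem_of_normalizer' le_rfl hgo hl7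
    · intro h1
      apply hl1
      have h2 := (mem_normalizer_iff.1 hgo _).1 h1
      have e2 : (g : G) * ((g : G)⁻¹ * l * g) * (g : G)⁻¹ = l := by group
      rwa [e2] at h2
  have hWb : W ≠ ⊥ := by
    intro h1
    apply n.p1
    have h2 := hNW n.pN
    rwa [h1, mem_bot] at h2
  obtain ⟨c, hc, hc1, hcT⟩ := exists_central' hT (hWZ.trans ((Block.zc_le _).trans hoT)) (hTM.trans hMW) hWb
  refine ⟨c, Block.mem_zc (((Block.zc_le _).trans hoT) (hWZ hc)) hcT (Block.zc_sq (hWZ hc)), l, l.2, fun hlc => ?_⟩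
  have h1 := ((hD c).1 (hWD hc)).2
  rw [nm_fix hlc] at h1
  apply hc1
  have h2 := hZs c (hWZ hc)
  have h3 : c ^ 7 = (c * c) * (c * c) * (c * c) * c := by
    rw [show (7 : ℕ) = 1 + 1 + 1 + 1 + 1 + 1 + 1 by norm_num]
    simp only [pow_add, pow_one]
    group
  rw [h3, h2, one_mul, one_mul, one_mul] at h1
  exact h1

end Cfsg.Agent.OddCyclic.L32
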