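import Cfsg.Agent.OddCyclic.L32.KFact
import Cfsg.Agent.OddCyclic.UniPiece
import Cfsg.Agent.OddCyclic.RedCtx
import Cfsg.Agent.OddCyclic.CompStart
import Cfsg.Agent.MinSimple.EmptyTI

/-!
# S0342, (C2), [Bc] section 1: uniqueness over `L J`

`Sev S L`: `L` perfect, `L/O₂(L)` simple of order 168, `J = J(S)` normalises `L` and `L = [L, J]` modulo `O₂(L)`.
`Sev.cp`: `L` is normal in every `X ≥ L J(S)` with `O₂(X) ≠ 1`.
-/

set_option autoImplicit false
set_option linter.unusedSectionVars false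

namespace Cfsg.Agent.OddCyclic.L32

open Subgroup Cfsg Cfsg.Agent.ZN Cfsg.Agent.MinSimple Cfsg.Agent.OddCyclic.UniStruct
open Cfsg.Agent.ZN.Block (o2_isPGroup le_normalizer_o2 le_o2 o2_le conj_mem_of_normalizer conj_mem_of_normalizer'
  le_normalizer_of_forall)
open scoped commutatorElement
open Cfsg.Agent.OddCyclic.T1Defs (OddCyc)
open Cfsg.Agent.OddCyclic.CompBasic
open Cfsg.Agent.OddCyclic.CompStart (SecZero)
open Cfsg.Agent.ZN.ChoiceBase (cj mem_cj)

universe u

theorem relIndex_sup_of_le_normalizer {G : Type u} [Group G] {K S : Subgroup G} (h : S ≤ normalizer (K : Set G)) :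
    K.relIndex (S ⊔ K) = K.relIndex S := by
  have hn : (K.subgroupOf (S ⊔ K)).Normal := normal_subgroupOf_of_le_normalizer (sup_le h le_normalizer)
  have h1 : K.relIndex (S ⊔ K) = (K.subgroupOf (S ⊔ K)).relIndex ((S.subgroupOf (S ⊔ K)) ⊔ (K.subgroupOf (S ⊔ K))) := by
    rw [← Subgroup.subgroupOf_sup le_sup_left le_sup_right, Subgroup.subgroupOf_self, Subgroup.relIndex_top_right]
    rfl
  rw [h1, Subgroup.relIndex_sup_right, Subgroup.relIndex_subgroupOf le_sup_left]

/-- `A → R` surjective with kernel in `O₂(A)`, `A/O₂(A)` simple of order 168: `R = B` for `R ≤ B` in the list -/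
theorem top_of_hom {A B : Type u} [Group A] [Finite A] [Group B] [Finite B] (hA : TS A)
    (h168 : Nat.card (A ⧸ pCore 2 A) = 168) (f : A →* B) (hf : f.ker ≤ pCore 2 A) (hB : PumpMain.KZero B)
    (hc : OddCyc B) : f.range = ⊤ ∧ Nat.card B = 168 := by
  have hn : (pCore 2 A).Normal := Lib.Cores.pCore_normal 2
  obtain ⟨N, hN⟩ : ∃ N : Subgroup f.range, N = (pCore 2 A).map f.rangeRestrict := ⟨_, rfl⟩
  have hNn : N.Normal := by rw [hN]; exact hn.map _ f.rangeRestrict_surjective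
  have hN2 : IsPGroup 2 N := by rw [hN]; exact (Lib.Cores.pCore_isPGroup 2).map _
  obtain ⟨g, hg⟩ : ∃ g : A →* f.range ⧸ N, g = (QuotientGroup.mk' N).comp f.rangeRestrict := ⟨_, rfl⟩
  have hgs : Function.Surjective g := by
    rw [hg]
    exact (QuotientGroup.mk'_surjective N).comp f.rangeRestrict_surjective
  have hgk : g.ker = pCore 2 A := by
    rw [hg, ← MonoidHom.comap_ker, QuotientGroup.ker_mk', hN, Subgroup.comap_map_eq, MonoidHom.ker_rangeRestrict]
    exact sup_eq_left.2 hf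
  have e : A ⧸ pCore 2 A ≃* f.range ⧸ N :=
    (QuotientGroup.quotientMulEquivOfEq hgk.symm).trans (QuotientGroup.quotientKerEquivOfSurjective g hgs)
  have hs : IsSimpleGroup (f.range ⧸ N) := by
    have : IsSimpleGroup (A ⧸ pCore 2 A) := hA
    exact e.symm.isSimpleGroup
  exact KFact.eq_top hB hc hN2 hs (by rw [← Nat.card_congr e.toEquiv, h168])

variable {G : Type u} [Group G] [Finite G]

/-- `L` is perfect, `L/O₂(L)` simple of order 168, `J(S)` normalises `L` and moves it modulo `O₂(L)` -/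
structure Sev (S : Sylow 2 G) (L : Subgroup G) : Prop where
  perf : ⁅L, L⁆ = L
  simp : TS L
  card : Nat.card (L ⧸ pCore 2 L) = 168
  norm : jj (S : Subgroup G) ≤ normalizer (L : Set G)
  moved : ¬ ⁅L, jj (S : Subgroup G)⁆ ≤ o2 L

theorem _root_.Cfsg.Agent.OddCyclic.UniStruct.TS.not_isPGroup' {L : Subgroup G} (h : TS L) : ¬ IsPGroup 2 L :=
  h.not_isPGroup

/-- a normal subgroup of `L` is a 2-group or `L` -/
theorem eq_of_normal {L N : Subgroup G} (hp : ⁅L, L⁆ = L) (hs : TS L) (hNL : N ≤ L) (hN : L ≤ normalizer (N : Set G))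
    (h2 : ¬ IsPGroup 2 N) : N = L := by
  have h1 : (N.subgroupOf L).Normal := normal_subgroupOf_of_le_normalizer hN
  have h2 := eq_top_of_normal (isPerfect_of hp) hs h1 (fun h3 => h2 (by
    have h4 := h3.map L.subtype
    rwa [Subgroup.subgroupOf_map_subtype, inf_eq_left.2 hNL] at h4))
  exact le_antisymm hNL (subgroupOf_eq_top.1 h2)

variable {S : Sylow 2 G} {L X : Subgroup G}

/-- `O₂(X)` normalises `J(S) ≤ X` -/
theorem o2_le_normalizer_jj (hJX : jj (S : Subgroup G) ≤ X) : o2 X ≤ normalizer (jj (S : Subgroup G) : Set G) := by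
  have hf : Fact (Nat.Prime 2) := ⟨Nat.prime_two⟩
  have h1 : IsPGroup 2 (o2 X ⊔ jj (S : Subgroup G) : Subgroup G) :=
    IsPGroup.to_sup_of_normal_left' (o2_isPGroup X) (S.isPGroup'.to_le (jj_le _)) (hJX.trans (Block.le_normalizer_o2 X))
  exact le_sup_left.trans (EmptyTI.le_normalizer_jj S h1 le_sup_right)

/-- a perfect subgroup of `M`, `N ⊴ M` of index a power of 2, lies in `N` -/
theorem le_of_perfect {P M N : Subgroup G} (hP : ⁅P, P⁆ = P) (hPM : P ≤ M) (hM : M ≤ normalizer (N : Set G))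
    (h2 : ∃ n, N.relIndex M = 2 ^ n) : P ≤ N := by
  have hf : Fact (Nat.Prime 2) := ⟨Nat.prime_two⟩
  have hn : (N.subgroupOf M).Normal := normal_subgroupOf_of_le_normalizer hM
  obtain ⟨n, hn2⟩ := h2
  have h3 : IsPGroup 2 (M ⧸ N.subgroupOf M) := by
    apply IsPGroup.of_card (n := n)
    rw [← Subgroup.index_eq_card]
    exact hn2
  have h4 : ((P.subgroupOf M).map (QuotientGroup.mk' (N.subgroupOf M))) = ⊥ := by
    apply eq_bot_of_isPGroup
    · rw [← Subgroup.map_commutator]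
      congr 1
      apply Subgroup.map_injective M.subtype_injective
      rw [Subgroup.map_commutator, Subgroup.subgroupOf_map_subtype, inf_eq_left.2 hPM, hP]
    · exact h3.to_subgroup _
  rw [Subgroup.map_eq_bot_iff, QuotientGroup.ker_mk'] at h4
  intro p hp
  exact h4 (show (⟨p, hPM hp⟩ : M) ∈ P.subgroupOf M from hp)

/-- `O₂(X)` normalises `L`, if `L J(S) ≤ X` -/
theorem Sev.o2_le_normalizer (h : Sev S L) (hLX : L ≤ X) (hJX : jj (S : Subgroup G) ≤ X) :
    o2 X ≤ normalizer (L : Set G) := by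
  have hf : Fact (Nat.Prime 2) := ⟨Nat.prime_two⟩
  obtain ⟨W, hW⟩ : ∃ W, W = LemX.nc L (jj (S : Subgroup G)) := ⟨_, rfl⟩
  have hLW : L ≤ normalizer (W : Set G) := by rw [hW]; exact LemX.le_normalizer_nc _ _
  have hJW : jj (S : Subgroup G) ≤ W := by rw [hW]; exact LemX.le_nc _ _
  -- `O₂(X)` normalises `W`
  have hQW : o2 X ≤ normalizer (W : Set G) := by
    refine le_normalizer_of_forall fun q hq w hw => ?_
    have h1 : W ≤ W.comap (MulAut.conj q).toMonoidHom := by
      conv_lhs => rw [hW]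
      refine iSup_le fun l => ?_
      rintro _ ⟨j, hj, rfl⟩
      show q * ((l : G) * j * (l : G)⁻¹) * q⁻¹ ∈ W
      have h2 : (l : G)⁻¹ * q * (l : G)⁻¹⁻¹ ∈ o2 X :=
        conj_mem_of_normalizer (Block.le_normalizer_o2 X) (inv_mem (hLX l.2)) hq
      have h3 := conj_mem_of_normalizer (le_normalizer_of_forall fun l hl m hm =>
        (mem_normalizer_iff.1 (o2_le_normalizer_jj hJX hl) m).1 hm : o2 X ≤ normalizer _) h2 hj
      have h4 := conj_mem_of_normalizer hLW l.2 (hJW h3)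
      have e : (l : G) * ((l : G)⁻¹ * q * (l : G)⁻¹⁻¹ * j * ((l : G)⁻¹ * q * (l : G)⁻¹⁻¹)⁻¹) * (l : G)⁻¹ =
          q * ((l : G) * j * (l : G)⁻¹) * q⁻¹ := by group
      rwa [e] at h4
    exact h1 hw
  -- `W ≤ L J`
  obtain ⟨U, hU⟩ : ∃ U, U = L ⊔ jj (S : Subgroup G) := ⟨_, rfl⟩
  have hUL : U ≤ normalizer (L : Set G) := by rw [hU]; exact sup_le le_normalizer h.norm
  have hWU : W ≤ U := by
    rw [hW]
    refine LemX.nc_le (by rw [hU]; exact le_sup_right) ?_
    exact (by rw [hU]; exact le_sup_left : L ≤ U).trans le_normalizer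
  have hind : ∃ n, L.relIndex U = 2 ^ n := by
    have h1 : L.relIndex U = L.relIndex (jj (S : Subgroup G)) := by
      rw [hU, sup_comm]; exact relIndex_sup_of_le_normalizer h.norm
    have h2 : IsPGroup 2 (jj (S : Subgroup G)) := S.isPGroup'.to_le (jj_le _)
    rw [h1, Subgroup.relIndex]
    exact h2.index _
  -- `L ≤ W`
  have hL : L ≤ W := by
    have h1 : L ⊓ W = L := by
      refine eq_of_normal h.perf h.simp inf_le_left ?_ ?_
      · exact (le_inf le_normalizer hLW).trans inf_normalizer_le_normalizer_inf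
      · intro h2
        apply h.moved
        refine (?_ : ⁅L, jj (S : Subgroup G)⁆ ≤ L ⊓ W).trans (le_o2 h2 inf_le_left
          ((le_inf le_normalizer hLW).trans inf_normalizer_le_normalizer_inf))
        rw [commutator_le]
        intro l hl j hj
        rw [commutatorElement_def]
        refine ⟨?_, ?_⟩
        · rw [mul_assoc, mul_assoc]
          refine mul_mem hl ?_
          rw [← mul_assoc]
          exact conj_mem_of_normalizer h.norm hj (inv_mem hl)
        · exact W.mul_mem (conj_mem_of_normalizer hLW hl (hJW hj)) (W.inv_mem (hJW hj))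
    rw [← h1]; exact inf_le_right
  -- conjugates of `L`
  refine le_normalizer_of_forall fun q hq l hl => ?_
  have h1 : cj q L ≤ L := by
    refine le_of_perfect (M := U) ?_ ?_ hUL hind
    · rw [ChoiceBase.cj, ← Subgroup.map_commutator, h.perf]
    · rintro _ ⟨l, hl, rfl⟩
      exact hWU (conj_mem_of_normalizer hQW hq (hL hl))
  exact h1 ⟨l, hl, rfl⟩

/-- **(1.1)** `L` is normal in every `X ≥ L J(S)` with `O₂(X) ≠ 1`. -/
theorem Sev.cp (hG : Hyp G) (hs : SecZero G) (h : Sev S L) (hX : o2 X ≠ ⊥) (hXt : X ≠ ⊤) (hLX : L ≤ X)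
    (hJX : jj (S : Subgroup G) ≤ X) : Cp X L := by
  obtain ⟨K, hK, hLK⟩ := exists_cp hG hX hLX h.perf h.simp
  have hQ : (pCore 2 K).Normal := Lib.Cores.pCore_normal 2
  have hcK : OddCyc K := oddCyc_subgroup hG.cyc K
  have hcq : OddCyc (K ⧸ pCore 2 K) := oddCyc_quotient hcK (pCore 2 K)
  have hsimp : IsSimpleGroup (K ⧸ pCore 2 K) := hK.simp
  have hKt : K ≠ ⊤ := fun h0 => hXt (top_le_iff.1 (h0 ▸ hK.le))
  -- the image of `L` in `K/O₂(K)`
  obtain ⟨f, hf⟩ : ∃ f : L →* K ⧸ pCore 2 K, f = (QuotientGroup.mk' (pCore 2 K)).comp (Subgroup.inclusion hLK) :=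
    ⟨_, rfl⟩
  have hker : f.ker ≤ pCore 2 L := by
    refine Lib.Cores.le_pCore inferInstance ?_
    intro y
    have h4 : f (y : L) = 1 := y.2
    have h5 : ∀ l : L, f l = (QuotientGroup.mk' (pCore 2 K)) (Subgroup.inclusion hLK l) := by
      intro l
      rw [hf]
      rfl
    have h4 := (h5 y).symm.trans h4
    have h3 : Subgroup.inclusion hLK (y : L) ∈ pCore 2 K := (QuotientGroup.eq_one_iff _).1 h4
    obtain ⟨k, hk⟩ := Lib.Cores.pCore_isPGroup 2 (⟨_, h3⟩ : pCore 2 K)
    refine ⟨k, ?_⟩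
    apply Subtype.ext
    apply Subtype.ext
    have hk2 := congrArg (fun z : pCore 2 K => ((z : K) : G)) hk
    simpa using hk2
  have hK0 : PumpMain.KZero (K ⧸ pCore 2 K) := by
    refine hs K hKt (pCore 2 K) hsimp ?_
    by_contra hcom
    push Not at hcom
    have h1 : Group.IsPerfect (K ⧸ pCore 2 K) := by
      have := isPerfect_of hK.perf
      infer_instance
    have h2 : Nontrivial (K ⧸ pCore 2 K) := hsimp.toNontrivial
    have h3 : ⁅(⊤ : Subgroup (K ⧸ pCore 2 K)), (⊤ : Subgroup (K ⧸ pCore 2 K))⁆ = ⊥ := by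
      rw [eq_bot_iff, commutator_le]
      intro a _ b _
      rw [mem_bot, commutatorElement_def, hcom a b]
      group
    have h4 : (⊤ : Subgroup (K ⧸ pCore 2 K)) = ⊥ := by
      rw [← h3]
      exact h1.commutator_eq_top.symm
    obtain ⟨a, ha⟩ := exists_ne (1 : K ⧸ pCore 2 K)
    have h5 : a ∈ (⊥ : Subgroup (K ⧸ pCore 2 K)) := by rw [← h4]; exact mem_top a
    exact ha (mem_bot.1 h5)
  obtain ⟨htop, -⟩ := top_of_hom h.simp h.card f hker hK0 hcq
  -- `K = L O₂(K)`
  have hKL : K ≤ normalizer (L : Set G) := by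
    intro k hk
    have h1 : QuotientGroup.mk' (pCore 2 K) ⟨k, hk⟩ ∈ f.range := by rw [htop]; exact mem_top _
    obtain ⟨l, hl⟩ := h1
    have h2 : (⟨(l : G), hLK l.2⟩ : K)⁻¹ * ⟨k, hk⟩ ∈ pCore 2 K := by
      rw [← QuotientGroup.eq_one_iff, QuotientGroup.mk_mul, QuotientGroup.mk_inv]
      have h3 : f l = ((⟨(l : G), hLK l.2⟩ : K) : K ⧸ pCore 2 K) := by
        conv_lhs => rw [hf]
        rfl
      rw [← h3, hl]
      exact inv_mul_cancel _
    have h3 : (l : G)⁻¹ * k ∈ o2 K := ⟨_, h2, rfl⟩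
    have h4 : o2 K ≤ o2 X := by
      refine Block.le_o2 (o2_isPGroup K) ((Block.o2_le K).trans hK.le) ?_
      intro m hm
      rw [ChoiceBase.mem_normalizer_iff_cj, ← ChoiceSit.o2_cj, ChoiceBase.cj_eq_of_mem_normalizer (hK.norm hm)]
    have h5 := h.o2_le_normalizer hLX hJX (h4 h3)
    have h6 := mul_mem (le_normalizer l.2 : (l : G) ∈ normalizer (L : Set G)) h5
    rwa [mul_inv_cancel_left] at h6
  have hLK' : L = K := eq_of_normal hK.perf hK.simp hLK hKL h.simp.not_isPGroup'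
  rw [hLK']; exact hK

end Cfsg.Agent.OddCyclic.L32
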